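import Cfsg.Agent.Lib.Invol.Basic
import Cfsg.Agent.Lib.Invol.BrauerSuzuki
import Cfsg.Agent.Lib.Perm.AbelianZStar
import Cfsg.Prelude.Def_Involutions

/-!
Small tools on involutions acting on subgroups of odd order.
-/

set_option autoImplicit false

namespace CfsgLib.Recog.SymEight

open Subgroup

variable {G : Type*} [Group G] [Finite G]

/-- An involution without fixed points on an invariant subgroup inverts it. -/
theorem inverts_of_no_fixed {R : Subgroup G} {t : G} (ht : t * t = 1)
    (hn : ∀ r ∈ R, t * r * t ∈ R) (hf : ∀ r ∈ R, Commute t r → r = 1) :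
    ∀ r ∈ R, t * r * t = r⁻¹ := by
  let f : R → R := fun r => ⟨(r : G)⁻¹ * (t * r * t), mul_mem (inv_mem r.2) (hn r r.2)⟩
  have hinj : Function.Injective f := by
    intro r s h
    have h' : (r : G)⁻¹ * (t * r * t) = (s : G)⁻¹ * (t * s * t) := congrArg Subtype.val h
    refine Subtype.ext (mul_inv_eq_one.1 (hf ((s : G) * (r : G)⁻¹) (mul_mem s.2 (inv_mem r.2))
      ?_)).symm
    have h2 : (s : G) * (r : G)⁻¹ * t = t * ((s : G) * (r : G)⁻¹) := by
      have h3 : (s : G) * (r : G)⁻¹ = t * s * t * (t * r * t)⁻¹ := by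
        calc (s : G) * (r : G)⁻¹ =
            s * ((r : G)⁻¹ * (t * r * t)) * (t * r * t)⁻¹ := by group
          _ = s * ((s : G)⁻¹ * (t * s * t)) * (t * r * t)⁻¹ := by rw [h']
          _ = t * s * t * (t * r * t)⁻¹ := by group
      have ht' : t⁻¹ = t := inv_eq_of_mul_eq_one_right ht
      calc (s : G) * (r : G)⁻¹ * t = t * s * t * (t * r * t)⁻¹ * t := by rw [h3]
        _ = t * ((s : G) * (r : G)⁻¹) := by
          simp only [mul_inv_rev, ht', mul_assoc]
          rw [← mul_assoc t t, ht, one_mul, mul_one]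
    exact h2.symm
  intro r hr
  obtain ⟨s, hs⟩ := Finite.injective_iff_surjective.1 hinj ⟨r, hr⟩
  have hs' : (s : G)⁻¹ * (t * s * t) = r := congrArg Subtype.val hs
  have ht' : t⁻¹ = t := inv_eq_of_mul_eq_one_right ht
  rw [← hs']
  simp only [mul_inv_rev, inv_inv, ht', mul_assoc]
  rw [ht, mul_one]

/-- A subgroup of odd order has no element equal to its inverse. -/
theorem eq_one_of_inverted_centralized {R : Subgroup G} (hR : Odd (Nat.card R)) {r : G} (hr : r ∈ R)
    (h : r = r⁻¹) : r = 1 := by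
  refine CfsgLib.Invol.eq_one_of_sq_of_odd (mul_eq_one_iff_eq_inv.2 h) (hR.of_dvd_nat ?_)
  have := orderOf_dvd_natCard (⟨r, hr⟩ : R)
  rwa [orderOf_mk] at this

/-- Two inverting elements have a centralising product. -/
theorem commute_of_inverts {R : Subgroup G} {s t : G} (ht : t * t = 1)
    (hs' : ∀ r ∈ R, s * r * s = r⁻¹) (ht' : ∀ r ∈ R, t * r * t = r⁻¹) {r : G} (hr : r ∈ R)
    (hst : Commute s t) : Commute (s * t) r := by
  have e : s * t * r * (t * s) = r := by
    calc s * t * r * (t * s) = s * (t * r * t) * s := by group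
      _ = r := by rw [ht' r hr, hs' _ (inv_mem hr), inv_inv]
  have hinv : t * s * (s * t) = 1 := by
    rw [← hst.eq]
    have : s * s * (t * t) = 1 := by
      have h1 := e
      have hss : s * (t * r * t) * s = r := by
        rw [ht' r hr, hs' _ (inv_mem hr), inv_inv]
      have h2 := hs' 1 (one_mem R)
      rw [mul_one, inv_one] at h2
      rw [h2, ht, one_mul]
    calc s * t * (s * t) = s * (t * s) * t := by group
      _ = s * (s * t) * t := by rw [hst.eq]
      _ = 1 := by rw [← mul_assoc, mul_assoc (s * s), this]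
  calc s * t * r = s * t * r * (t * s * (s * t)) := by rw [hinv, mul_one]
    _ = r * (s * t) := by rw [← mul_assoc, e]

/-- The product of the central involution of a dihedral group with a generator. -/
theorem isConj_half_mul {x y : G} (hx : orderOf x = 2) (hy : orderOf y = 2) (k : ℕ) :
    IsConj x ((x * y) ^ k * x) ∨ IsConj y ((x * y) ^ k * x) := by
  obtain ⟨m, hm⟩ | ⟨m, hm⟩ := Nat.even_or_odd k
  · left
    refine isConj_iff.2 ⟨(x * y) ^ (m : ℤ), ?_⟩
    rw [CfsgLib.Invol.zpow_conj_left hx hy, ← zpow_natCast, hm]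
    push_cast
    ring_nf
  · right
    refine isConj_iff.2 ⟨(x * y) ^ ((m : ℤ) + 1), ?_⟩
    have e := CfsgLib.Invol.zpow_conj_left hx hy ((m : ℤ) + 1)
    have hy' : y = (x * y) ^ (-1 : ℤ) * x := (CfsgLib.Invol.right_eq hx hy).symm
    calc (x * y) ^ ((m : ℤ) + 1) * y * ((x * y) ^ ((m : ℤ) + 1))⁻¹
        = (x * y) ^ ((m : ℤ) + 1) * ((x * y) ^ (-1 : ℤ) * x) * ((x * y) ^ ((m : ℤ) + 1))⁻¹ := by
          rw [← hy']
      _ = (x * y) ^ (-1 : ℤ) * ((x * y) ^ ((m : ℤ) + 1) * x * ((x * y) ^ ((m : ℤ) + 1))⁻¹) := by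
          simp only [← mul_assoc, ← zpow_add, add_comm ((m : ℤ) + 1) (-1)]
      _ = (x * y) ^ k * x := by
          rw [e, ← mul_assoc, ← zpow_add, ← zpow_natCast, hm]
          push_cast
          ring_nf

/-- A conjugate in the normaliser of an odd core, read through Glauberman's theorem. -/
theorem commute_of_isolated {L : Type*} [Group L] [Finite L] {r : L}
    (hr : Cfsg.IsIsolatedInvolution r) (hO : Cfsg.oddCore L = ⊥) (g : L) : Commute g r := by
  have h := CfsgLib.Invol.zstar L hr g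
  rw [hO, mem_bot, mul_inv_eq_one, mul_inv_eq_iff_eq_mul] at h
  exact h.symm

/-- A proper subgroup of even order containing every element moving one of its involutions into it
is strongly embedded. -/
theorem isStronglyEmbedded_of_conj {H : Subgroup G} (hne : H ≠ ⊤) {t : G} (ht : t ∈ H)
    (hto : orderOf t = 2)
    (h : ∀ u ∈ H, orderOf u = 2 → ∀ g : G, g * u * g⁻¹ ∈ H → g ∈ H) :
    Cfsg.IsStronglyEmbedded H := by
  refine ⟨hne, CfsgLib.Invol.even_card_of_invol_mem hto ht, fun g hg => ?_⟩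
  rw [← Nat.not_even_iff_odd]
  intro heven
  obtain ⟨x, hx, hxo⟩ := CfsgLib.Invol.exists_invol_mem heven
  obtain ⟨hxH, ⟨y, hy, hyx⟩⟩ := hx
  simp only [MulEquiv.coe_toMonoidHom, MulAut.conj_apply] at hyx
  exact hg (h y hy (by rw [← CfsgLib.Invol.orderOf_conj_eq g y, hyx, hxo]) g (hyx ▸ hxH))

end CfsgLib.Recog.SymEight
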