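import Mathlib.GroupTheory.Perm.Cycle.Type
import Mathlib.GroupTheory.Perm.Centralizer
import Mathlib.Tactic

/-!
Facts about involutions of the symmetric group of degree eight, found by a pruned search.
-/

set_option autoImplicit false
set_option linter.style.haveILetI false

namespace CfsgLib.Recog.SymEight

open Equiv

/-- The partial map `l` is injective and commutes with the members of `As` where defined. -/
def pre (As : List (Fin 8 → Fin 8)) (l : List (Fin 8)) : Bool :=
  decide l.Nodup && As.all fun A => (List.finRange 8).all fun i =>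
    !(decide (i.val < l.length) && decide ((A i).val < l.length)) ||
      decide (l.getD (A i).val 0 = A (l.getD i.val 0))

/-- Pruned search through the permutations commuting with the members of `As`. -/
def search (As : List (Fin 8 → Fin 8)) (P : (Fin 8 → Fin 8) → Bool) : ℕ → List (Fin 8) → Bool
  | 0, l => P fun i => l.getD i.val 0
  | k + 1, l => (List.finRange 8).all fun b => !(pre As (l ++ [b])) || search As P k (l ++ [b])

theorem getD_firstK (π : Fin 8 → Fin 8) (n : ℕ) (i : Fin 8) (h : i.val < n) :
    (((List.finRange 8).take n).map π).getD i.val 0 = π i := by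
  rw [List.getD_eq_getElem?_getD, List.getElem?_map, List.getElem?_take_of_lt h]
  simp

theorem pre_firstK (As : List (Fin 8 → Fin 8)) (π : Perm (Fin 8))
    (hπ : ∀ A ∈ As, ∀ i, π (A i) = A (π i)) (n : ℕ) :
    pre As (((List.finRange 8).take n).map π) = true := by
  unfold pre
  simp only [Bool.and_eq_true, decide_eq_true_eq, List.all_eq_true, Bool.or_eq_true,
    Bool.not_eq_true', Bool.and_eq_false_iff, decide_eq_false_iff_not]
  refine ⟨((List.nodup_finRange 8).sublist (List.take_sublist n _)).map π.injective, fun A hA i _ => ?_⟩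
  by_cases h : i.val < n ∧ (A i).val < n
  · right
    rw [getD_firstK π n _ h.2, getD_firstK π n _ h.1, hπ A hA i]
  · left
    have := i.isLt
    have := (A i).isLt
    simp only [List.length_map, List.length_take, List.length_finRange]
    omega

theorem search_sound {As : List (Fin 8 → Fin 8)} {P : (Fin 8 → Fin 8) → Bool}
    (h : search As P 8 [] = true) (π : Perm (Fin 8))
    (hπ : ∀ A ∈ As, ∀ i, π (A i) = A (π i)) : P π = true := by
  suffices key : ∀ k n, n + k = 8 → search As P k (((List.finRange 8).take n).map π) = true →
      P π = true from key 8 0 rfl h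
  intro k
  induction k with
  | zero =>
    intro n hn hs
    have e : (fun i : Fin 8 => (((List.finRange 8).take n).map π).getD i.val 0) = π :=
      funext fun i => getD_firstK π n i (by omega)
    simp only [search, e] at hs
    exact hs
  | succ k ih =>
    intro n hn hs
    simp only [search, List.all_eq_true, List.mem_finRange, Bool.or_eq_true, Bool.not_eq_true',
      forall_const] at hs
    have e : ((List.finRange 8).take n).map π ++ [π ⟨n, by omega⟩] =
        ((List.finRange 8).take (n + 1)).map π := by
      rw [List.take_add_one]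
      simp [show n < 8 by omega]
    rcases hs (π ⟨n, by omega⟩) with h1 | h1 <;> rw [e] at h1
    · rw [pre_firstK As π hπ (n + 1)] at h1
      exact absurd h1 (by simp)
    · exact ih (n + 1) (by omega) h1

theorem commute_apply {π A : Perm (Fin 8)} (h : Commute π A) (i : Fin 8) :
    π (A i) = A (π i) :=
  DFunLike.congr_fun h.eq i

theorem pow_apply_iterate (π : Perm (Fin 8)) (n : ℕ) (i : Fin 8) :
    (π ^ n) i = (⇑π)^[n] i := by
  rw [Equiv.Perm.coe_pow]

/-- Powers evaluated pointwise. -/
def powB (f : Fin 8 → Fin 8) (n : ℕ) : Bool :=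
  (List.finRange 8).all fun i => decide (f^[n] i = i)

theorem powB_of_pow {π : Perm (Fin 8)} {n : ℕ} (h : π ^ n = 1) : powB π n = true := by
  simp only [powB, List.all_eq_true, List.mem_finRange, decide_eq_true_eq, forall_const]
  intro i
  rw [← pow_apply_iterate, h, Perm.one_apply]

theorem eq_one_of_powB {π : Perm (Fin 8)} (h : powB π 1 = true) : π = 1 := by
  simp only [powB, List.all_eq_true, List.mem_finRange, decide_eq_true_eq, forall_const,
    Function.iterate_one] at h
  exact Equiv.ext h

/-- Pointwise commutator with an involution. -/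
def commB (f : Fin 8 → Fin 8) (e : Perm (Fin 8)) : Fin 8 → Fin 8 :=
  fun i => f (e ((List.finRange 8).findIdx (fun j => decide (f j = e i)) |> fun n => Fin.ofNat 8 n))

theorem commB_eq (π e : Perm (Fin 8)) : commB π e = ⇑(π * e * π⁻¹ * e) := by
  funext i
  have hidx : (List.finRange 8).findIdx (fun j => decide (π j = e i)) = (π⁻¹ (e i)).val := by
    rw [List.findIdx_eq (by simp)]
    refine ⟨by simp, fun j hj => ?_⟩
    simp only [List.getElem_finRange, decide_eq_false_iff_not]
    intro h
    have := congrArg (fun x => ((π⁻¹ : Perm (Fin 8)) x).val) h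
    simp at this
    subst this
    simp at hj
  simp [commB, hidx, Perm.mul_apply]

/-- The involution with one, two, three and four transpositions. -/
def t1 : Perm (Fin 8) := swap 3 4

/-- See `t1`. -/
def t2 : Perm (Fin 8) := swap 0 1 * swap 3 4

/-- See `t1`. -/
def t3 : Perm (Fin 8) := swap 0 5 * swap 1 6 * swap 2 7

/-- See `t1`. -/
def t4 : Perm (Fin 8) := swap 0 5 * swap 1 6 * swap 2 7 * swap 3 4

theorem commute_t1_of_t3 (π : Perm (Fin 8)) (h : Commute π t3) : Commute π t1 := by
  have hs : search [t3] (fun f => (List.finRange 8).all fun i => decide (f (t1 i) = t1 (f i)))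
      8 [] = true := by decide +kernel
  have := search_sound hs π (by simpa using commute_apply h)
  simp only [List.all_eq_true, List.mem_finRange, decide_eq_true_eq, forall_const] at this
  exact Equiv.ext this

theorem odd_t3_trivial (π : Perm (Fin 8)) (h : Commute π t3) (ho : π ^ 105 = 1)
    (he : (π * swap 0 5 * π⁻¹ * swap 0 5) ^ 105 = 1) : π = 1 := by
  have hs : search [t3]
      (fun f => !(powB f 105 && powB (commB f (swap 0 5)) 105) || powB f 1) 8 [] = true := by
    decide +kernel
  have := search_sound hs π (by simpa using commute_apply h)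
  rw [powB_of_pow ho, commB_eq, powB_of_pow he] at this
  exact eq_one_of_powB (by simpa using this)

theorem odd_t2_trivial (π : Perm (Fin 8)) (h : Commute π t2) (ho : π ^ 105 = 1)
    (he : (π * (swap 2 5 * swap 6 7) * π⁻¹ * (swap 2 5 * swap 6 7)) ^ 105 = 1)
    (he' : (π * (swap 2 6 * swap 5 7) * π⁻¹ * (swap 2 6 * swap 5 7)) ^ 105 = 1) : π = 1 := by
  have hs : search [t2]
      (fun f => !(powB f 105 && powB (commB f (swap 2 5 * swap 6 7)) 105 &&
        powB (commB f (swap 2 6 * swap 5 7)) 105) || powB f 1) 8 [] = true := by
    decide +kernel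
  have := search_sound hs π (by simpa using commute_apply h)
  rw [powB_of_pow ho, commB_eq, powB_of_pow he, commB_eq, powB_of_pow he'] at this
  exact eq_one_of_powB (by simpa using this)

theorem swap_no_three_t3 (a b : Fin 8) (hab : a ≠ b) (hc : Commute (swap a b) t3)
    (hne : swap a b ≠ t1) (π : Perm (Fin 8)) (h1 : Commute π t3) (h2 : Commute π (swap a b))
    (h3 : π ^ 3 = 1) : π = 1 := by
  have hs : ∀ a b : Fin 8, a ≠ b →
      ((List.finRange 8).all fun i => decide (swap a b (t3 i) = t3 (swap a b i))) = true →
      ((List.finRange 8).all fun i => decide (swap a b i = t1 i)) = false →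
      search [t3, swap a b] (fun f => !(powB f 3) || powB f 1) 8 [] = true := by
    decide +kernel
  have hne' : ((List.finRange 8).all fun i => decide (swap a b i = t1 i)) = false := by
    rw [Bool.eq_false_iff]
    intro h
    simp only [List.all_eq_true, List.mem_finRange, decide_eq_true_eq, forall_const] at h
    exact hne (Equiv.ext h)
  have := search_sound (hs a b hab (by simpa using fun i => commute_apply hc i) hne') π
    (by
      intro A hA
      simp only [List.mem_cons, List.not_mem_nil, or_false] at hA
      rcases hA with rfl | rfl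
      · exact commute_apply h1
      · exact commute_apply h2)
  rw [powB_of_pow h3] at this
  exact eq_one_of_powB (by simpa using this)

theorem swap_no_three_t2 (a b : Fin 8) (hab : a ≠ b) (hc : Commute (swap a b) t2)
    (hne : swap a b ≠ t1) (hne' : swap a b ≠ swap 0 1) (π : Perm (Fin 8)) (h1 : Commute π t2)
    (h2 : Commute π (swap a b)) (h3 : π ^ 3 = 1) : π = 1 := by
  have hs : ∀ a b : Fin 8, a ≠ b →
      ((List.finRange 8).all fun i => decide (swap a b (t2 i) = t2 (swap a b i))) = true →
      ((List.finRange 8).all fun i => decide (swap a b i = t1 i)) = false →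
      ((List.finRange 8).all fun i => decide (swap a b i = swap (0 : Fin 8) 1 i)) = false →
      search [t2, swap a b] (fun f => !(powB f 3) || powB f 1) 8 [] = true := by
    decide +kernel
  have key : ∀ e : Perm (Fin 8), swap a b ≠ e →
      ((List.finRange 8).all fun i => decide (swap a b i = e i)) = false := by
    intro e he
    rw [Bool.eq_false_iff]
    intro h
    simp only [List.all_eq_true, List.mem_finRange, decide_eq_true_eq, forall_const] at h
    exact he (Equiv.ext h)
  have := search_sound (hs a b hab (by simpa using fun i => commute_apply hc i)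
    (key _ hne) (key _ hne')) π
    (by
      intro A hA
      simp only [List.mem_cons, List.not_mem_nil, or_false] at hA
      rcases hA with rfl | rfl
      · exact commute_apply h1
      · exact commute_apply h2)
  rw [powB_of_pow h3] at this
  exact eq_one_of_powB (by simpa using this)

/-- The number of fixed points. -/
def fixCount (f : Fin 8 → Fin 8) : ℕ := ((List.finRange 8).filter fun i => decide (f i = i)).length

theorem fixCount_eq (π : Perm (Fin 8)) :
    fixCount π = (Finset.univ.filter fun i => π i = i).card := by
  rw [fixCount, Fin.univ_def]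
  rfl

theorem fixCount_conj (g π : Perm (Fin 8)) : fixCount (g * π * g⁻¹ : Perm (Fin 8)) = fixCount π := by
  rw [fixCount_eq, fixCount_eq]
  refine (Finset.card_equiv g fun i => ?_).symm
  simp only [Finset.mem_filter, Finset.mem_univ, true_and]
  simp [Perm.mul_apply]

theorem four_moving_product (π : Perm (Fin 8)) (h1 : Commute π t4) (h2 : Commute π t1)
    (hmove : fixCount π = 0) (hne : π ≠ t4) : fixCount (t4 * π : Perm (Fin 8)) ≠ 0 := by
  have hs : search [t4, t1] (fun f => decide (fixCount f ≠ 0) ||
      ((List.finRange 8).all fun i => decide (f i = t4 i)) ||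
      decide (fixCount (fun i => t4 (f i)) ≠ 0)) 8 [] = true := by decide +kernel
  have := search_sound hs π (by
    intro A hA
    simp only [List.mem_cons, List.not_mem_nil, or_false] at hA
    rcases hA with rfl | rfl
    · exact commute_apply h1
    · exact commute_apply h2)
  simp only [hmove, ne_eq, not_true_eq_false, decide_false, Bool.false_or, Bool.or_eq_true,
    List.all_eq_true, List.mem_finRange, decide_eq_true_eq, forall_const] at this
  rcases this with h | h
  · exact absurd (Equiv.ext h) hne
  · exact h

/-- Conjugators between the pairs of transpositions of `t4`. -/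
def pairMaps : List (Perm (Fin 8)) :=
  [1, swap 1 2 * swap 6 7, swap 1 3 * swap 6 4, swap 0 2 * swap 5 7, swap 0 3 * swap 5 4,
    swap 0 2 * swap 5 7 * (swap 1 3 * swap 6 4)]

theorem double_in_t4 (a b c d : Fin 8) (hd : [a, b, c, d].Nodup)
    (hc : Commute (swap a b * swap c d) t4)
    (h4 : fixCount (t4 * (swap a b * swap c d) : Perm (Fin 8)) = 4) :
    ∃ g : Perm (Fin 8), Commute g t4 ∧
      g * (swap 0 5 * swap 1 6) * g⁻¹ = swap a b * swap c d := by
  have hs : ∀ a b c d : Fin 8, [a, b, c, d].Nodup →
      ((List.finRange 8).all fun i =>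
        decide ((swap a b * swap c d : Perm (Fin 8)) (t4 i) = t4 ((swap a b * swap c d) i))) = true →
      fixCount (t4 * (swap a b * swap c d) : Perm (Fin 8)) = 4 →
      (pairMaps.any fun g => ((List.finRange 8).all fun i => decide (g (t4 i) = t4 (g i))) &&
        ((List.finRange 8).all fun i =>
          decide (g ((swap 0 5 * swap 1 6 : Perm (Fin 8)) i) = (swap a b * swap c d) (g i)))) =
        true := by
    decide +kernel
  have := hs a b c d hd (List.all_eq_true.2 fun i _ => decide_eq_true (commute_apply hc i)) h4
  simp only [List.any_eq_true, Bool.and_eq_true, List.all_eq_true, List.mem_finRange,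
    decide_eq_true_eq, forall_const] at this
  obtain ⟨g, -, hg1, hg2⟩ := this
  refine ⟨g, Equiv.ext hg1, ?_⟩
  rw [mul_inv_eq_iff_eq_mul]
  exact Equiv.ext hg2

theorem conj_swap (g : Perm (Fin 8)) (a b : Fin 8) : g * swap a b * g⁻¹ = swap (g a) (g b) := by
  rw [swap_apply_apply]

theorem exists_swap_of_isConj_t1 {π : Perm (Fin 8)} (h : IsConj t1 π) :
    ∃ a b, a ≠ b ∧ π = swap a b := by
  obtain ⟨g, rfl⟩ := isConj_iff.1 h
  exact ⟨g 3, g 4, g.injective.ne (by decide), conj_swap g 3 4⟩

theorem exists_double_of_isConj_t2 {π : Perm (Fin 8)} (h : IsConj t2 π) :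
    ∃ a b c d, [a, b, c, d].Nodup ∧ π = swap a b * swap c d := by
  obtain ⟨g, rfl⟩ := isConj_iff.1 h
  refine ⟨g 0, g 1, g 3, g 4, ?_, ?_⟩
  · exact List.Nodup.map g.injective (l := [0, 1, 3, 4]) (by decide)
  · rw [t2, ← conj_swap, ← conj_swap]
    group

theorem fixCount_t2 {π : Perm (Fin 8)} (h : IsConj t2 π) : fixCount π = 4 := by
  obtain ⟨g, rfl⟩ := isConj_iff.1 h
  rw [fixCount_conj]
  decide +kernel

theorem cycleType_t1 : t1.cycleType = Multiset.replicate 1 2 := by decide +kernel

theorem cycleType_t2 : t2.cycleType = Multiset.replicate 2 2 := by decide +kernel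

theorem cycleType_t3 : t3.cycleType = Multiset.replicate 3 2 := by decide +kernel

theorem cycleType_t4 : t4.cycleType = Multiset.replicate 4 2 := by decide +kernel

theorem invol_classes {π : Perm (Fin 8)} (h : orderOf π = 2) :
    IsConj t1 π ∨ IsConj t2 π ∨ IsConj t3 π ∨ IsConj t4 π := by
  haveI : Fact (Nat.Prime 2) := ⟨Nat.prime_two⟩
  obtain ⟨n, hn⟩ := Perm.cycleType_prime_order (hσ := by rw [h]; exact Nat.prime_two)
  rw [h] at hn
  have hsum := π.sum_cycleType
  rw [hn, Multiset.sum_replicate, smul_eq_mul] at hsum
  have hle : π.support.card ≤ 8 := by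
    simpa using Finset.card_le_univ π.support
  have hn3 : n ≤ 3 := by omega
  simp only [Perm.isConj_iff_cycleType_eq, cycleType_t1, cycleType_t2, cycleType_t3, cycleType_t4,
    hn]
  interval_cases n <;> simp

theorem fixCount_of_isConj_t4 {π : Perm (Fin 8)} (h : fixCount π ≠ 0) : ¬ IsConj t4 π := by
  intro hc
  obtain ⟨g, rfl⟩ := isConj_iff.1 hc
  rw [fixCount_conj] at h
  exact h (by decide +kernel)

theorem card_centralizer_swap :
    Nat.card (Subgroup.centralizer ({t1} : Set (Perm (Fin 8)))) = 1440 := by
  rw [Perm.nat_card_centralizer, cycleType_t1]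
  rfl

theorem card_centralizer_t2 :
    Nat.card (Subgroup.centralizer ({t2} : Set (Perm (Fin 8)))) = 192 := by
  rw [Perm.nat_card_centralizer, cycleType_t2]
  rfl

theorem card_centralizer_t3 :
    Nat.card (Subgroup.centralizer ({t3} : Set (Perm (Fin 8)))) = 96 := by
  rw [Perm.nat_card_centralizer, cycleType_t3]
  rfl

theorem card_centralizer_t4 :
    Nat.card (Subgroup.centralizer ({t4} : Set (Perm (Fin 8)))) = 384 := by
  rw [Perm.nat_card_centralizer, cycleType_t4]
  rfl

end CfsgLib.Recog.SymEight
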