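import Cfsg.Agent.Lib.Recog.SymEight.Setting
import Mathlib.GroupTheory.SpecificGroups.Dihedral
import Mathlib.GroupTheory.QuotientGroup.Basic
import Mathlib.Data.ZMod.Basic

/-!
The setting from the `3`-local hypotheses.
-/

set_option autoImplicit false
set_option linter.style.haveILetI false
set_option maxHeartbeats 4000000

namespace CfsgLib.Recog.SymEight

open Equiv Subgroup

theorem three_mem {G : Type*} [Group G] {z x : G} (hz : z ^ 3 = 1) (hx : x ∈ zpowers z) :
    x = 1 ∨ x = z ∨ x = z⁻¹ := by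
  obtain ⟨k, rfl⟩ := mem_zpowers_iff.1 hx
  have e : z ^ k = z ^ (k % 3) := by
    conv_lhs => rw [← Int.emod_add_mul_ediv k 3, zpow_add, zpow_mul]
    rw [show z ^ (3 : ℤ) = 1 by exact_mod_cast hz, one_zpow, mul_one]
  have h2 : z⁻¹ = z ^ 2 := inv_eq_of_mul_eq_one_right (by rw [← pow_succ', hz])
  rcases (show k % 3 = 0 ∨ k % 3 = 1 ∨ k % 3 = 2 by omega) with h | h | h <;> rw [e, h]
  · left; simp
  · right; left; simp
  · right; right; rw [h2]; norm_cast

theorem card_centralizer_conj {G : Type*} [Group G] (g x : G) :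
    Nat.card (centralizer ({g * x * g⁻¹} : Set G)) = Nat.card (centralizer ({x} : Set G)) := by
  have e : centralizer ({g * x * g⁻¹} : Set G) =
      (centralizer ({x} : Set G)).map (MulAut.conj g).toMonoidHom := by
    ext u
    simp only [mem_map, MulEquiv.coe_toMonoidHom, MulAut.conj_apply, mem_centralizer_singleton_iff]
    constructor
    · intro hu
      refine ⟨g⁻¹ * u * g, ?_, by group⟩
      have := congrArg (fun t => g⁻¹ * t * g) hu
      simpa [mul_assoc] using this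
    · rintro ⟨v, hv, rfl⟩
      exact ((show Commute v x from hv).map (MulAut.conj g).toMonoidHom).eq
  rw [e, card_map_of_injective (MulAut.conj g).injective]

theorem card_centralizer_inv {G : Type*} [Group G] (x : G) :
    Nat.card (centralizer ({x⁻¹} : Set G)) = Nat.card (centralizer ({x} : Set G)) := by
  congr 2
  ext u
  simp only [mem_centralizer_singleton_iff]
  exact ⟨fun h => (Commute.inv_left_iff.1 (show Commute x⁻¹ u from h.symm)).eq.symm,
    fun h => ((show Commute x u from h.symm).inv_left).eq.symm⟩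

theorem normal_three (x : M35) (h3 : x * x * x = 1) (h1 : x ≠ 1)
    (hn : ∀ r : M35, r * x * r⁻¹ = x ∨ r * x * r⁻¹ = x⁻¹) :
    ∃ c : M35, x = c * (c3, 1) * c⁻¹ ∧ c.2 = 1 := by
  have key : ∀ x : M35, x * x * x = 1 → x ≠ 1 →
      (∀ r ∈ ([(1, swap 0 1), (1, swap 1 2), (1, swap 2 3), (1, swap 3 4)] : List M35),
        r * x * r⁻¹ = x ∨ r * x * r⁻¹ = x⁻¹) →
      x = (c3, 1) ∨ x = (c3⁻¹, 1) := by decide +kernel
  rcases key x h3 h1 fun r _ => hn r with rfl | rfl
  · exact ⟨1, by simp, rfl⟩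
  · exact ⟨(swap 0 1, 1), by decide +kernel, rfl⟩

theorem three_cycle_conj (π : Perm (Fin 5)) (h3 : π * π * π = 1) (h1 : π ≠ 1) :
    ∃ ρ : Perm (Fin 5), ρ * a5 * ρ⁻¹ = π := by
  revert π
  decide +kernel

/-- The nontrivial elements of the model Sylow group, by type. -/
theorem InD_cases (x : M35) (hx : InD x) :
    x = 1 ∨ (x = (c3, 1) ∨ x = (c3, 1)⁻¹) ∨ (x = (1, a5) ∨ x = (1, a5)⁻¹) ∨
      ∃ k ∈ ([1, (swap 0 1, 1), (1, swap 0 1), (swap 0 1, swap 0 1)] : List M35),
        x = k * (c3, a5) * k⁻¹ := by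
  obtain ⟨x1, x2⟩ := x
  obtain ⟨rfl | rfl | rfl, rfl | rfl | rfl⟩ := hx <;> decide +kernel

theorem diag_adjust (u v : M35) (hu : InD u) (hv : v = (1, a5) ∨ v = (1, a5)⁻¹)
    (h0 : u ≠ 1) (h1 : u ≠ (c3, 1)) (h2 : u ≠ (c3, 1)⁻¹) (h3 : u ≠ (1, a5)) (h4 : u ≠ (1, a5)⁻¹) :
    ∃ k ∈ ([1, (swap 0 1, 1), (1, swap 0 1), (swap 0 1, swap 0 1)] : List M35),
      k * v * k⁻¹ = (1, a5) ∧
      (k * u * k⁻¹ = (c3, 1) * (1, a5) ∨ k * u * k⁻¹ = (c3, 1) * (1, a5)⁻¹) := by
  have key : ∀ u ∈ ([(1, 1), (1, a5), (1, a5⁻¹), (c3, 1), (c3, a5), (c3, a5⁻¹), (c3⁻¹, 1),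
      (c3⁻¹, a5), (c3⁻¹, a5⁻¹)] : List M35), ∀ v ∈ ([(1, a5), (1, a5)⁻¹] : List M35),
      ([1, (c3, 1), (c3, 1)⁻¹, (1, a5), (1, a5)⁻¹] : List M35).elem u = true ∨
      ([1, (swap 0 1, 1), (1, swap 0 1), (swap 0 1, swap 0 1)] : List M35).any
        (fun k => decide (k * v * k⁻¹ = (1, a5) ∧
          (k * u * k⁻¹ = (c3, 1) * (1, a5) ∨ k * u * k⁻¹ = (c3, 1) * (1, a5)⁻¹))) = true := by
    decide +kernel
  rcases key u (by
      obtain ⟨x1, x2⟩ := u
      obtain ⟨rfl | rfl | rfl, rfl | rfl | rfl⟩ := hu <;> simp)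
    v (by rcases hv with rfl | rfl <;> simp) with h | h
  · simp [h0, h1, h2, h3, h4] at h
    simp_all
  · obtain ⟨k, hk, h⟩ := List.any_eq_true.1 h
    exact ⟨k, hk, of_decide_eq_true h⟩

theorem list_NK : ∀ k ∈ ([1, (swap 0 1, 1), (1, swap 0 1), (swap 0 1, swap 0 1)] : List M35),
    NK k.2 := by decide +kernel

theorem NK_D0 {k x : M35} (hk : NK k.2) (hx : InD x) : InD (k * x * k⁻¹) := by
  obtain ⟨k1, k2⟩ := k
  obtain ⟨x1, x2⟩ := x
  obtain ⟨h1, h2⟩ := hx
  refine ⟨?_, ?_⟩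
  · have key : ∀ u v : Perm (Fin 3), (v = 1 ∨ v = c3 ∨ v = c3⁻¹) →
        (u * v * u⁻¹ = 1 ∨ u * v * u⁻¹ = c3 ∨ u * v * u⁻¹ = c3⁻¹) := by decide +kernel
    exact key k1 x1 h1
  · show k2 * x2 * k2⁻¹ = 1 ∨ k2 * x2 * k2⁻¹ = a5 ∨ k2 * x2 * k2⁻¹ = a5⁻¹
    rcases h2 with e | e | e <;> change x2 = _ at e <;> subst e
    · left; simp
    · exact Or.inr hk
    · rcases hk with f | f <;> change k2 * a5 * k2⁻¹ = _ at f <;> rw [← conj_inv, f] <;> simp

theorem NK_of_conj {x : M35} (h : InD (x * (1, a5) * x⁻¹)) : NK x.2 := by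
  obtain ⟨-, h | h | h⟩ := h
  · exfalso
    simp only [Prod.snd_mul, Prod.snd_inv, conj_eq_one_iff] at h
    exact absurd h (by decide +kernel)
  · exact Or.inl h
  · exact Or.inr h

theorem exists_setting {G : Type*} [Group G] [Finite G]
    (P : Sylow 3 G) (D : Subgroup G) (hDP : D = P) (y z : G) (hgen : closure {y, z} = D)
    (hcomm : IsMulCommutative D) (hcard : Nat.card D = 9) (hexp : ∀ a ∈ D, a ^ 3 = 1)
    (eN : normalizer (D : Set G) ⧸ D.subgroupOf (normalizer (D : Set G)) ≃*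
      DihedralGroup 4 × Multiplicative (ZMod 2))
    (hyn : (D.subgroupOf (centralizer ({y} : Set G))).Normal)
    (hycard : Nat.card (centralizer ({y} : Set G)) = 36)
    (hysq : ∀ g ∈ centralizer ({y} : Set G), g ^ 2 ∈ D)
    (eC : centralizer ({z} : Set G) ≃* Multiplicative (ZMod 3) × Equiv.Perm (Fin 5))
    (eL : normalizer (zpowers z : Set G) ≃* Equiv.Perm (Fin 3) × Equiv.Perm (Fin 5)) :
    ∃ S : Setting G, S.D = D := by
  classical
  haveI : Fact (Nat.Prime 3) := ⟨Nat.prime_three⟩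
  have hyD : y ∈ D := hgen ▸ subset_closure (Set.mem_insert _ _)
  have hzD : z ∈ D := hgen ▸ subset_closure (Set.mem_insert_of_mem _ rfl)
  have hDc : ∀ u ∈ D, ∀ v ∈ D, Commute u v := fun u hu v hv =>
    congrArg Subtype.val (hcomm.is_comm.comm (⟨u, hu⟩ : D) ⟨v, hv⟩)
  have hz3 : z ^ 3 = 1 := hexp z hzD
  have hnot9 : ∀ u : G, u ∈ D → D ≤ zpowers u → False := by
    intro u hu h
    have h1 := card_le_of_le h
    rw [hcard, Nat.card_zpowers] at h1
    have := orderOf_le_of_pow_eq_one (by norm_num : 0 < 3) (hexp u hu)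
    omega
  have hz1 : z ≠ 1 := by
    intro e
    refine hnot9 y hyD (hgen ▸ (closure_le _).2 ?_)
    rintro x (rfl | rfl)
    · exact mem_zpowers _
    · rw [e]; exact one_mem _
  -- the model of the normaliser of `z`
  set N := normalizer (zpowers z : Set G) with hN
  have memN : ∀ g : G, g * z * g⁻¹ = z ∨ g * z * g⁻¹ = z⁻¹ → g ∈ N := by
    intro g hg
    rw [hN, mem_normalizer_iff_map_conj_eq, MonoidHom.map_zpowers]
    show zpowers (g * z * g⁻¹) = zpowers z
    rcases hg with e | e <;> rw [e]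
    exact zpowers_inv
  have hNz : ∀ g ∈ N, g * z * g⁻¹ = z ∨ g * z * g⁻¹ = z⁻¹ := by
    intro g hg
    rcases three_mem hz3 ((mem_normalizer_iff.1 hg z).1 (mem_zpowers z)) with e | e | e
    · exact absurd (conj_eq_one_iff.1 e) hz1
    · exact Or.inl e
    · exact Or.inr e
  let phi0 : M35 →* G := N.subtype.comp eL.symm.toMonoidHom
  have inj0 : Function.Injective phi0 := N.subtype_injective.comp eL.symm.injective
  have surj0 : ∀ g ∈ N, ∃ x, phi0 x = g := fun g hg => ⟨eL ⟨g, hg⟩, by simp [phi0]⟩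
  have mem0 : ∀ x, phi0 x ∈ N := fun x => (eL.symm x).2
  obtain ⟨x0, hx0⟩ := surj0 z (memN z (Or.inl (by rw [mul_inv_cancel_right])))
  obtain ⟨c, hc, hc2⟩ := normal_three x0
    (inj0 (by rw [map_mul, map_mul, map_one, hx0, ← pow_two, ← pow_succ, hz3]))
    (fun e => hz1 (by rw [← hx0, e, map_one]))
    (fun r => by
      rcases hNz _ (mem0 r) with e | e
      · exact Or.inl (inj0 (by rw [map_mul, map_mul, map_inv, hx0, e]))
      · exact Or.inr (inj0 (by rw [map_mul, map_mul, map_inv, map_inv, hx0, e])))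
  let psi : M35 →* G := phi0.comp (MulAut.conj c).toMonoidHom
  have psi_inj : Function.Injective psi := inj0.comp (MulAut.conj c).injective
  have psi_surj : ∀ g ∈ N, ∃ x, psi x = g := fun g hg => by
    obtain ⟨x, rfl⟩ := surj0 g hg
    exact ⟨c⁻¹ * x * c, congrArg phi0 (by simp [mul_assoc])⟩
  have psi_z : psi (c3, 1) = z := by
    rw [← hx0, hc]
    simp [psi]
  have commz : ∀ x : M35, Commute (psi x) z → x.1 = 1 ∨ x.1 = c3 ∨ x.1 = c3⁻¹ := by
    intro x hx
    have key : ∀ u : Perm (Fin 3), u * c3 = c3 * u → u = 1 ∨ u = c3 ∨ u = c3⁻¹ := by decide +kernel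
    refine key x.1 (congrArg Prod.fst (psi_inj ?_ : x * (c3, 1) = (c3, 1) * x))
    rw [map_mul, map_mul, psi_z]
    exact hx
  have Drange : ∀ d ∈ D, ∃ x, psi x = d := fun d hd =>
    psi_surj d (memN d (Or.inl (by rw [(hDc d hd z hzD).eq, mul_inv_cancel_right])))
  have hc3pow : ∀ u : Perm (Fin 3), u = 1 ∨ u = c3 ∨ u = c3⁻¹ → psi (u, 1) ∈ zpowers z := by
    intro u hu
    rcases hu with rfl | rfl | rfl
    · rw [show psi ((1 : Perm (Fin 3)), (1 : Perm (Fin 5))) = 1 from map_one psi]; exact one_mem _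
    · rw [psi_z]; exact mem_zpowers z
    · rw [show ((c3⁻¹, 1) : M35) = (c3, 1)⁻¹ by simp, map_inv, psi_z]
      exact inv_mem (mem_zpowers z)
  obtain ⟨xd, hxd, hxd2⟩ : ∃ x : M35, psi x ∈ D ∧ x.2 ≠ 1 := by
    by_contra hcon
    push Not at hcon
    refine hnot9 z hzD fun d hd => ?_
    obtain ⟨x, rfl⟩ := Drange d hd
    obtain ⟨x1, x2⟩ := x
    obtain rfl : x2 = 1 := hcon (x1, x2) hd
    exact hc3pow x1 (commz _ (hDc _ hd z hzD))
  obtain ⟨ρ, hρ⟩ := three_cycle_conj xd.2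
    (congrArg Prod.snd (psi_inj (by rw [map_mul, map_mul, map_one, ← pow_two, ← pow_succ,
      hexp _ hxd]) : xd * xd * xd = 1)) hxd2
  let phi : M35 →* G := psi.comp (MulAut.conj ((1, ρ) : M35)).toMonoidHom
  have inj : Function.Injective phi := psi_inj.comp (MulAut.conj ((1, ρ) : M35)).injective
  have phi_surj : ∀ g ∈ N, ∃ x, phi x = g := fun g hg => by
    obtain ⟨x, rfl⟩ := psi_surj g hg
    refine ⟨(1, ρ)⁻¹ * x * (1, ρ), congrArg psi ?_⟩
    show (1, ρ) * ((1, ρ)⁻¹ * x * (1, ρ)) * (1, ρ)⁻¹ = x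
    group
  have phi_z : phi (c3, 1) = z := by
    rw [← psi_z]
    exact congrArg psi (by simp)
  have phi_a : phi (1, a5) ∈ D := by
    have e : phi (1, a5) = psi (xd.1⁻¹, 1) * psi xd := by
      rw [← map_mul]
      refine congrArg psi ?_
      simp [Prod.ext_iff, hρ]
    rw [e]
    refine mul_mem ?_ hxd
    refine (zpowers_le.2 hzD) (hc3pow _ ?_)
    rcases commz xd (hDc _ hxd z hzD) with h | h | h <;> rw [h] <;> simp
  have hmapD : D0.map phi = D := by
    refine eq_of_le_of_card_ge ?_ ?_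
    · rintro _ ⟨⟨u, v⟩, ⟨hu, hv⟩, rfl⟩
      rw [show ((u, v) : M35) = (u, 1) * (1, v) by simp, map_mul]
      refine mul_mem ?_ ?_
      · rcases hu with e | e | e <;> change u = _ at e <;> subst e
        · rw [show phi ((1 : Perm (Fin 3)), (1 : Perm (Fin 5))) = 1 from map_one phi]
          exact one_mem _
        · rw [phi_z]; exact hzD
        · rw [show ((c3⁻¹, 1) : M35) = (c3, 1)⁻¹ by simp, map_inv, phi_z]; exact inv_mem hzD
      · rcases hv with e | e | e <;> change v = _ at e <;> subst e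
        · rw [show phi ((1 : Perm (Fin 3)), (1 : Perm (Fin 5))) = 1 from map_one phi]
          exact one_mem _
        · exact phi_a
        · rw [show ((1, a5⁻¹) : M35) = (1, a5)⁻¹ by simp, map_inv]; exact inv_mem phi_a
    · rw [hcard, Nat.card_congr (D0.equivMapOfInjective _ inj).symm.toEquiv, card_D0]
  have memD : ∀ {d : G}, d ∈ D → ∃ x, InD x ∧ phi x = d := fun {d} hd => by
    rw [← hmapD] at hd
    exact hd
  have phiD : ∀ {x : M35}, InD x → phi x ∈ D := fun {x} hx => hmapD ▸ ⟨x, hx, rfl⟩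
  have Kn : ∀ k : M35, NK k.2 → ∀ d ∈ D, phi k * d * (phi k)⁻¹ ∈ D := by
    intro k hk d hd
    obtain ⟨x, hx, rfl⟩ := memD hd
    rw [← map_inv, ← map_mul, ← map_mul]
    exact phiD (NK_D0 hk hx)
  have cardz : Nat.card (centralizer ({z} : Set G)) = 360 := by
    rw [Nat.card_congr eC.toEquiv, Nat.card_prod, Nat.card_eq_fintype_card (α := Perm (Fin 5)), Fintype.card_perm]
    simp only [Nat.card_eq_fintype_card, Fintype.card_multiplicative, ZMod.card, Fintype.card_fin]
    rfl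
  set a := phi (1, a5) with ha
  set cc : M35 → ℕ := fun x => Nat.card (centralizer ({phi x} : Set G)) with hcc
  have cc_conj : ∀ k x : M35, cc (k * x * k⁻¹) = cc x := fun k x => by
    simp only [hcc]
    rw [map_mul, map_mul, map_inv, card_centralizer_conj]
  have cc_inv : ∀ x : M35, cc x⁻¹ = cc x := fun x => by
    simp only [hcc]
    rw [map_inv, card_centralizer_inv]
  have cc_z : cc (c3, 1) = 360 := by simp only [hcc]; rw [phi_z, cardz]
  -- the normaliser of `D`
  set ND := normalizer (D : Set G) with hND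
  have memND : ∀ g, g ∈ ND → ∀ d ∈ D, g * d * g⁻¹ ∈ D := fun g hg d hd =>
    (mem_normalizer_iff.1 hg d).1 hd
  have pow16 : ∀ g ∈ ND, g ^ 16 ∈ D := by
    intro g hg
    have h16 : Nat.card (ND ⧸ D.subgroupOf ND) = 16 := by
      rw [Nat.card_congr eN.toEquiv, Nat.card_prod, DihedralGroup.nat_card]
      simp [Nat.card_eq_fintype_card, ZMod.card]
    have : (QuotientGroup.mk (⟨g, hg⟩ : ND) : ND ⧸ D.subgroupOf ND) ^ 16 = 1 := by
      rw [← h16]; exact pow_card_eq_one'
    rw [← QuotientGroup.mk_pow, QuotientGroup.eq_one_iff, mem_subgroupOf] at this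
    exact this
  have cardND : Nat.card ND = 144 := by
    rw [Subgroup.card_eq_card_quotient_mul_card_subgroup (D.subgroupOf ND),
      Nat.card_congr eN.toEquiv, Nat.card_congr (subgroupOfEquivOfLe le_normalizer).toEquiv, hcard,
      Nat.card_prod, DihedralGroup.nat_card]
    simp [Nat.card_eq_fintype_card, ZMod.card]
  have stab : ∀ g, (∀ d ∈ D, g * d * g⁻¹ ∈ D) → (g * z * g⁻¹ = z ∨ g * z * g⁻¹ = z⁻¹) →
      ∃ x, NK x.2 ∧ g = phi x := by
    intro g hg hgz
    obtain ⟨x, rfl⟩ := phi_surj g (memN g hgz)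
    refine ⟨x, NK_of_conj ?_, rfl⟩
    obtain ⟨u, hu, e⟩ := memD (hg a phi_a)
    rw [ha, ← map_inv, ← map_mul, ← map_mul] at e
    exact inj e ▸ hu
  obtain ⟨g₀, hg₀, hg₀z⟩ : ∃ g ∈ ND, ¬ (g * z * g⁻¹ = z ∨ g * z * g⁻¹ = z⁻¹) := by
    by_contra hcon
    push Not at hcon
    have hle : Nat.card ND ≤ Nat.card {x : M35 // NK x.2} := by
      refine Nat.card_le_card_of_surjective
        (fun x : {x : M35 // NK x.2} => (⟨phi x.1, ?_⟩ : ND)) ?_
      · rw [hND, mem_normalizer_iff]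
        intro d
        refine ⟨Kn x.1 x.2 d, fun hd => ?_⟩
        have key : ∀ π : Perm (Fin 5), NK π → NK π⁻¹ := by decide +kernel
        have h := Kn x.1⁻¹ (key _ x.2) _ hd
        simpa [mul_assoc] using h
      · rintro ⟨g, hg⟩
        obtain ⟨x, hx, rfl⟩ := stab g (memND g hg) (hcon g hg)
        exact ⟨⟨x, hx⟩, rfl⟩
    rw [cardND, card_NK] at hle
    omega
  obtain ⟨u₀, hu₀, eu₀⟩ := memD (memND g₀ hg₀ z hzD)
  have cc_u₀ : cc u₀ = 360 := by simp only [hcc]; rw [eu₀, card_centralizer_conj, cardz]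
  have u₀_ne : u₀ ≠ 1 ∧ u₀ ≠ (c3, 1) ∧ u₀ ≠ (c3, 1)⁻¹ := by
    refine ⟨fun e => hz1 ?_, fun e => hg₀z (Or.inl ?_), fun e => hg₀z (Or.inr ?_)⟩
    · rw [e, map_one] at eu₀; exact conj_eq_one_iff.1 eu₀.symm
    · rw [← eu₀, e, phi_z]
    · rw [← eu₀, e, map_inv, phi_z]
  obtain ⟨yx, hyx, eyx⟩ := memD hyD
  have cc_y : cc yx = 36 := by simp only [hcc]; rw [eyx, hycard]
  have hyx_cases : (yx = (1, a5) ∨ yx = (1, a5)⁻¹) ∨
      ∃ k : M35, NK k.2 ∧ yx = k * (c3, a5) * k⁻¹ := by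
    rcases InD_cases yx hyx with e | e | e | ⟨k, hk, e⟩
    · exfalso
      refine hnot9 z hzD (hgen ▸ (closure_le _).2 ?_)
      rintro x (rfl | rfl)
      · rw [← eyx, e, map_one]; exact one_mem _
      · exact mem_zpowers _
    · exfalso
      rcases e with e | e <;> rw [e] at cc_y <;> simp only [cc_inv, cc_z] at cc_y <;> omega
    · exact Or.inl e
    · exact Or.inr ⟨k, list_NK k hk, e⟩
  -- no element of `N(D)` shears `D`
  have cc_za : cc (c3, a5) = 36 := by
    rcases hyx_cases with e | ⟨k, -, e⟩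
    swap
    · rw [← cc_y, e, cc_conj]
    exfalso
    have cc_a : cc (1, a5) = 36 := by
      rcases e with e | e <;> rw [e] at cc_y
      · exact cc_y
      · rw [← cc_inv]; exact cc_y
    obtain ⟨v, hv, ev⟩ := memD (memND g₀ hg₀ a phi_a)
    have cc_v : cc v = 36 := by simp only [hcc] at cc_a ⊢; rw [ev, card_centralizer_conj, ha, cc_a]
    have hu₀a : u₀ ≠ (1, a5) ∧ u₀ ≠ (1, a5)⁻¹ := by
      constructor <;> intro e' <;> rw [e'] at cc_u₀ <;> simp only [cc_inv, cc_a] at cc_u₀ <;> omega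
    have cc_za : cc (c3, a5) = 360 := by
      rcases InD_cases u₀ hu₀ with e' | e' | e' | ⟨k, -, e'⟩
      · exact absurd e' u₀_ne.1
      · exact (e'.elim u₀_ne.2.1 u₀_ne.2.2).elim
      · exact (e'.elim hu₀a.1 hu₀a.2).elim
      · rw [← cc_u₀, e', cc_conj]
    have hv' : v = (1, a5) ∨ v = (1, a5)⁻¹ := by
      rcases InD_cases v hv with e' | e' | e' | ⟨k, -, e'⟩
      · exfalso
        rw [e', map_one] at ev
        have := inj ((conj_eq_one_iff.1 ev.symm).trans (map_one phi).symm)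
        exact absurd this (by decide +kernel)
      · exfalso
        rcases e' with e' | e' <;> rw [e'] at cc_v <;> simp only [cc_inv, cc_z] at cc_v <;> omega
      · exact e'
      · exfalso; rw [e', cc_conj, cc_za] at cc_v; omega
    obtain ⟨k, hk, hkv, hku⟩ := diag_adjust u₀ v hu₀ hv' u₀_ne.1 u₀_ne.2.1 u₀_ne.2.2 hu₀a.1 hu₀a.2
    set h := phi k * g₀
    have hha : h * a * h⁻¹ = a := by
      rw [show h * a * h⁻¹ = phi k * (g₀ * a * g₀⁻¹) * (phi k)⁻¹ by simp [h, mul_assoc], ← ev,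
        ← map_inv, ← map_mul, ← map_mul, hkv]
    obtain ⟨b, hb, hhz⟩ : ∃ b, (b = a ∨ b = a⁻¹) ∧ h * z * h⁻¹ = z * b := by
      have e1 : h * z * h⁻¹ = phi (k * u₀ * k⁻¹) := by
        rw [map_mul, map_mul, map_inv, eu₀]
        simp [h, mul_assoc]
      rcases hku with e' | e' <;> rw [e'] at e1
      · exact ⟨a, Or.inl rfl, by rw [e1, map_mul, phi_z]⟩
      · exact ⟨a⁻¹, Or.inr rfl, by rw [e1, map_mul, map_inv, phi_z]⟩
    have hhb : h * b * h⁻¹ = b := by
      rcases hb with rfl | rfl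
      · exact hha
      · rw [← conj_inv, hha]
    have hpow : ∀ n : ℕ, h ^ n * z * (h ^ n)⁻¹ = z * b ^ n := by
      intro n
      induction n with
      | zero => simp
      | succ n ih =>
        calc h ^ (n + 1) * z * (h ^ (n + 1))⁻¹ = h * (h ^ n * z * (h ^ n)⁻¹) * h⁻¹ := by
              rw [pow_succ']; simp [mul_assoc]
          _ = h * z * h⁻¹ * (h * b ^ n * h⁻¹) := by rw [ih]; simp [mul_assoc]
          _ = z * b ^ (n + 1) := by rw [← conj_pow, hhz, hhb, mul_assoc, ← pow_succ']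
    have hh : h ∈ ND := by
      refine mul_mem ?_ hg₀
      rw [hND, mem_normalizer_iff]
      have hk' := list_NK k hk
      intro d
      refine ⟨Kn k hk' d, fun hd => ?_⟩
      have key : ∀ π : Perm (Fin 5), NK π → NK π⁻¹ := by decide +kernel
      have := Kn k⁻¹ (key _ hk') _ hd
      simpa [mul_assoc] using this
    have e16 := hpow 16
    rw [(hDc _ (pow16 h hh) z hzD).eq, mul_inv_cancel_right, left_eq_mul] at e16
    have hb3 : b ^ 3 = 1 := by
      rcases hb with rfl | rfl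
      · exact hexp a phi_a
      · exact hexp _ (inv_mem phi_a)
    have hb1 : b = 1 := by
      rw [← pow_one b, show (1 : ℕ) = Nat.gcd 16 3 from rfl]
      exact pow_gcd_eq_one.2 ⟨e16, hb3⟩
    have ha1 : a = 1 := by rcases hb with rfl | rfl <;> simp_all
    exact absurd (inj (ha1.trans (map_one phi).symm)) (by decide +kernel)
  have cc_a : cc (1, a5) = 360 := by
    rcases InD_cases u₀ hu₀ with e | e | e | ⟨k, -, e⟩
    · exact absurd e u₀_ne.1
    · exact (e.elim u₀_ne.2.1 u₀_ne.2.2).elim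
    · rcases e with e | e <;> rw [e] at cc_u₀
      · exact cc_u₀
      · rw [← cc_inv]; exact cc_u₀
    · rw [e, cc_conj, cc_za] at cc_u₀; omega
  obtain ⟨ky, hky, eky⟩ : ∃ k : M35, NK k.2 ∧ yx = k * (c3, a5) * k⁻¹ :=
    hyx_cases.resolve_left (by
      rintro (e | e) <;> rw [e] at cc_y <;> simp only [cc_inv, cc_a] at cc_y <;> omega)
  have hyk : y = phi ky * phi (c3, a5) * (phi ky)⁻¹ := by
    rw [← eyx, eky, map_mul, map_mul, map_inv]
  have NKinv : ∀ π : Perm (Fin 5), NK π → NK π⁻¹ := by decide +kernel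
  have toCy : ∀ g, Commute g (phi (c3, a5)) →
      phi ky * g * (phi ky)⁻¹ ∈ centralizer ({y} : Set G) := by
    intro g hg
    rw [mem_centralizer_singleton_iff, hyk]
    exact (hg.map (MulAut.conj (phi ky)).toMonoidHom).eq
  have back : ∀ d : G, phi ky * d * (phi ky)⁻¹ ∈ D → d ∈ D := fun d hd => by
    have := Kn ky⁻¹ (NKinv _ hky) _ hd
    simpa [mul_assoc] using this
  have hcy : ∀ g, Commute g (phi (c3, a5)) → ∀ d ∈ D, g * d * g⁻¹ ∈ D := by
    intro g hg d hd
    refine back _ ?_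
    have hd' : phi ky * d * (phi ky)⁻¹ ∈ centralizer ({y} : Set G) :=
      mem_centralizer_singleton_iff.2 (hDc _ (Kn ky hky d hd) y hyD).eq
    have h := hyn.conj_mem ⟨_, hd'⟩ (mem_subgroupOf.2 (Kn ky hky d hd)) ⟨_, toCy g hg⟩
    simpa [mem_subgroupOf, mul_assoc] using h
  -- the classification of `N(D)` relative to a swap
  have type_z : ∀ x, InD x → x ≠ 1 → cc x = 360 →
      (x = (c3, 1) ∨ x = (c3, 1)⁻¹) ∨ (x = (1, a5) ∨ x = (1, a5)⁻¹) := by
    intro x hx h1 h360
    rcases InD_cases x hx with e | e | e | ⟨k, -, e⟩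
    · exact absurd e h1
    · exact Or.inl e
    · exact Or.inr e
    · rw [e, cc_conj, cc_za] at h360; omega
  have imgs : ∀ g, (∀ d ∈ D, g * d * g⁻¹ ∈ D) → ∀ x : M35, InD x → x ≠ 1 → cc x = 360 →
      ∃ u, InD u ∧ phi u = g * phi x * g⁻¹ ∧
        ((u = (c3, 1) ∨ u = (c3, 1)⁻¹) ∨ (u = (1, a5) ∨ u = (1, a5)⁻¹)) := by
    intro g hg x hx hx1 hx360
    obtain ⟨u, hu, e⟩ := memD (hg _ (phiD hx))
    refine ⟨u, hu, e, type_z u hu (fun e1 => hx1 ?_) ?_⟩
    · rw [e1, map_one] at e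
      exact inj ((conj_eq_one_iff.1 e.symm).trans (map_one phi).symm)
    · simp only [hcc] at hx360 ⊢
      rw [e, card_centralizer_conj, hx360]
  have hInDz : InD (c3, 1) := by decide +kernel
  have hInDa : InD (1, a5) := by decide +kernel
  have hInDy : InD (c3, a5) := by decide +kernel
  obtain ⟨g, hgy, hgK⟩ : ∃ g, Commute g (phi (c3, a5)) ∧ ∀ x, NK x.2 → g ≠ phi x := by
    by_contra hcon
    push Not at hcon
    have hle : Nat.card (centralizer ({phi (c3, a5)} : Set G)) ≤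
        Nat.card {x : M35 // NK x.2 ∧ x * (c3, a5) = (c3, a5) * x} := by
      refine Nat.card_le_card_of_surjective
        (fun x : {x : M35 // NK x.2 ∧ x * (c3, a5) = (c3, a5) * x} =>
          (⟨phi x.1, ?_⟩ : centralizer ({phi (c3, a5)} : Set G))) ?_
      · rw [mem_centralizer_singleton_iff, ← map_mul, ← map_mul, x.2.2]
      · rintro ⟨g, hg⟩
        have hg' : Commute g (phi (c3, a5)) := mem_centralizer_singleton_iff.1 hg
        obtain ⟨x, hx, rfl⟩ := hcon g hg'
        exact ⟨⟨x, hx, inj (by rw [map_mul, map_mul]; exact hg'.eq)⟩, rfl⟩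
    rw [card_NK_za] at hle
    change cc (c3, a5) ≤ 18 at hle
    omega
  have hgD := hcy g hgy
  obtain ⟨u, -, eu, hu⟩ := imgs g hgD _ hInDz (by decide +kernel) cc_z
  obtain ⟨v, -, ev, hv⟩ := imgs g hgD _ hInDa (by decide +kernel) cc_a
  have huv : u * v = (c3, a5) := inj (by
    rw [map_mul, eu, ev]
    calc g * phi (c3, 1) * g⁻¹ * (g * phi (1, a5) * g⁻¹)
        = g * (phi (c3, 1) * phi (1, a5)) * g⁻¹ := by group
      _ = g * phi (c3, a5) * g⁻¹ := by rw [← map_mul]; simp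
      _ = phi (c3, a5) := by rw [hgy.eq, mul_inv_cancel_right])
  have hua : u = (1, a5) ∧ v = (c3, 1) := by
    rcases hu with hu | hu
    · exfalso
      obtain ⟨x, hx, hgx⟩ := stab g hgD (by
        rcases hu with e | e <;> rw [e] at eu <;> rw [phi_z] at eu
        · exact Or.inl (by rw [← eu])
        · exact Or.inr (by rw [← eu, map_inv, phi_z]))
      exact hgK x hx hgx
    rcases hu with rfl | rfl <;> rcases hv with (rfl | rfl) | (rfl | rfl) <;>
      revert huv <;> decide +kernel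
  rw [hua.1, phi_z] at eu
  rw [hua.2, phi_z] at ev
  have hg2 : g ^ 2 ∈ D := by
    refine back _ ?_
    rw [← conj_pow]
    exact hysq _ (toCy g hgy)
  obtain ⟨w, hw⟩ : ∃ w, w = g ^ 3 := ⟨_, rfl⟩
  have hww : w * w = 1 := by
    rw [hw, ← pow_add, show 3 + 3 = 2 * 3 by rfl, pow_mul, hexp _ hg2]
  have hwinv : w⁻¹ = w := inv_eq_of_mul_eq_one_right hww
  have hw2 : w = g * g ^ 2 := by rw [hw, pow_succ']
  have hwz : w * z * w = a := by
    have e : w * z * w⁻¹ = g * z * g⁻¹ := by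
      rw [hw2, mul_inv_rev, mul_assoc g, (hDc _ hg2 z hzD).eq]
      simp [mul_assoc]
    rw [hwinv] at e
    rw [e, ← eu]
  have hwD : ∀ d ∈ D, w * d * w⁻¹ ∈ D := by
    intro d hd
    rw [hw2, mul_inv_rev, mul_assoc g, (hDc _ hg2 d hd).eq]
    simpa [mul_assoc] using hgD d hd
  have normz : ∀ g : G, g * z * g⁻¹ = z ∨ g * z * g⁻¹ = z⁻¹ → g ∈ phi.range := fun g hg => by
    obtain ⟨x, hx⟩ := phi_surj g (memN g hg)
    exact ⟨x, hx⟩
  have nD : ∀ g : G, (∀ x, InD x → g * phi x * g⁻¹ ∈ D) →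
      ∃ x, NK x.2 ∧ (g = phi x ∨ g = w * phi x) := by
    intro g hg
    have hg' : ∀ d ∈ D, g * d * g⁻¹ ∈ D := fun d hd => by
      obtain ⟨x, hx, rfl⟩ := memD hd
      exact hg x hx
    obtain ⟨u, -, eu', hu⟩ := imgs g hg' _ hInDz (by decide +kernel) cc_z
    rw [phi_z] at eu'
    rcases hu with hu | hu
    · obtain ⟨x, hx, e⟩ := stab g hg' (by
        rcases hu with e | e <;> rw [e] at eu'
        · exact Or.inl (by rw [← eu', phi_z])
        · exact Or.inr (by rw [← eu', map_inv, phi_z]))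
      exact ⟨x, hx, Or.inl e⟩
    · have haz : w * a * w = z := by
        rw [← hwz]
        simp only [← mul_assoc, hww, one_mul]
        rw [mul_assoc, hww, mul_one]
      obtain ⟨x, hx, e⟩ := stab (w * g) (fun d hd => by
          have := hwD _ (hg' d hd)
          simpa [mul_assoc] using this) (by
        have e1 : w * g * z * (w * g)⁻¹ = w * (g * z * g⁻¹) * w := by
          rw [mul_inv_rev, hwinv]; simp only [mul_assoc]
        rw [e1, ← eu']
        rcases hu with e | e <;> rw [e]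
        · exact Or.inl haz
        · right
          rw [map_inv, ← haz, mul_inv_rev, mul_inv_rev, hwinv, mul_assoc])
      exact ⟨x, hx, Or.inr (by rw [← e, ← mul_assoc, hww, one_mul])⟩
  have sylow3 : ∀ Q : Subgroup G, IsPGroup 3 Q → ∃ g : G, ∀ x ∈ Q, g * x * g⁻¹ ∈ D := by
    intro Q hQ
    obtain ⟨R, hR⟩ := hQ.exists_le_sylow
    obtain ⟨g, hg⟩ := MulAction.exists_smul_eq G R P
    refine ⟨g, fun x hx => ?_⟩
    rw [hDP, ← hg, Sylow.coe_subgroup_smul]
    exact Subgroup.smul_mem_pointwise_smul x (MulAut.conj g) _ (hR hx)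
  -- normalise the image of `p`
  obtain ⟨q, hq⟩ : ∃ q, q = w * phi (swap 0 1, 1) * w := ⟨_, rfl⟩
  have conjw : ∀ d : G, w * d * w⁻¹ = w * d * w := fun d => by rw [hwinv]
  have hqz : q * z * q⁻¹ = z := by
    have haz : w * z * w = a := hwz
    have e : z = w * a * w := by
      rw [← haz]
      simp only [← mul_assoc, hww, one_mul]
      rw [mul_assoc, hww, mul_one]
    have hpa : phi (swap 0 1, 1) * a = a * phi (swap 0 1, 1) := by
      rw [ha, ← map_mul, ← map_mul]
      exact congrArg phi (by decide +kernel)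
    rw [hq, e, mul_inv_rev, mul_inv_rev, hwinv]
    simp only [mul_assoc]
    simp only [← mul_assoc w w, hww, one_mul, mul_one]
    rw [← mul_assoc (phi _) a, hpa]
    simp [mul_assoc]
  obtain ⟨xq, hxq⟩ := phi_surj q (memN q (Or.inl hqz))
  have key : ∀ x : M35, x * x = 1 → x * (c3, 1) = (c3, 1) * x →
      x * (1, a5) * x = (1, a5)⁻¹ → ∃ k ∈ ([1, a5, a5⁻¹] : List (Perm (Fin 5))),
        x = (1, k * swap 0 1 * k⁻¹) ∨ x = (1, k * (swap 0 1 * swap 3 4) * k⁻¹) := by
    decide +kernel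
  obtain ⟨k, hk, hxk⟩ := key xq
    (inj (by
      rw [map_mul, map_one, hxq, hq]
      simp only [mul_assoc]
      rw [← mul_assoc w w, hww, one_mul, ← mul_assoc (phi _) (phi _), ← map_mul,
        show ((swap 0 1, 1) : M35) * (swap 0 1, 1) = 1 by decide +kernel, map_one, one_mul, hww]))
    (inj (by
      rw [map_mul, map_mul, hxq, phi_z]
      exact mul_inv_eq_iff_eq_mul.1 hqz))
    (inj (by
      rw [map_mul, map_mul, hxq, map_inv, ← ha, ← hwz, hq]
      simp only [mul_assoc]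
      simp only [← mul_assoc w w, hww, one_mul]
      rw [← mul_assoc (phi _) z, ← mul_assoc (phi _ * z), ← phi_z, ← map_mul, ← map_mul,
        show ((swap 0 1, 1) : M35) * (c3, 1) * (swap 0 1, 1) = (c3, 1)⁻¹ by decide +kernel,
        map_inv, mul_inv_rev, mul_inv_rev, hwinv]
      simp [mul_assoc]))
  let F : M35 →* G := phi.comp (MulAut.conj ((1, k) : M35)).toMonoidHom
  have hFD : ∀ x, InD x → F x = phi x := by
    intro x hx
    refine congrArg phi ?_
    obtain ⟨x1, x2⟩ := x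
    simp only [List.mem_cons, List.not_mem_nil, or_false] at hk
    obtain ⟨-, rfl | rfl | rfl⟩ := hx <;> rcases hk with rfl | rfl | rfl <;>
      simp [Prod.ext_iff]
  have hFmap : D0.map F = D := by
    rw [← hmapD]
    ext d
    constructor <;> rintro ⟨x, hx, rfl⟩
    · exact ⟨x, hx, (hFD x hx).symm⟩
    · exact ⟨x, hx, hFD x hx⟩
  have hFp : F (swap 0 1, 1) = phi (swap 0 1, 1) := congrArg phi (by simp [Prod.ext_iff])
  have hNKk : NK k := by
    simp only [List.mem_cons, List.not_mem_nil, or_false] at hk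
    rcases hk with rfl | rfl | rfl <;> decide +kernel
  have NKmul : ∀ π π' : Perm (Fin 5), NK π → NK π' → NK (π * π') := by decide +kernel
  refine ⟨{
    phi := F
    inj := inj.comp (MulAut.conj _).injective
    w := w
    ww := hww
    wz := by rw [hFD _ hInDz, hFD _ hInDa, phi_z]; exact hwz
    normz := fun g hg => by
      rw [hFD _ hInDz, hFD _ (show InD (c3⁻¹, 1) by decide +kernel), phi_z] at hg
      obtain ⟨x, rfl⟩ := normz g (hg.imp id fun e => e.trans (by
        rw [show ((c3⁻¹, 1) : M35) = (c3, 1)⁻¹ by simp, map_inv, phi_z]))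
      exact ⟨(1, k)⁻¹ * x * (1, k), congrArg phi (show (1, k) * ((1, k)⁻¹ * x * (1, k)) * (1, k)⁻¹ = x by group)⟩
    nD := fun g hg => by
      obtain ⟨x, hx, e⟩ := nD g fun x hx => by
        have := hg x hx
        rwa [hFmap, hFD x hx] at this
      refine ⟨(1, k)⁻¹ * x * (1, k), NKmul _ _ (NKmul _ _ (NKinv _ hNKk) hx) hNKk, ?_⟩
      rw [show F ((1, k)⁻¹ * x * (1, k)) = phi x from congrArg phi (show (1, k) * ((1, k)⁻¹ * x * (1, k)) * (1, k)⁻¹ = x by group)]
      exact e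
    cy := fun g hg x hx => by
      rw [hFD _ hInDy] at hg
      rw [hFmap, hFD x hx]
      exact hcy g hg _ (phiD hx)
    sylow3 := fun Q hQ => by rw [hFmap]; exact sylow3 Q hQ
    wpw := by
      rw [hFp, ← hq, ← hxq]
      rcases hxk with e | e <;> rw [e]
      · exact Or.inl (congrArg phi (by simp [Prod.ext_iff]))
      · exact Or.inr (congrArg phi (by simp [Prod.ext_iff])) }, hFmap⟩

end CfsgLib.Recog.SymEight
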