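import Cfsg.Agent.Lib.Recog.SymEight.CaseSHom
import Cfsg.Agent.Lib.Recog.SymEight.Tools
import Cfsg.Agent.Lib.Invol.Strong

/-!
The first case: the copy of `S₈` is strongly embedded unless it is everything.
-/

set_option autoImplicit false
set_option linter.style.haveILetI false
set_option maxHeartbeats 2000000

namespace CfsgLib.Recog.SymEight

open Equiv Subgroup

theorem pow_105_of_odd {π : Perm (Fin 8)} (h : Odd (orderOf π)) : π ^ 105 = 1 := by
  rw [← orderOf_dvd_iff_pow_eq_one, ← Perm.lcm_cycleType, Multiset.lcm_dvd]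
  intro n hn
  have h1 : n ∣ orderOf π := Perm.dvd_of_mem_cycleType hn
  have h2 := Perm.two_le_of_mem_cycleType hn
  have h3 : n ≤ 8 := (Perm.le_card_support_of_mem_cycleType hn).trans (by
    simpa using Finset.card_le_univ π.support)
  have h4 : Odd n := h.of_dvd_nat h1
  obtain ⟨m, rfl⟩ := h4
  rcases (show m = 1 ∨ m = 2 ∨ m = 3 by omega) with rfl | rfl | rfl <;> norm_num

/-- The data of the first case. -/
structure CopyS (G : Type*) [Group G] [Finite G] extends Setting G where
  /-- The copy of `S₈`. -/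
  f : Perm (Fin 8) →* G
  f_inj : Function.Injective f
  f_emb : ∀ x, f (emb x) = toSetting.phi x
  six : toSetting.Six

namespace CopyS

variable {G : Type*} [Group G] [Finite G] (C : CopyS G)

/-- The copy of `S₈`. -/
def H : Subgroup G := C.f.range

theorem phi_mem (x : M35) : C.phi x ∈ C.H := ⟨emb x, C.f_emb x⟩

theorem f_t1 : C.f t1 = C.toSetting.r0 := by
  rw [Setting.r0, ← C.f_emb]
  exact congrArg C.f (by decide +kernel)

theorem w_mem : C.toSetting.w ∈ C.H := by
  set S := C.toSetting
  set g := C.f t3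
  have hz : g * S.z * g⁻¹ = S.a := by
    rw [Setting.z, Setting.a, ← C.f_emb, ← C.f_emb, ← map_inv, ← map_mul, ← map_mul]
    exact congrArg C.f (by decide +kernel)
  have ha : g * S.a * g⁻¹ = S.z := by
    rw [Setting.z, Setting.a, ← C.f_emb, ← C.f_emb, ← map_inv, ← map_mul, ← map_mul]
    exact congrArg C.f (by decide +kernel)
  have hn : ∀ x, InD x → g * S.phi x * g⁻¹ ∈ D0.map S.phi := by
    intro x hx
    have key : ∀ x : M35, InD x → ∃ x' ∈ ([(1, 1), (1, a5), (1, a5⁻¹), (c3, 1), (c3, a5),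
        (c3, a5⁻¹), (c3⁻¹, 1), (c3⁻¹, a5), (c3⁻¹, a5⁻¹)] : List M35),
        InD x' ∧ t3 * emb x * t3⁻¹ = emb x' := by decide +kernel
    obtain ⟨x', -, hx', e⟩ := key x hx
    refine ⟨x', hx', ?_⟩
    rw [← C.f_emb x, ← map_inv, ← map_mul, ← map_mul, e, C.f_emb]
  obtain ⟨x, -, e⟩ := S.nD g hn
  rcases e with e | e
  · exfalso
    rw [e, Setting.z, Setting.a, ← map_inv, ← map_mul, ← map_mul] at hz
    have h := congrArg Prod.snd (S.inj hz)
    simp at h
    exact absurd h.symm (by decide +kernel)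
  · have : S.w = g * (S.phi x)⁻¹ := by rw [e, mul_inv_cancel_right]
    rw [this]
    exact mul_mem ⟨t3, rfl⟩ (inv_mem (C.phi_mem x))

/-- The centraliser of `f π` lies in the copy. -/
def CentLe (π : Perm (Fin 8)) : Prop := ∀ g : G, Commute g (C.f π) → g ∈ C.H

theorem CentLe.of_isConj {π ρ : Perm (Fin 8)} (h : C.CentLe π) (hc : IsConj π ρ) : C.CentLe ρ := by
  obtain ⟨u, rfl⟩ := isConj_iff.1 hc
  intro g hg
  have := h ((C.f u)⁻¹ * g * C.f u) (by
    have := hg.map (MulAut.conj (C.f u)⁻¹).toMonoidHom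
    simpa [map_mul, map_inv, mul_assoc] using this)
  have h2 := mul_mem (mul_mem (show C.f u ∈ C.H from ⟨u, rfl⟩) this)
    (inv_mem (show C.f u ∈ C.H from ⟨u, rfl⟩))
  simpa [mul_assoc] using h2

theorem map_centralizer_le (π : Perm (Fin 8)) :
    (centralizer ({π} : Set (Perm (Fin 8)))).map C.f ≤ centralizer ({C.f π} : Set G) := by
  rintro _ ⟨u, hu, rfl⟩
  exact mem_centralizer_singleton_iff.2
    ((show Commute u π from mem_centralizer_singleton_iff.1 hu).map C.f).eq

theorem centralizer_eq {π : Perm (Fin 8)} (h : C.CentLe π) :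
    centralizer ({C.f π} : Set G) = (centralizer ({π} : Set (Perm (Fin 8)))).map C.f := by
  refine le_antisymm (fun g hg => ?_) (C.map_centralizer_le π)
  have hg' : Commute g (C.f π) := mem_centralizer_singleton_iff.1 hg
  obtain ⟨u, rfl⟩ := h g hg'
  exact ⟨u, mem_centralizer_singleton_iff.2 (C.f_inj (by rw [map_mul, map_mul]; exact hg'.eq)), rfl⟩

theorem card_centralizer_eq {π : Perm (Fin 8)} (h : C.CentLe π) :
    Nat.card (centralizer ({C.f π} : Set G)) =
      Nat.card (centralizer ({π} : Set (Perm (Fin 8)))) := by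
  rw [C.centralizer_eq h, card_map_of_injective C.f_inj]

theorem card_eq_of_conj {x y : G} (h : IsConj x y) :
    Nat.card (centralizer ({y} : Set G)) = Nat.card (centralizer ({x} : Set G)) := by
  obtain ⟨g, rfl⟩ := isConj_iff.1 h
  exact card_centralizer_conj g x

theorem cent_t1 : C.CentLe t1 := by
  intro g hg
  have h : (centralizer ({t1} : Set (Perm (Fin 8)))).map C.f = centralizer ({C.f t1} : Set G) := by
    refine eq_of_le_of_card_ge (C.map_centralizer_le t1) ?_
    rw [card_map_of_injective C.f_inj, card_centralizer_swap, C.f_t1,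
      C.toSetting.card_cent_r0_of_six C.six]
  obtain ⟨u, -, rfl⟩ := h.symm ▸ (mem_centralizer_singleton_iff.2 hg.eq :
    g ∈ centralizer ({C.f t1} : Set G))
  exact ⟨u, rfl⟩

theorem cent_swap {a b : Fin 8} (h : a ≠ b) : C.CentLe (swap a b) :=
  C.cent_t1.of_isConj C (Perm.isConj_iff_cycleType_eq.2 (by
    rw [(Perm.card_support_eq_two.1 (Perm.card_support_swap h)).isCycle.cycleType,
      cycleType_t1, Perm.card_support_swap h]
    rfl))

theorem not_conj_t3 : ¬ IsConj (C.f t1) (C.f t3) := by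
  intro h
  rw [C.f_t1] at h
  have hy : Commute (C.f t3) C.toSetting.y := by
    rw [Setting.y, ← C.f_emb]
    exact Commute.map (show Commute t3 (emb (c3, a5)) by
      rw [commute_iff_eq]; decide +kernel) C.f
  have := C.toSetting.eq_r0_of_comm_y h hy
  rw [← C.f_t1] at this
  exact absurd (C.f_inj this) (by decide +kernel)

theorem not_conj_of_card {π : Perm (Fin 8)}
    (h : ¬ Nat.card (centralizer ({π} : Set (Perm (Fin 8)))) ∣ 1440) :
    ¬ IsConj (C.f t1) (C.f π) := by
  intro hc
  refine h ?_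
  rw [← card_map_of_injective C.f_inj, ← C.toSetting.card_cent_r0_of_six C.six, ← C.f_t1,
    ← card_eq_of_conj hc]
  exact card_dvd_of_le (C.map_centralizer_le π)

/-- A conjugate of `r₀` in the copy is a transposition. -/
theorem conj_t1_cases {π : Perm (Fin 8)} (h : IsConj (C.f t1) (C.f π)) :
    ∃ a b, a ≠ b ∧ π = swap a b := by
  have ho : orderOf π = 2 := by
    rw [← orderOf_injective C.f C.f_inj, CfsgLib.Invol.orderOf_eq_of_isConj h, C.f_t1,
      C.toSetting.r0_order]
  rcases invol_classes ho with hc | hc | hc | hc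
  · exact exists_swap_of_isConj_t1 hc
  all_goals exfalso
  · exact C.not_conj_of_card (π := t2) (by rw [card_centralizer_t2]; norm_num)
      (h.trans ((C.f.map_isConj hc).symm))
  · exact C.not_conj_t3 (h.trans ((C.f.map_isConj hc).symm))
  · exact C.not_conj_of_card (π := t4) (by rw [card_centralizer_t4]; norm_num)
      (h.trans ((C.f.map_isConj hc).symm))

section

variable (π : Perm (Fin 8))

/-- The centraliser of `f π` in `G`. -/
abbrev L : Subgroup G := centralizer ({C.f π} : Set G)

/-- Members of the odd core of `L` lying in the copy come from permutations of odd order. -/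
theorem core_lift {x : C.L π} (hx : x ∈ Cfsg.oddCore (C.L π)) (hH : (x : G) ∈ C.H) :
    ∃ ρ : Perm (Fin 8), C.f ρ = x ∧ Commute ρ π ∧ ρ ^ 105 = 1 ∧
      ∀ e : Perm (Fin 8), Commute e π → (ρ * e * ρ⁻¹ * e⁻¹) ^ 105 = 1 := by
  obtain ⟨ρ, hρ⟩ := hH
  have hodd : ∀ (y : C.L π), y ∈ Cfsg.oddCore (C.L π) → ∀ σ : Perm (Fin 8), C.f σ = y →
      σ ^ 105 = 1 := by
    intro y hy σ hσ
    refine pow_105_of_odd ?_
    rw [← orderOf_injective C.f C.f_inj, hσ, orderOf_coe]
    refine (CfsgLib.Invol.odd_card_oddCore (C.L π)).of_dvd_nat ?_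
    have := orderOf_dvd_natCard (⟨y, hy⟩ : Cfsg.oddCore (C.L π))
    rwa [orderOf_mk] at this
  refine ⟨ρ, hρ, ?_, hodd x hx ρ hρ, fun e he => ?_⟩
  · have h : Commute (C.f ρ) (C.f π) := hρ ▸ mem_centralizer_singleton_iff.1 x.2
    exact C.f_inj (by rw [map_mul, map_mul]; exact h.eq)
  · let e' : C.L π := ⟨C.f e, mem_centralizer_singleton_iff.2 (he.map C.f).eq⟩
    haveI hn : (Cfsg.oddCore (C.L π)).Normal := CfsgLib.Solvable.pPrimeCore_normal 2 _
    refine hodd (x * (e' * x⁻¹ * e'⁻¹)) (mul_mem hx (hn.conj_mem _ (inv_mem hx) e')) _ ?_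
    simp only [map_mul, map_inv, hρ, coe_mul, coe_inv, e']
    group

/-- A transposition whose centraliser meets the odd core trivially inverts it. -/
theorem core_inverted (htriv : ∀ x ∈ Cfsg.oddCore (C.L π), (x : G) ∈ C.H → x = 1)
    {a b : Fin 8} (hab : a ≠ b) (hc : Commute (swap a b) π) :
    ∀ x ∈ Cfsg.oddCore (C.L π),
      (⟨C.f (swap a b), mem_centralizer_singleton_iff.2 (hc.map C.f).eq⟩ : C.L π) * x *
        ⟨C.f (swap a b), mem_centralizer_singleton_iff.2 (hc.map C.f).eq⟩ = x⁻¹ := by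
  haveI hn : (Cfsg.oddCore (C.L π)).Normal := CfsgLib.Solvable.pPrimeCore_normal 2 _
  set s : C.L π := ⟨C.f (swap a b), mem_centralizer_singleton_iff.2 (hc.map C.f).eq⟩
  have hss : s * s = 1 := Subtype.ext (by
    show C.f (swap a b) * C.f (swap a b) = 1
    rw [← map_mul, swap_mul_self, map_one])
  refine inverts_of_no_fixed hss (fun r hr => ?_) fun r hr hcr => htriv r hr ?_
  · have := hn.conj_mem r hr s
    rwa [inv_eq_of_mul_eq_one_right hss] at this
  · exact C.cent_swap hab r (congrArg Subtype.val hcr.eq.symm)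

end

theorem conj_t1_image {π : Perm (Fin 8)} (h1 : Commute t1 π) {g : G}
    (hg : Commute g (C.f π)) (hv : g * C.f t1 * g⁻¹ ∈ C.H) {x : Perm (Fin 8)} (hx3 : x ^ 3 = 1)
    (hx : x ≠ 1) (hxπ : Commute x π) (hx1 : Commute x t1) :
    ∃ a b, a ≠ b ∧ g * C.f t1 * g⁻¹ = C.f (swap a b) ∧ Commute (swap a b) π ∧
      ∃ ρ : Perm (Fin 8), ρ ≠ 1 ∧ ρ ^ 3 = 1 ∧ Commute ρ π ∧ Commute ρ (swap a b) := by
  obtain ⟨σ, hσ⟩ := hv
  obtain ⟨a, b, hab, rfl⟩ := C.conj_t1_cases (π := σ) (isConj_iff.2 ⟨g, hσ.symm⟩)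
  let c : G →* G := (MulAut.conj g).toMonoidHom
  have hcπ : c (C.f π) = C.f π := by
    show g * C.f π * g⁻¹ = C.f π
    rw [hg.eq, mul_inv_cancel_right]
  have hv' : c (C.f t1) = C.f (swap a b) := hσ.symm
  have down : ∀ u v : Perm (Fin 8), Commute (C.f u) (C.f v) → Commute u v := fun u v h =>
    C.f_inj (by rw [map_mul, map_mul]; exact h.eq)
  have hsπ : Commute (swap a b) π := down _ _ (hcπ ▸ hv' ▸ (h1.map C.f).map c)
  have hyv : Commute (c (C.f x)) (C.f (swap a b)) := hv' ▸ (hx1.map C.f).map c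
  obtain ⟨ρ, hρ⟩ := C.cent_swap hab _ hyv
  refine ⟨a, b, hab, hσ.symm, hsπ, ρ, fun e => hx ?_, C.f_inj ?_, down _ _ ?_, down _ _ ?_⟩
  · refine C.f_inj ((MulAut.conj g).injective (?_ : c (C.f x) = c (C.f 1)))
    rw [← hρ, e, map_one, map_one]
  · rw [map_pow, hρ, ← map_pow, ← map_pow, hx3, map_one, map_one]
  · rw [hρ, ← hcπ]; exact (hxπ.map C.f).map c
  · rw [hρ]; exact hyv

theorem cent_t3 : C.CentLe t3 := by
  have h13 : Commute t1 t3 := by rw [commute_iff_eq]; decide +kernel
  haveI hn : (Cfsg.oddCore (C.L t3)).Normal := CfsgLib.Solvable.pPrimeCore_normal 2 _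
  have htriv : ∀ x ∈ Cfsg.oddCore (C.L t3), (x : G) ∈ C.H → x = 1 := by
    intro x hx hxH
    obtain ⟨ρ, hρ, hc, ho, he⟩ := C.core_lift t3 hx hxH
    have h := odd_t3_trivial ρ hc ho (by
      simpa [swap_inv] using he (swap 0 5) (by rw [commute_iff_eq]; decide +kernel))
    exact Subtype.ext (by rw [← hρ, h, map_one]; rfl)
  have hO : Cfsg.oddCore (C.L t3) = ⊥ := by
    rw [eq_bot_iff_forall]
    intro x hx
    have c05 : Commute (swap (0 : Fin 8) 5) t3 := by rw [commute_iff_eq]; decide +kernel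
    have c16 : Commute (swap (1 : Fin 8) 6) t3 := by rw [commute_iff_eq]; decide +kernel
    have c27 : Commute (swap (2 : Fin 8) 7) t3 := by rw [commute_iff_eq]; decide +kernel
    have i05 := C.core_inverted t3 htriv (by decide) c05
    have i16 := C.core_inverted t3 htriv (by decide) c16
    have i27 := C.core_inverted t3 htriv (by decide) c27
    refine eq_one_of_inverted_centralized (CfsgLib.Invol.odd_card_oddCore _) hx (Subtype.ext ?_)
    have e1 := i27 x hx
    have e2 := i16 x⁻¹ (inv_mem hx)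
    have e3 := i05 x hx
    have e := congrArg Subtype.val e3
    simp only [coe_mul, coe_inv] at e
    have e' : C.f (swap 0 5) * (C.f (swap 1 6) * (C.f (swap 2 7) * x * C.f (swap 2 7)) *
        C.f (swap 1 6)) * C.f (swap 0 5) = ((x⁻¹ : C.L t3) : G) := by
      have f1 := congrArg Subtype.val e1
      have f2 := congrArg Subtype.val e2
      simp only [coe_mul, coe_inv, inv_inv] at f1 f2
      rw [f1, f2, coe_inv]
      exact e
    rw [← e']
    have hx3 : Commute (x : G) (C.f t3) := mem_centralizer_singleton_iff.1 x.2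
    calc (x : G) = C.f t3 * x * C.f t3 := by
          rw [mul_assoc, hx3.eq, ← mul_assoc, ← map_mul, show t3 * t3 = 1 by decide +kernel,
            map_one, one_mul]
      _ = _ := by
        conv_lhs => arg 2; rw [show t3 = swap 2 7 * (swap 1 6 * swap 0 5) by decide +kernel]
        conv_lhs => arg 1; arg 1; rw [show t3 = swap 0 5 * (swap 1 6 * swap 2 7) by decide +kernel]
        simp only [map_mul, mul_assoc]
  intro g hg
  let r : C.L t3 := ⟨C.f t1, mem_centralizer_singleton_iff.2 (h13.map C.f).eq⟩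
  have hrord : orderOf r = 2 := by
    rw [← orderOf_coe]
    show orderOf (C.f t1) = 2
    rw [C.f_t1]; exact C.toSetting.r0_order
  have hiso : Cfsg.IsIsolatedInvolution r := by
    refine ⟨hrord, fun k hk => ?_⟩
    have hv : (k : G) * C.f t1 * (k : G)⁻¹ ∈ C.H := C.cent_t1 _ (congrArg Subtype.val hk.eq.symm)
    obtain ⟨a, b, hab, e, hsπ, ρ, hρ1, hρ3, hρπ, hρs⟩ := C.conj_t1_image h13
      (mem_centralizer_singleton_iff.1 k.2) hv (x := emb (c3, a5)) (by decide +kernel)
      (by decide +kernel) (by rw [commute_iff_eq]; decide +kernel)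
      (by rw [commute_iff_eq]; decide +kernel)
    by_cases hs : swap a b = t1
    · refine Subtype.ext ?_
      show (k : G) * C.f t1 * (k : G)⁻¹ = C.f t1
      rw [e, hs]
    · exact absurd (swap_no_three_t3 a b hab hsπ hs ρ hρπ hρs hρ3) hρ1
  exact C.cent_t1 g (congrArg Subtype.val
    (commute_of_isolated hiso hO ⟨g, mem_centralizer_singleton_iff.2 hg.eq⟩).eq)

theorem cent_t2 : C.CentLe t2 := by
  have h12 : Commute t1 t2 := by rw [commute_iff_eq]; decide +kernel
  haveI hn : (Cfsg.oddCore (C.L t2)).Normal := CfsgLib.Solvable.pPrimeCore_normal 2 _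
  have htriv : ∀ x ∈ Cfsg.oddCore (C.L t2), (x : G) ∈ C.H → x = 1 := by
    intro x hx hxH
    obtain ⟨ρ, hρ, hc, ho, he⟩ := C.core_lift t2 hx hxH
    have hinv1 : (swap 2 5 * swap 6 7 : Perm (Fin 8))⁻¹ = swap 2 5 * swap 6 7 := by decide +kernel
    have hinv2 : (swap 2 6 * swap 5 7 : Perm (Fin 8))⁻¹ = swap 2 6 * swap 5 7 := by decide +kernel
    have he1 := he (swap 2 5 * swap 6 7) (by rw [commute_iff_eq]; decide +kernel)
    have he2 := he (swap 2 6 * swap 5 7) (by rw [commute_iff_eq]; decide +kernel)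
    rw [hinv1] at he1
    rw [hinv2] at he2
    have h := odd_t2_trivial ρ hc ho he1 he2
    exact Subtype.ext (by rw [← hρ, h, map_one]; rfl)
  have hO : Cfsg.oddCore (C.L t2) = ⊥ := by
    rw [eq_bot_iff_forall]
    intro x hx
    have i56 := C.core_inverted t2 htriv (a := 5) (b := 6) (by decide)
      (by rw [commute_iff_eq]; decide +kernel)
    have i67 := C.core_inverted t2 htriv (a := 6) (b := 7) (by decide)
      (by rw [commute_iff_eq]; decide +kernel)
    refine htriv x hx ?_
    have f1 := congrArg Subtype.val (i67 x hx)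
    have f2 := congrArg Subtype.val (i56 x⁻¹ (inv_mem hx))
    simp only [coe_mul, coe_inv, inv_inv] at f1 f2
    rw [← f1] at f2
    have hzc : Commute C.toSetting.z x := by
      have ez : C.toSetting.z = C.f (swap 5 6) * C.f (swap 6 7) := by
        rw [← map_mul, Setting.z, ← C.f_emb]
        exact congrArg C.f (by decide +kernel)
      have s56 : C.f (swap 5 6) * C.f (swap 5 6) = 1 := by rw [← map_mul, swap_mul_self, map_one]
      have s67 : C.f (swap 6 7) * C.f (swap 6 7) = 1 := by rw [← map_mul, swap_mul_self, map_one]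
      rw [ez, commute_iff_eq]
      conv_rhs => rw [← f2]
      simp only [mul_assoc]
      rw [← mul_assoc (C.f (swap 5 6)) (C.f (swap 5 6)), s56, one_mul, s67, mul_one]
    obtain ⟨m, -, hm⟩ := C.toSetting.comm_z hzc.symm
    rw [hm]
    exact C.phi_mem m
  haveI hNn : (zpowers (⟨C.f t2, mem_centralizer_singleton_iff.2 rfl⟩ : C.L t2)).Normal := by
    refine ⟨fun u hu g => ?_⟩
    obtain ⟨k, rfl⟩ := mem_zpowers_iff.1 hu
    have hgt : Commute g (⟨C.f t2, mem_centralizer_singleton_iff.2 rfl⟩ : C.L t2) :=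
      Subtype.ext (mem_centralizer_singleton_iff.1 g.2)
    rw [(hgt.zpow_right k).eq, mul_inv_cancel_right]
    exact hu
  set T : C.L t2 := ⟨C.f t2, mem_centralizer_singleton_iff.2 rfl⟩ with hT
  have hTc : zpowers T ≤ center (C.L t2) := zpowers_le.2 (mem_center_iff.2 fun g =>
    Subtype.ext (mem_centralizer_singleton_iff.1 g.2))
  have hT2 : T * T = 1 := Subtype.ext (by
    show C.f t2 * C.f t2 = 1
    rw [← map_mul, show t2 * t2 = 1 by decide +kernel, map_one])
  have hT1 : T ≠ 1 := fun e => absurd (C.f_inj ((congrArg Subtype.val e).trans (map_one C.f).symm))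
    (by decide +kernel)
  have hTord : Nat.card (zpowers T) = 2 := by
    rw [Nat.card_zpowers, CfsgLib.Invol.invol_of_mul_self hT2 hT1]
  have hOq := CfsgLib.Perm.AbelianZStar.oddCore_quotient_eq_bot hO (zpowers T) hTc hTord
  have memT : ∀ u : C.L t2, u ∈ zpowers T → (u : G) = 1 ∨ (u : G) = C.f t2 := by
    intro u hu
    obtain ⟨k, rfl⟩ := mem_zpowers_iff.1 hu
    rw [← zpow_mod_orderOf, CfsgLib.Invol.invol_of_mul_self hT2 hT1]
    rcases Int.emod_two_eq_zero_or_one k with e | e <;> rw [Nat.cast_ofNat, e]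
    · left; simp
    · right; simp [hT]
  let q := QuotientGroup.mk' (zpowers T)
  let r : C.L t2 := ⟨C.f t1, mem_centralizer_singleton_iff.2 (h12.map C.f).eq⟩
  have hrr : r * r = 1 := Subtype.ext (by
    show C.f t1 * C.f t1 = 1
    rw [← map_mul, show t1 * t1 = 1 by decide +kernel, map_one])
  have hrt : C.f t1 * C.f t2 = C.f (swap 0 1) := by
    rw [← map_mul]; exact congrArg C.f (by decide +kernel)
  have to_r : ∀ u : G, u = 1 ∨ u = C.f t2 →
      u * C.f t1 = C.f t1 ∨ u * C.f t1 = C.f (swap 0 1) := by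
    rintro u (rfl | rfl)
    · exact Or.inl (one_mul _)
    · right
      rw [← map_mul]; exact congrArg C.f (by decide +kernel)
  -- a conjugate of `r` inside `{r, r t₂}` has its conjugator in the copy
  have hin : ∀ (k u : G), k * u * k⁻¹ = C.f t1 ∨ k * u * k⁻¹ = C.f (swap 0 1) → u = C.f t1 →
      k ∈ C.H := by
    rintro k u h rfl
    rcases h with h | h
    · exact C.cent_t1 k (mul_inv_eq_iff_eq_mul.1 h)
    · have hh : C.f (swap 0 3 * swap 1 4) * k ∈ C.H := by
        refine C.cent_t1 _ (mul_inv_eq_iff_eq_mul.1 ?_)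
        calc C.f (swap 0 3 * swap 1 4) * k * C.f t1 * (C.f (swap 0 3 * swap 1 4) * k)⁻¹
            = C.f (swap 0 3 * swap 1 4) * (k * C.f t1 * k⁻¹) * (C.f (swap 0 3 * swap 1 4))⁻¹ := by
              group
          _ = C.f t1 := by
            rw [h, ← map_inv, ← map_mul, ← map_mul]
            exact congrArg C.f (by decide +kernel)
      have := mul_mem (inv_mem (show C.f (swap 0 3 * swap 1 4) ∈ C.H from ⟨_, rfl⟩)) hh
      rwa [inv_mul_cancel_left] at this
  have hiso : Cfsg.IsIsolatedInvolution (q r) := by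
    refine ⟨CfsgLib.Invol.invol_of_mul_self (by rw [← map_mul, hrr, map_one]) fun e => ?_,
      fun kq hk => ?_⟩
    · rcases memT r ((QuotientGroup.eq_one_iff r).1 e) with e' | e'
      · exact absurd (C.f_inj (e'.trans (map_one C.f).symm)) (by decide +kernel)
      · exact absurd (C.f_inj e') (by decide +kernel)
    · obtain ⟨k, rfl⟩ := QuotientGroup.mk'_surjective _ kq
      have hk' : q (k * r * k⁻¹ * r * (k * r * k⁻¹)⁻¹ * r⁻¹) = 1 := by
        simp only [map_mul, map_inv]
        rw [show q k * q r * (q k)⁻¹ * q r = q r * (q k * q r * (q k)⁻¹) from hk.eq.symm]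
        group
      set v := (k : G) * C.f t1 * (k : G)⁻¹ with hv
      have h1 : v * C.f t1 * v⁻¹ = C.f t1 ∨ v * C.f t1 * v⁻¹ = C.f (swap 0 1) := by
        have h2 := to_r _ (memT _ ((QuotientGroup.eq_one_iff _).1 hk'))
        simp only [coe_mul, coe_inv] at h2
        simp only [r, inv_mul_cancel_right] at h2
        exact h2
      have hvH : v ∈ C.H := hin v (C.f t1) h1 rfl
      obtain ⟨a, b, hab, e, hsπ, ρ, hρ1, hρ3, hρπ, hρs⟩ := C.conj_t1_image h12
        (mem_centralizer_singleton_iff.1 k.2) hvH (x := emb (c3, 1)) (by decide +kernel)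
        (by decide +kernel) (by rw [commute_iff_eq]; decide +kernel)
        (by rw [commute_iff_eq]; decide +kernel)
      show q k * q r * (q k)⁻¹ = q r
      rw [← map_mul, ← map_inv, ← map_mul]
      by_cases hs : swap a b = t1
      · refine congrArg q (Subtype.ext ?_)
        show (k : G) * C.f t1 * (k : G)⁻¹ = C.f t1
        rw [e, hs]
      by_cases hs' : swap a b = swap 0 1
      · refine (QuotientGroup.eq.2 ?_)
        refine mem_zpowers_iff.2 ⟨1, ?_⟩
        rw [zpow_one]
        refine Subtype.ext ?_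
        show C.f t2 = ((k : G) * C.f t1 * (k : G)⁻¹)⁻¹ * C.f t1
        rw [e, hs', ← map_inv, ← map_mul]
        exact congrArg C.f (by decide +kernel)
      exact absurd (swap_no_three_t2 a b hab hsπ hs hs' ρ hρπ hρs hρ3) hρ1
  intro g hg
  have h := commute_of_isolated hiso hOq (q ⟨g, mem_centralizer_singleton_iff.2 hg.eq⟩)
  set k : C.L t2 := ⟨g, mem_centralizer_singleton_iff.2 hg.eq⟩
  have hk' : q (k * r * k⁻¹ * r⁻¹) = 1 := by
    simp only [map_mul, map_inv]
    rw [h.eq, mul_inv_cancel_right, mul_inv_cancel]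
  have h2 := to_r _ (memT _ ((QuotientGroup.eq_one_iff _).1 hk'))
  simp only [coe_mul, coe_inv] at h2
  simp only [r, inv_mul_cancel_right] at h2
  exact hin g (C.f t1) h2 rfl

theorem card_L_t4 : 384 ∣ Nat.card (C.L t4) := by
  rw [← card_centralizer_t4, ← card_map_of_injective C.f_inj]
  exact card_dvd_of_le (C.map_centralizer_le t4)

/-- A conjugate of `f t₂` in the copy is a double transposition. -/
theorem conj_t2_cases {π : Perm (Fin 8)} (h : IsConj (C.f t2) (C.f π)) : IsConj t2 π := by
  have ho : orderOf π = 2 := by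
    rw [← orderOf_injective C.f C.f_inj, CfsgLib.Invol.orderOf_eq_of_isConj h,
      orderOf_injective C.f C.f_inj]
    exact orderOf_eq_prime (by decide +kernel) (by decide +kernel)
  rcases invol_classes ho with hc | hc | hc | hc
  · exact absurd ((C.f.map_isConj hc).trans h.symm)
      (C.not_conj_of_card (π := t2) (by rw [card_centralizer_t2]; norm_num))
  · exact hc
  · exfalso
    have := card_eq_of_conj (h.trans (C.f.map_isConj hc).symm)
    rw [C.card_centralizer_eq C.cent_t2, C.card_centralizer_eq C.cent_t3, card_centralizer_t2,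
      card_centralizer_t3] at this
    norm_num at this
  · exfalso
    have h1 := C.card_L_t4
    rw [card_eq_of_conj (h.trans (C.f.map_isConj hc).symm), C.card_centralizer_eq C.cent_t2,
      card_centralizer_t2] at h1
    norm_num at h1

theorem cent_of_invol {π : Perm (Fin 8)} (ho : orderOf π = 2) (h : ¬ IsConj t4 π) :
    C.CentLe π := by
  rcases invol_classes ho with hc | hc | hc | hc
  · exact C.cent_t1.of_isConj C hc
  · exact C.cent_t2.of_isConj C hc
  · exact C.cent_t3.of_isConj C hc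
  · exact absurd hc h

/-- A double transposition commuting with `t₄` whose product with `t₄` is one too is in the copy. -/
theorem pair_mem {v : G} (hc : Commute v (C.f t4)) (hv : IsConj (C.f t2) v)
    (hv' : IsConj (C.f t2) (C.f t4 * v)) : v ∈ C.H := by
  have hr : orderOf (C.f t1) = 2 := by rw [C.f_t1]; exact C.toSetting.r0_order
  have hvo : orderOf v = 2 := by
    rw [CfsgLib.Invol.orderOf_eq_of_isConj hv, orderOf_injective C.f C.f_inj]
    exact orderOf_eq_prime (by decide +kernel) (by decide +kernel)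
  have hne : ¬ IsConj (C.f t1) v := fun e =>
    C.not_conj_of_card (π := t2) (by rw [card_centralizer_t2]; norm_num) (e.trans hv.symm)
  have heven := CfsgLib.Invol.even_of_not_isConj hr hvo hne
  set k := orderOf (C.f t1 * v) / 2
  set j := (C.f t1 * v) ^ k with hj
  have hjo : orderOf j = 2 := CfsgLib.Invol.orderOf_pow_half heven
  have hjr : Commute j (C.f t1) := CfsgLib.Invol.commute_pow_half_left hr hvo heven
  have hjv : Commute j v := CfsgLib.Invol.commute_pow_half_right hr hvo heven
  have h14 : Commute t1 t4 := by rw [commute_iff_eq]; decide +kernel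
  have hji : Commute j (C.f t4) := ((h14.map C.f).mul_left hc).pow_left k
  obtain ⟨π, hπ⟩ := C.cent_t1 j hjr
  have hπo : orderOf π = 2 := by rw [← orderOf_injective C.f C.f_inj, hπ, hjo]
  have down : ∀ u w : Perm (Fin 8), Commute (C.f u) (C.f w) → Commute u w := fun u w h =>
    C.f_inj (by rw [map_mul, map_mul]; exact h.eq)
  by_cases h4 : IsConj t4 π
  swap
  · exact C.cent_of_invol hπo h4 v (hπ ▸ hjv.symm)
  by_cases he : π = t4
  · -- then `t₁ t₄` would be conjugate to `t₁` or to `t₂`
    exfalso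
    have hjt : j * C.f t1 = C.f t3 := by
      rw [← hπ, he, ← map_mul]
      exact congrArg C.f (by decide +kernel)
    rcases isConj_half_mul hr hvo k with e | e <;> rw [← hj, hjt] at e
    · exact C.not_conj_t3 e
    · have := card_eq_of_conj (hv.trans e)
      rw [C.card_centralizer_eq C.cent_t2, C.card_centralizer_eq C.cent_t3, card_centralizer_t2,
        card_centralizer_t3] at this
      norm_num at this
  · have h0 : fixCount π = 0 := by
      obtain ⟨u, hu⟩ := isConj_iff.1 h4
      rw [← hu, fixCount_conj]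
      decide +kernel
    have hπ4 : Commute π t4 := down _ _ (hπ.symm ▸ hji)
    have hπ1 : Commute π t1 := down _ _ (hπ.symm ▸ hjr)
    have hfix := four_moving_product π hπ4 hπ1 h0 he
    have ho : orderOf (t4 * π) = 2 := by
      refine CfsgLib.Invol.invol_of_mul_self ?_ fun e => he ?_
      · calc t4 * π * (t4 * π) = t4 * t4 * (π * π) := by
              rw [mul_assoc, ← mul_assoc π, hπ4.eq, mul_assoc, ← mul_assoc t4 t4]
          _ = 1 := by
            rw [CfsgLib.Invol.invol_mul_self hπo, show t4 * t4 = 1 by decide +kernel, one_mul]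
      · exact (eq_inv_of_mul_eq_one_right e).trans (by decide +kernel)
    refine C.cent_of_invol ho (fixCount_of_isConj_t4 hfix) v ?_
    rw [map_mul, hπ]
    exact hc.mul_right hjv.symm

theorem cent_t4 : C.CentLe t4 := by
  intro g hg
  let c : G →* G := (MulAut.conj g).toMonoidHom
  set u0 : Perm (Fin 8) := swap 0 5 * swap 1 6
  have hcu : Commute u0 t4 := by rw [commute_iff_eq]; decide +kernel
  have hu2 : IsConj t2 u0 := Perm.isConj_iff_cycleType_eq.2 (by decide +kernel)
  have hu2' : IsConj t2 (t4 * u0) := Perm.isConj_iff_cycleType_eq.2 (by decide +kernel)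
  have hci : c (C.f t4) = C.f t4 := by
    show g * C.f t4 * g⁻¹ = C.f t4
    rw [hg.eq, mul_inv_cancel_right]
  have hv : Commute (c (C.f u0)) (C.f t4) := hci ▸ (hcu.map C.f).map c
  have hv2 : IsConj (C.f t2) (c (C.f u0)) :=
    (C.f.map_isConj hu2).trans (isConj_iff.2 ⟨g, rfl⟩)
  have hv2' : IsConj (C.f t2) (C.f t4 * c (C.f u0)) := by
    have : c (C.f (t4 * u0)) = C.f t4 * c (C.f u0) := by rw [map_mul, map_mul, hci]
    rw [← this]
    exact (C.f.map_isConj hu2').trans (isConj_iff.2 ⟨g, rfl⟩)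
  obtain ⟨σ, hσ⟩ := C.pair_mem hv hv2 hv2'
  obtain ⟨a, b, e, d, hd, rfl⟩ := exists_double_of_isConj_t2 (C.conj_t2_cases (hσ.symm ▸ hv2))
  have hσc : Commute (swap a b * swap e d) t4 :=
    C.f_inj (by
      rw [map_mul C.f (swap a b * swap e d) t4, map_mul C.f t4 (swap a b * swap e d), hσ]
      exact hv.eq)
  have h4 := fixCount_t2 (C.conj_t2_cases (π := t4 * (swap a b * swap e d))
    (by rw [map_mul, hσ]; exact hv2'))
  obtain ⟨h, hh, heq⟩ := double_in_t4 a b e d hd hσc h4
  have hk : (C.f h)⁻¹ * g ∈ C.H := by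
    refine C.cent_t2.of_isConj C hu2 _ (mul_inv_eq_iff_eq_mul.1 ?_)
    calc (C.f h)⁻¹ * g * C.f u0 * ((C.f h)⁻¹ * g)⁻¹ = (C.f h)⁻¹ * c (C.f u0) * C.f h := by
          simp [c, mul_assoc]
      _ = C.f u0 := by
        rw [← hσ, ← heq, ← map_inv, ← map_mul, ← map_mul]
        exact congrArg C.f (by group; try rfl)
  have := mul_mem (show C.f h ∈ C.H from ⟨h, rfl⟩) hk
  rwa [mul_inv_cancel_left] at this

/-- Involutions of the copy conjugate in `G` are conjugate in the copy. -/
theorem isConj_of_conj {π ρ : Perm (Fin 8)} (hπ : orderOf π = 2) (h : IsConj (C.f π) (C.f ρ)) :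
    IsConj π ρ := by
  have hρ : orderOf ρ = 2 := by
    rw [← orderOf_injective C.f C.f_inj, CfsgLib.Invol.orderOf_eq_of_isConj h,
      orderOf_injective C.f C.f_inj, hπ]
  have hcard : ∀ σ : Perm (Fin 8), orderOf σ = 2 → C.CentLe σ := fun σ hσ => by
    by_cases h : IsConj t4 σ
    · exact C.cent_t4.of_isConj C h
    · exact C.cent_of_invol hσ h
  have e := card_eq_of_conj h
  rw [C.card_centralizer_eq (hcard ρ hρ), C.card_centralizer_eq (hcard π hπ)] at e
  have val : ∀ {σ τ : Perm (Fin 8)}, IsConj τ σ →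
      Nat.card (centralizer ({σ} : Set (Perm (Fin 8)))) =
        Nat.card (centralizer ({τ} : Set (Perm (Fin 8)))) := fun {σ τ} h => card_eq_of_conj h
  rcases invol_classes hπ with a | a | a | a <;> rcases invol_classes hρ with b | b | b | b <;>
    first
    | exact a.symm.trans b
    | (exfalso
       rw [val a, val b] at e
       simp only [card_centralizer_swap, card_centralizer_t2, card_centralizer_t3,
         card_centralizer_t4] at e
       omega)

theorem range_eq_top : C.H = ⊤ := by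
  by_contra hne
  have hr : orderOf (C.f t1) = 2 := by rw [C.f_t1]; exact C.toSetting.r0_order
  have hse : Cfsg.IsStronglyEmbedded C.H :=
    isStronglyEmbedded_of_conj hne (t := C.f t1) ⟨t1, rfl⟩ hr (by
      rintro _ ⟨π, rfl⟩ ho g ⟨ρ, hρ⟩
      have hπ : orderOf π = 2 := by rw [← orderOf_injective C.f C.f_inj, ho]
      obtain ⟨u, hu⟩ := isConj_iff.1 (C.isConj_of_conj hπ (hρ.symm ▸ isConj_iff.2 ⟨g, rfl⟩))
      have hcent : C.CentLe π := by
        by_cases h : IsConj t4 π
        · exact C.cent_t4.of_isConj C h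
        · exact C.cent_of_invol hπ h
      have hk : (C.f u)⁻¹ * g ∈ C.H := hcent _ (mul_inv_eq_iff_eq_mul.1 (by
        calc (C.f u)⁻¹ * g * C.f π * ((C.f u)⁻¹ * g)⁻¹
            = (C.f u)⁻¹ * (g * C.f π * g⁻¹) * C.f u := by group
          _ = C.f π := by
            rw [← hρ, ← hu, map_mul, map_mul, map_inv]
            group))
      have := mul_mem (show C.f u ∈ C.H from ⟨u, rfl⟩) hk
      rwa [mul_inv_cancel_left] at this)
  exact C.not_conj_of_card (π := t2) (by rw [card_centralizer_t2]; norm_num)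
    (CfsgLib.Invol.se_isConj hse hr (by
      rw [orderOf_injective C.f C.f_inj]
      exact orderOf_eq_prime (by decide +kernel) (by decide +kernel)))

include C in
theorem nonempty_equiv : Nonempty (G ≃* Perm (Fin 8)) :=
  ⟨(MulEquiv.ofBijective C.f ⟨C.f_inj, MonoidHom.range_eq_top.1 C.range_eq_top⟩).symm⟩

end CopyS

theorem Setting.caseS {G : Type*} [Group G] [Finite G] (S : Setting G)
    (hS : S.cw S.p = S.phi (1, swap 0 1))
    (h : S.Six ∨ ∀ g, Commute g S.r0 → S.Normalizes g) : Nonempty (G ≃* Perm (Fin 8)) := by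
  have h6 := S.six_of_caseS hS h
  obtain ⟨f, hinj, hf⟩ := S.exists_hom hS h6
  exact CopyS.nonempty_equiv { toSetting := S, f := f, f_inj := hinj, f_emb := hf, six := h6 }

end CfsgLib.Recog.SymEight
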