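import Cfsg.Agent.Lib.Recog.SymEight.Quot
import Cfsg.Agent.Lib.Recog.SymEight.Perm8
import Cfsg.Agent.Lib.Recog.MoorePresentation
import Mathlib.GroupTheory.SpecificGroups.Alternating.Simple
import Mathlib.Logic.Equiv.Fin.Basic

/-!
The first case: a copy of the symmetric group of degree eight.
-/

set_option autoImplicit false
set_option linter.style.haveILetI false
set_option synthInstance.maxSize 2000

namespace CfsgLib.Recog.SymEight

open Equiv Subgroup

/-- `S₅ × S₃` inside `S₈`. -/
def emb : M35 →* Perm (Fin 8) :=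
  (finSumFinEquiv.permCongrHom.toMonoidHom.comp (Perm.sumCongrHom (Fin 5) (Fin 3))).comp
    ((MonoidHom.snd _ _).prod (MonoidHom.fst _ _))

/-- The adjacent transpositions. -/
def tr (i : ℕ) : Perm (Fin 8) := swap (Fin.ofNat 8 i) (Fin.ofNat 8 (i + 1))

/-- The generators in the model of `N(⟨z⟩)`. -/
def mA : ℕ → M35
  | 0 => (1, swap 0 1)
  | 1 => (1, swap 1 2)
  | 2 => (1, swap 2 3)
  | 3 => (1, swap 3 4)
  | 5 => (swap 0 1, 1)
  | 6 => (swap 1 2, 1)
  | _ => 1

/-- The generators in the model of `N(⟨a⟩)`. -/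
def mB : ℕ → M35
  | 0 => (swap 0 1, 1)
  | 1 => (swap 1 2, 1)
  | 3 => (1, swap 3 4)
  | 4 => (1, swap 0 4)
  | 5 => (1, swap 0 1)
  | 6 => (1, swap 1 2)
  | _ => 1

theorem emb_mA : ∀ i : Fin 7, i.val ≠ 4 → emb (mA i.val) = tr i.val := by decide +kernel

theorem A4_centralised (A : Perm (Fin 6)) (hA : A * A * A = 1) (hA1 : A ≠ 1) (B : Perm (Fin 6))
    (hB : B * B = 1) (hB1 : B ≠ 1) (hAB : A * B * (A * B) * (A * B) = 1) :
    ∃ e : Perm (Fin 6), e * e = 1 ∧ e ≠ 1 ∧ e * A = A * e ∧ e * B = B * e := by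
  have hconj : ∀ A : Perm (Fin 6), A * A * A = 1 → A ≠ 1 →
      ∃ ρ : Perm (Fin 6), A * ρ = ρ * (swap 0 1 * swap 1 2) ∨
        A * ρ = ρ * (swap 0 1 * swap 1 2 * (swap 3 4 * swap 4 5)) := by decide +kernel
  have key : ∀ A ∈ ([swap 0 1 * swap 1 2, swap 0 1 * swap 1 2 * (swap 3 4 * swap 4 5)] :
      List (Perm (Fin 6))), ∀ B : Perm (Fin 6), B * B = 1 → B ≠ 1 →
      A * B * (A * B) * (A * B) = 1 →
      ∃ e : Perm (Fin 6), e * e = 1 ∧ e ≠ 1 ∧ e * A = A * e ∧ e * B = B * e := by decide +kernel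
  obtain ⟨ρ, hρ⟩ := hconj A hA hA1
  obtain ⟨A', hA', rfl⟩ : ∃ A' ∈ ([swap 0 1 * swap 1 2,
      swap 0 1 * swap 1 2 * (swap 3 4 * swap 4 5)] : List (Perm (Fin 6))),
      A = ρ * A' * ρ⁻¹ := by
    rcases hρ with h | h <;> exact ⟨_, by simp, eq_mul_inv_of_mul_eq h⟩
  obtain ⟨B', rfl⟩ : ∃ B', B = ρ * B' * ρ⁻¹ := ⟨ρ⁻¹ * B * ρ, by group⟩
  let c : Perm (Fin 6) →* Perm (Fin 6) := (MulAut.conj ρ).toMonoidHom
  have hc : Function.Injective c := (MulAut.conj ρ).injective
  obtain ⟨e, he, he1, heA, heB⟩ := key A' hA' B' (hc (by rw [map_mul, map_one]; exact hB))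
    (fun h => hB1 (by simp [h]))
    (hc (by simp only [map_mul, map_one]; exact hAB))
  refine ⟨c e, by rw [← map_mul, he, map_one], fun h => he1 (hc (by rw [h, map_one])), ?_, ?_⟩
  · show c e * c A' = c A' * c e
    rw [← map_mul, heA, map_mul]
  · show c e * c B' = c B' * c e
    rw [← map_mul, heB, map_mul]

theorem hom_ext_perm {n : ℕ} {H : Type*} [Monoid H] {F F' : Perm (Fin (n + 1)) →* H}
    (h : ∀ i : Fin n, F (swap i.castSucc i.succ) = F' (swap i.castSucc i.succ)) : F = F' :=
  MonoidHom.eq_of_eqOn_denseM (Perm.mclosure_swap_castSucc_succ n) (by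
    rintro _ ⟨i, rfl⟩
    exact h i)

namespace Setting

variable {G : Type*} [Group G] [Finite G] (S : Setting G)

/-- Replacing `w` by `w r₀`. -/
def flip : Setting G where
  phi := S.phi
  inj := S.inj
  w := S.w * S.r0
  ww := by
    calc S.w * S.r0 * (S.w * S.r0) = S.w * (S.r0 * S.w) * S.r0 := by group
      _ = S.w * (S.w * S.r0) * S.r0 := by rw [S.w_comm_r0.eq]
      _ = 1 := by rw [← mul_assoc, S.ww, one_mul, S.r0_sq]
  wz := by
    show S.w * S.r0 * S.z * (S.w * S.r0) = S.a
    calc S.w * S.r0 * S.z * (S.w * S.r0) = S.w * (S.r0 * S.z) * (S.r0 * S.w) := by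
          rw [S.w_comm_r0.symm.eq]; group
      _ = S.w * S.z * (S.r0 * S.r0) * S.w := by rw [S.r0_comm_z.eq]; group
      _ = S.a := by rw [S.r0_sq, mul_one, S.wzw]
  normz := S.normz
  nD := fun g hg => by
    obtain ⟨x, hx, h⟩ := S.nD g hg
    rcases h with h | h
    · exact ⟨x, hx, Or.inl h⟩
    · refine ⟨(1, swap 3 4) * x, ?_, Or.inr ?_⟩
      · have key : ∀ π : Perm (Fin 5), NK π → NK (swap 3 4 * π) := by decide +kernel
        exact key _ hx
      · rw [map_mul, h]
        show S.w * S.phi x = S.w * S.r0 * (S.r0 * S.phi x)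
        rw [mul_assoc, ← mul_assoc S.r0, S.r0_sq, one_mul]
  cy := S.cy
  sylow3 := S.sylow3
  wpw := by
    have e : S.w * S.r0 * S.phi (swap 0 1, 1) * (S.w * S.r0) =
        S.w * S.phi (swap 0 1, 1) * S.w := by
      calc S.w * S.r0 * S.phi (swap 0 1, 1) * (S.w * S.r0)
          = S.w * (S.r0 * S.phi (swap 0 1, 1)) * (S.r0 * S.w) := by rw [S.w_comm_r0.symm.eq]; group
        _ = S.w * S.phi (swap 0 1, 1) * (S.r0 * S.r0) * S.w := by
          rw [show S.r0 * S.phi (swap 0 1, 1) = S.phi (swap 0 1, 1) * S.r0 from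
            (S.phi_commute (by decide +kernel : (1, swap 3 4) * ((swap 0 1, 1) : M35) =
              (swap 0 1, 1) * (1, swap 3 4))).eq]
          group
        _ = S.w * S.phi (swap 0 1, 1) * S.w := by rw [S.r0_sq, mul_one]
    rw [e]
    exact S.wpw

theorem card_cent_r0_of_six (h : S.Six) :
    Nat.card (centralizer ({S.r0} : Set G)) = 1440 := by
  obtain ⟨π, hπ, hker⟩ := h
  rw [← π.ker.index_mul_card, index_ker, MonoidHom.range_eq_top.2 hπ, card_top,
    Nat.card_eq_fintype_card (α := Perm (Fin 6)), Fintype.card_perm, Fintype.card_fin]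
  have : Nat.card π.ker = 2 := by
    rw [Nat.card_eq_two_iff' (1 : π.ker)]
    refine ⟨⟨⟨S.r0, mem_centralizer_singleton_iff.2 rfl⟩, (hker _).2 (Or.inr rfl)⟩, ?_, ?_⟩
    · intro e
      have h2 := S.r0_order
      rw [show S.r0 = 1 from congrArg (fun x : π.ker => ((x : _) : G)) e, orderOf_one] at h2
      norm_num at h2
    · rintro ⟨x, hx⟩ hne
      refine Subtype.ext (Subtype.ext (((hker x).1 hx).resolve_left fun e => hne ?_))
      exact Subtype.ext (Subtype.ext e)
  rw [this]
  rfl

theorem isConj_r0_p (hS : S.cw S.p = S.phi (1, swap 0 1)) : IsConj S.r0 S.p := by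
  rw [isConj_iff]
  refine ⟨S.w * S.phi (1, swap 0 3 * swap 1 4), ?_⟩
  have e : S.phi (1, swap 0 3 * swap 1 4) * S.r0 * (S.phi (1, swap 0 3 * swap 1 4))⁻¹ =
      S.cw S.p := by
    rw [hS, r0, ← map_inv, ← map_mul, ← map_mul]
    exact congrArg S.phi (by decide +kernel)
  calc S.w * S.phi (1, swap 0 3 * swap 1 4) * S.r0 * (S.w * S.phi (1, swap 0 3 * swap 1 4))⁻¹
      = S.w * (S.phi (1, swap 0 3 * swap 1 4) * S.r0 * (S.phi (1, swap 0 3 * swap 1 4))⁻¹) *
          S.w⁻¹ := by group
    _ = S.p := by rw [e, S.w_inv]; exact S.cw_cw _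

theorem six_of_caseS (hS : S.cw S.p = S.phi (1, swap 0 1))
    (h : S.Six ∨ ∀ g, Commute g S.r0 → S.Normalizes g) : S.Six := by
  refine h.resolve_right fun hn => ?_
  obtain ⟨g, hg⟩ := isConj_iff.1 (S.isConj_r0_p hS)
  have hle : Nat.card {x : M35 // x * (swap 0 1, 1) = (swap 0 1, 1) * x} ≤
      Nat.card (Bool × {x : M35 // NK x.2}) := by
    let h' : Bool × {x : M35 // NK x.2} → G :=
      fun q => g * (bif q.1 then S.phi q.2.1 else S.w * S.phi q.2.1) * g⁻¹
    have hmem : ∀ x : {x : M35 // x * (swap 0 1, 1) = (swap 0 1, 1) * x},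
        S.phi x.1 ∈ Set.range h' := by
      intro x
      have hc : Commute (S.phi x.1) S.p := S.phi_commute x.2
      have hc' : Commute (g⁻¹ * S.phi x.1 * g) S.r0 := by
        have := hc.map (MulAut.conj g⁻¹).toMonoidHom
        rw [← hg] at this
        simpa [mul_assoc] using this
      obtain ⟨u, hu, e⟩ := S.normalizes_form (hn _ hc')
      rcases e with e | e
      · exact ⟨(true, ⟨u, hu⟩), by simp [h', ← e, mul_assoc]⟩
      · exact ⟨(false, ⟨u, hu⟩), by simp [h', ← e, mul_assoc]⟩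
    choose F hF using hmem
    refine Nat.card_le_card_of_injective F fun x y e => Subtype.ext (S.inj ?_)
    rw [← hF x, e, hF y]
  rw [Nat.card_prod, card_NK, Nat.card_eq_fintype_card, Nat.card_eq_fintype_card,
    Fintype.card_bool, show Fintype.card {x : M35 // x * (swap 0 1, 1) = (swap 0 1, 1) * x} = 240 by
      decide +kernel] at hle
  omega

theorem exists_extra (hS : S.cw S.p = S.phi (1, swap 0 1)) (h6 : S.Six) :
    ∃ τ ∈ ([swap 2 3, swap 2 4] : List (Perm (Fin 5))),
      Commute (S.cw (S.phi (1, τ))) (S.phi (1, swap 0 1 * swap 2 3)) := by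
  obtain ⟨π, hπ, hker⟩ := h6
  obtain ⟨g, hg⟩ := isConj_iff.1 (S.isConj_r0_p hS)
  -- read everything in the centraliser of `r₀`
  let c : G →* G := (MulAut.conj g⁻¹).toMonoidHom
  have hcinj : Function.Injective c := (MulAut.conj g⁻¹).injective
  have hcp : c S.p = S.r0 := by simp [c, ← hg, mul_assoc]
  have hmem : ∀ x, Commute x S.p → c x ∈ centralizer ({S.r0} : Set G) := fun x hx =>
    mem_centralizer_singleton_iff.2 (hcp ▸ (hx.map c).eq)
  set v := S.phi (1, swap 0 1 * swap 2 3)
  have hap : Commute S.a S.p := S.phi_commute (by decide +kernel)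
  have hvp : Commute v S.p := S.phi_commute (by decide +kernel)
  let a' : centralizer ({S.r0} : Set G) := ⟨c S.a, hmem _ hap⟩
  let v' : centralizer ({S.r0} : Set G) := ⟨c v, hmem _ hvp⟩
  have ne_of : ∀ x : M35, x ≠ 1 → x ≠ (swap 0 1, 1) → ∀ hx : Commute (S.phi x) S.p,
      π ⟨c (S.phi x), hmem _ hx⟩ ≠ 1 := by
    intro x h1 h2 hx e
    rcases (hker _).1 e with e' | e'
    · exact h1 (S.inj (hcinj (e'.trans (by rw [map_one S.phi, map_one c]))))
    · exact h2 (S.inj (hcinj (e'.trans hcp.symm)))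
  obtain ⟨e, he, he1, hea, hev⟩ := A4_centralised (π a')
    (by
      rw [← map_mul, ← map_mul, show a' * a' * a' = 1 from Subtype.ext (by
        show c S.a * c S.a * c S.a = 1
        rw [← map_mul, ← map_mul, a, ← map_mul, ← map_mul,
          show ((1, a5) : M35) * (1, a5) * (1, a5) = 1 by decide +kernel, map_one, map_one]),
        map_one])
    (ne_of (1, a5) (by decide +kernel) (by decide +kernel) hap) (π v')
    (by
      rw [← map_mul, show v' * v' = 1 from Subtype.ext (by
        show c v * c v = 1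
        rw [← map_mul, ← map_mul,
          show ((1, swap 0 1 * swap 2 3) : M35) * (1, swap 0 1 * swap 2 3) = 1 by decide +kernel,
          map_one, map_one]),
        map_one])
    (ne_of (1, swap 0 1 * swap 2 3) (by decide +kernel) (by decide +kernel) hvp)
    (by
      simp only [← map_mul]
      rw [show a' * v' * (a' * v') * (a' * v') = 1 from Subtype.ext (by
        show c S.a * c v * (c S.a * c v) * (c S.a * c v) = 1
        simp only [a, v, ← map_mul]
        rw [show ((1, a5) : M35) * (1, swap 0 1 * swap 2 3) * ((1, a5) * (1, swap 0 1 * swap 2 3)) *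
          ((1, a5) * (1, swap 0 1 * swap 2 3)) = 1 by decide +kernel, map_one, map_one]),
        map_one])
  obtain ⟨ε, hε⟩ := hπ e
  set E := g * (ε : G) * g⁻¹
  have hcE : c E = ε := by simp [c, E, mul_assoc]
  have hEp : Commute E S.p := by
    have := (show Commute (ε : G) S.r0 from mem_centralizer_singleton_iff.1 ε.2).map
      (MulAut.conj g).toMonoidHom
    simpa [E, hg] using this
  -- elements of order three commuting modulo `r₀`
  have lift : ∀ x : centralizer ({S.r0} : Set G), (x : G) ^ 3 = 1 → Commute e (π x) →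
      Commute (ε : G) x := by
    intro x hx3 hx
    have h1 : π (ε * x * ε⁻¹ * x⁻¹) = 1 := by
      rw [map_mul, map_mul, map_mul, map_inv, map_inv, hε, hx.eq, mul_inv_cancel_right,
        mul_inv_cancel]
    rcases (hker _).1 h1 with h2 | h2
    · simp only [coe_mul, coe_inv] at h2
      exact mul_inv_eq_iff_eq_mul.1 (mul_inv_eq_one.1 h2)
    · exfalso
      simp only [coe_mul, coe_inv] at h2
      have h3 : (ε : G) * x * (ε : G)⁻¹ = S.r0 * x := mul_inv_eq_iff_eq_mul.1 h2
      have h4 := congrArg (fun t => t ^ 3) h3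
      simp only [conj_pow, hx3, mul_one, mul_inv_cancel] at h4
      rw [(show Commute (x : G) S.r0 from mem_centralizer_singleton_iff.1 x.2).symm.mul_pow, hx3,
        mul_one, pow_succ, pow_two, S.r0_sq, one_mul] at h4
      have h5 := S.r0_order
      rw [← h4, orderOf_one] at h5
      norm_num at h5
  have hEa' : Commute (ε : G) a' := lift a' (by
      show (c S.a) ^ 3 = 1
      rw [← map_pow, S.D_pow S.a_mem, map_one]) hea
  have hEav : Commute (ε : G) (a' * v' : centralizer ({S.r0} : Set G)) := lift (a' * v') (by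
      show (c S.a * c v) ^ 3 = 1
      simp only [a, v, ← map_mul, ← map_pow]
      rw [show ((((1, a5) : M35) * (1, swap 0 1 * swap 2 3)) ^ 3 : M35) = 1 by decide +kernel,
        map_one, map_one])
    (by rw [map_mul]; exact (show Commute e _ from hea).mul_right hev)
  have hEv' : Commute (ε : G) v' := by
    have := hEa'.inv_right.mul_right hEav
    simpa using this
  have back : ∀ x, Commute (ε : G) (c x) → Commute E x := by
    intro x hx
    have := hx.map (MulAut.conj g).toMonoidHom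
    simpa [E, c, mul_assoc] using this
  have hEa : Commute E S.a := back _ hEa'
  have hEv : Commute E v := back _ hEv'
  obtain ⟨x, hx1, hxE⟩ := S.comm_a hEa
  have hcwp : S.cw (S.phi (1, swap 0 1)) = S.p := by rw [← hS, S.cw_cw]
  have hxc : x * (1, swap 0 1) = (1, swap 0 1) * x := by
    refine S.inj ?_
    have := hEp.map S.cw
    rw [hxE, S.cw_cw, hS] at this
    rw [map_mul, map_mul]
    exact this.eq
  have hxx : x * x = 1 ∨ x * x = (1, swap 0 1) := by
    have h1 : π (ε * ε) = 1 := by rw [map_mul, hε, he]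
    have h2 : c (E * E) = ((ε * ε : centralizer ({S.r0} : Set G)) : G) := by
      rw [map_mul, hcE]; rfl
    rcases (hker _).1 h1 with h3 | h3 <;> rw [← h2] at h3
    · left
      refine S.inj (S.cw_inj ?_)
      rw [map_mul, map_mul, ← hxE, map_one, map_one]
      exact hcinj (by rw [h3, map_one])
    · right
      refine S.inj (S.cw_inj ?_)
      rw [map_mul, map_mul, ← hxE, hcwp]
      exact hcinj (by rw [h3, hcp])
  have hx0 : x ≠ 1 ∧ x ≠ (1, swap 0 1) := by
    constructor <;> intro h <;> refine he1 ?_ <;> rw [← hε, hker, ← hcE, hxE, h]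
    · left; simp
    · right; rw [hcwp, hcp]
  have key : ∀ x : M35, (x.1 = 1 ∨ x.1 = c3 ∨ x.1 = c3⁻¹) → x * (1, swap 0 1) = (1, swap 0 1) * x →
      (x * x = 1 ∨ x * x = (1, swap 0 1)) → x ≠ 1 → x ≠ (1, swap 0 1) →
      ∃ τ ∈ ([swap 2 3, swap 2 4, swap 3 4] : List (Perm (Fin 5))),
        x = (1, τ) ∨ x = (1, swap 0 1) * (1, τ) := by decide +kernel
  obtain ⟨τ, hτ, hτx⟩ := key x hx1 hxc hxx hx0.1 hx0.2
  have hτv : Commute (S.cw (S.phi (1, τ))) v := by
    rcases hτx with rfl | rfl
    · rw [← hxE]; exact hEv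
    · rw [map_mul, map_mul, hcwp] at hxE
      have h1 : S.cw (S.phi (1, τ)) = S.p * E := by
        rw [hxE, ← mul_assoc, ← sq, ← S.p_order, pow_orderOf_eq_one, one_mul]
      rw [h1]
      exact hvp.symm.mul_left hEv
  simp only [List.mem_cons, List.not_mem_nil, or_false] at hτ
  rcases hτ with rfl | rfl | rfl
  · exact ⟨_, by simp, hτv⟩
  · exact ⟨_, by simp, hτv⟩
  · exfalso
    rw [show S.cw (S.phi (1, swap 3 4)) = S.r0 from S.cw_r0] at hτv
    have := S.inj (by rw [map_mul, map_mul]; exact hτv.eq :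
      S.phi ((1, swap 3 4) * (1, swap 0 1 * swap 2 3)) =
        S.phi ((1, swap 0 1 * swap 2 3) * (1, swap 3 4)))
    exact absurd this (by decide +kernel)

theorem exists_hom_aux (hS : S.cw S.p = S.phi (1, swap 0 1))
    (h24 : Commute (S.cw (S.phi (1, swap 2 4))) (S.phi (1, swap 0 1 * swap 2 3))) :
    ∃ f : Perm (Fin 8) →* G, ∀ x, f (emb x) = S.phi x := by
  have hcwp : S.cw (S.phi (1, swap 0 1)) = S.p := by rw [← hS, S.cw_cw]
  have hcwq : S.cw (S.phi (1, swap 1 2)) = S.phi (swap 1 2, 1) := by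
    rw [show ((1, swap 1 2) : M35) = (1, a5) * (1, swap 0 1) * (1, a5)⁻¹ by decide +kernel,
      map_mul, map_mul, map_inv, map_mul, map_mul, map_inv, hcwp,
      show S.cw (S.phi (1, a5)) = S.z from S.waw, z, p, ← map_inv, ← map_mul, ← map_mul]
    exact congrArg S.phi (by decide +kernel)
  let s : ℕ → G := fun i => if i = 4 then S.cw (S.phi (mB 4)) else S.phi (mA i)
  have sA : ∀ i, i ≠ 4 → s i = S.phi (mA i) := fun i hi => if_neg hi
  have sB : ∀ i, i < 7 → i ≠ 2 → s i = S.cw (S.phi (mB i)) := by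
    intro i hi hi2
    rcases (show i = 0 ∨ i = 1 ∨ i = 3 ∨ i = 4 ∨ i = 5 ∨ i = 6 by omega) with
      rfl | rfl | rfl | rfl | rfl | rfl
    · show S.phi (1, swap 0 1) = S.cw (S.phi (swap 0 1, 1))
      exact hS.symm
    · show S.phi (1, swap 1 2) = S.cw (S.phi (swap 1 2, 1))
      rw [← hcwq, S.cw_cw]
    · exact S.cw_r0.symm
    · exact if_pos rfl
    · exact hcwp.symm
    · exact hcwq.symm
  have h24' : Commute (s 2) (s 4) := by
    rw [sA 2 (by omega), show mA 2 = mA 0 * (1, swap 0 1 * swap 2 3) by decide +kernel, map_mul,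
      ← sA 0 (by omega)]
    refine Commute.mul_left ?_ ?_
    · rw [sB 0 (by omega) (by omega), sB 4 (by omega) (by omega)]
      exact (S.phi_commute (by decide +kernel)).map S.cw
    · rw [sB 4 (by omega) (by omega), show mB 4 =
        (1, swap 0 1) * ((1, swap 1 2) * (1, swap 2 4) * (1, swap 1 2)) * (1, swap 0 1) by
          decide +kernel, map_mul, map_mul, map_mul, map_mul, map_mul, map_mul, map_mul, map_mul,
        hcwp, hcwq]
      have h1 : Commute (S.phi (1, swap 0 1 * swap 2 3)) S.p := S.phi_commute (by decide +kernel)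
      have h2 : Commute (S.phi (1, swap 0 1 * swap 2 3)) (S.phi (swap 1 2, 1)) :=
        S.phi_commute (by decide +kernel)
      exact (h1.mul_right ((h2.mul_right h24.symm).mul_right h2)).mul_right h1
  let u : ℕ → G × Perm (Fin 8) := fun i => (s i, tr i)
  have kT : ∀ i : Fin 7, tr i.val * tr i.val = 1 := by decide +kernel
  have kA2 : ∀ i : Fin 7, mA i.val * mA i.val = 1 := by decide +kernel
  have kB2 : ∀ i : Fin 7, mB i.val * mB i.val = 1 := by decide +kernel
  have kTb : ∀ i : Fin 6, tr i.val * tr (i.val + 1) * tr i.val =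
      tr (i.val + 1) * tr i.val * tr (i.val + 1) := by decide +kernel
  have kAb : ∀ i : Fin 6, i.val ≠ 3 → i.val ≠ 4 → mA i.val * mA (i.val + 1) * mA i.val =
      mA (i.val + 1) * mA i.val * mA (i.val + 1) := by decide +kernel
  have kBb : ∀ i : Fin 6, (i.val = 3 ∨ i.val = 4) → mB i.val * mB (i.val + 1) * mB i.val =
      mB (i.val + 1) * mB i.val * mB (i.val + 1) := by decide +kernel
  have kTc : ∀ i j : Fin 7, i.val + 2 ≤ j.val → tr i.val * tr j.val = tr j.val * tr i.val := by
    decide +kernel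
  have kAc : ∀ i j : Fin 7, i.val + 2 ≤ j.val → i.val ≠ 4 → j.val ≠ 4 →
      mA i.val * mA j.val = mA j.val * mA i.val := by decide +kernel
  have kBc : ∀ i j : Fin 7, i.val + 2 ≤ j.val → i.val ≠ 2 → j.val ≠ 2 →
      mB i.val * mB j.val = mB j.val * mB i.val := by decide +kernel
  have hrel : CfsgLib.Recog.Moore.Rel u 7 := by
    refine ⟨fun i hi => Prod.ext ?_ (kT ⟨i, hi⟩), fun i hi => Prod.ext ?_ (kTb ⟨i, by omega⟩),
      fun i j hij hj => Prod.ext ?_ (kTc ⟨i, by omega⟩ ⟨j, hj⟩ hij)⟩
    · show s i * s i = 1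
      by_cases h4 : i = 4
      · rw [sB i hi (by omega), ← map_mul, ← map_mul, kB2 ⟨i, hi⟩, map_one, map_one]
      · rw [sA i h4, ← map_mul, kA2 ⟨i, hi⟩, map_one]
    · show s i * s (i + 1) * s i = s (i + 1) * s i * s (i + 1)
      by_cases h34 : i = 3 ∨ i = 4
      · rw [sB i (by omega) (by omega), sB (i + 1) (by omega) (by omega), ← map_mul, ← map_mul,
          ← map_mul, ← map_mul, ← map_mul, ← map_mul, ← map_mul, ← map_mul,
          kBb ⟨i, by omega⟩ h34]
      · rw [sA i (by omega), sA (i + 1) (by omega), ← map_mul, ← map_mul,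
          ← map_mul, ← map_mul, kAb ⟨i, by omega⟩ (by simp only; omega) (by simp only; omega)]
    · show s i * s j = s j * s i
      by_cases h2 : i = 2
      · subst h2
        by_cases h4 : j = 4
        · subst h4; exact h24'
        · rw [sA 2 (by omega), sA j h4, ← map_mul, ← map_mul,
            kAc ⟨2, by omega⟩ ⟨j, hj⟩ hij (by simp) h4]
      · by_cases h2' : j = 2
        · subst h2'
          rw [sA i (by omega), sA 2 (by omega), ← map_mul, ← map_mul,
            kAc ⟨i, by omega⟩ ⟨2, by omega⟩ hij (by simp only; omega) (by simp)]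
        · rw [sB i (by omega) h2, sB j hj h2', ← map_mul, ← map_mul, ← map_mul, ← map_mul,
            kBc ⟨i, by omega⟩ ⟨j, hj⟩ hij h2 h2']
  obtain ⟨hfin, hle⟩ := CfsgLib.Recog.Moore.finite_card_le hrel 7 le_rfl
  set L := closure {y | ∃ i < 7, y = u i}
  let pr : L →* Perm (Fin 8) := (MonoidHom.snd G (Perm (Fin 8))).comp L.subtype
  have hsurj : Function.Surjective pr := by
    have hrange : Submonoid.closure (Set.range fun i : Fin 7 => swap i.castSucc i.succ) ≤
        pr.range.toSubmonoid := by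
      rw [Submonoid.closure_le]
      rintro _ ⟨i, rfl⟩
      refine ⟨⟨u i.val, subset_closure ⟨i.val, i.isLt, rfl⟩⟩, ?_⟩
      show tr i.val = swap i.castSucc i.succ
      revert i
      decide +kernel
    rw [Perm.mclosure_swap_castSucc_succ] at hrange
    exact fun x => hrange (Submonoid.mem_top x)
  have hbij : Function.Bijective pr := (Nat.bijective_iff_surjective_and_card pr).2
    ⟨hsurj, le_antisymm (by
      rw [Nat.card_eq_fintype_card (α := Perm (Fin 8)), Fintype.card_perm, Fintype.card_fin]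
      exact hle) (Nat.card_le_card_of_surjective pr hsurj)⟩
  let f : Perm (Fin 8) →* G :=
    ((MonoidHom.fst G (Perm (Fin 8))).comp L.subtype).comp (MulEquiv.ofBijective pr hbij).symm.toMonoidHom
  have hf : ∀ i, i < 7 → f (tr i) = s i := by
    intro i hi
    have e : (MulEquiv.ofBijective pr hbij).symm (tr i) = ⟨u i, subset_closure ⟨i, hi, rfl⟩⟩ := by
      rw [MulEquiv.symm_apply_eq]
      rfl
    simp [f, e, u]
  refine ⟨f, fun x => ?_⟩
  have h3 : (f.comp emb).comp (MonoidHom.inl _ _) = S.phi.comp (MonoidHom.inl _ _) := by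
    refine hom_ext_perm fun i => ?_
    fin_cases i
    · show f (emb (mA 5)) = S.phi (mA 5)
      rw [emb_mA ⟨5, by omega⟩ (by simp), hf 5 (by omega)]
      exact sA 5 (by omega)
    · show f (emb (mA 6)) = S.phi (mA 6)
      rw [emb_mA ⟨6, by omega⟩ (by simp), hf 6 (by omega)]
      exact sA 6 (by omega)
  have h5 : (f.comp emb).comp (MonoidHom.inr _ _) = S.phi.comp (MonoidHom.inr _ _) := by
    refine hom_ext_perm fun i => ?_
    have hm : ∀ i : Fin 4, ((1, swap i.castSucc i.succ) : M35) = mA i.val := by decide +kernel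
    show f (emb (1, swap i.castSucc i.succ)) = S.phi (1, swap i.castSucc i.succ)
    rw [hm i, emb_mA ⟨i.val, by omega⟩ (by simp only; omega), hf i.val (by omega)]
    exact sA i.val (by omega)
  calc f (emb x) = f (emb ((x.1, 1) * (1, x.2))) := by simp
    _ = f (emb (x.1, 1)) * f (emb (1, x.2)) := by rw [map_mul, map_mul]
    _ = S.phi (x.1, 1) * S.phi (1, x.2) :=
        congrArg₂ (· * ·) (DFunLike.congr_fun h3 x.1) (DFunLike.congr_fun h5 x.2)
    _ = S.phi x := by rw [← map_mul]; simp

theorem exists_hom (hS : S.cw S.p = S.phi (1, swap 0 1)) (h6 : S.Six) :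
    ∃ f : Perm (Fin 8) →* G, Function.Injective f ∧ ∀ x, f (emb x) = S.phi x := by
  obtain ⟨τ, hτ, hc⟩ := S.exists_extra hS h6
  obtain ⟨f, hf⟩ : ∃ f : Perm (Fin 8) →* G, ∀ x, f (emb x) = S.phi x := by
    simp only [List.mem_cons, List.not_mem_nil, or_false] at hτ
    rcases hτ with rfl | rfl
    · have hflip : ∀ x, S.flip.cw x = S.cw (S.r0 * x * S.r0) := by
        intro x
        show S.w * S.r0 * x * (S.w * S.r0) = S.w * (S.r0 * x * S.r0) * S.w
        rw [show S.w * S.r0 * x * (S.w * S.r0) = S.w * S.r0 * x * (S.r0 * S.w) by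
          rw [S.w_comm_r0.eq]]
        group
      refine S.flip.exists_hom_aux ?_ ?_
      · rw [hflip]
        show S.cw (S.r0 * S.p * S.r0) = S.phi (1, swap 0 1)
        rw [← hS]
        congr 1
        rw [show S.r0 * S.p = S.p * S.r0 from (S.phi_commute (by decide +kernel)).eq, mul_assoc,
          S.r0_sq, mul_one]
      · rw [hflip]
        show Commute (S.cw (S.r0 * S.phi (1, swap 2 4) * S.r0)) (S.phi (1, swap 0 1 * swap 2 3))
        rw [r0, ← map_mul, ← map_mul,
          show ((1, swap 3 4) : M35) * (1, swap 2 4) * (1, swap 3 4) = (1, swap 2 3) by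
            decide +kernel]
        exact hc
    · exact S.exists_hom_aux hS hc
  refine ⟨f, (MonoidHom.ker_eq_bot_iff f).1 ?_, hf⟩
  by_contra hne
  haveI : Nontrivial f.ker := (nontrivial_iff_ne_bot _).2 hne
  have h := Perm.alternatingGroup_le_of_normal (α := Fin 8) (by simp) (N := f.ker) inferInstance
  have h1 : emb (1, a5) ∈ alternatingGroup (Fin 8) := by
    rw [Perm.mem_alternatingGroup]
    decide +kernel
  have h2 : f (emb (1, a5)) = 1 := h h1
  rw [hf, map_eq_one_iff S.phi S.inj] at h2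
  exact absurd h2 (by decide +kernel)

end Setting

end CfsgLib.Recog.SymEight
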