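import Cfsg.Agent.Lib.Recog.SymEight.CaseXCent
import Cfsg.Agent.Lib.Comp.Components
import Cfsg.Prelude.Def_CaseTheorems

/-!
The second case: `A₅ × A₅` is the generalised Fitting subgroup, minimal normal of index four.
-/

set_option autoImplicit false
set_option linter.style.haveILetI false
set_option synthInstance.maxSize 2000
set_option maxHeartbeats 1000000

namespace CfsgLib.Recog.SymEight

open Equiv Subgroup

namespace CopyY

variable {G : Type*} [Group G] [Finite G] (C : CopyY G)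

theorem invol_types {v : A5 × A5} (ho : orderOf (C.toCopyX.Phi v) = 2) :
    ∃ u : A5 × A5, ∃ t ∈ ([(eb, 1), (1, eb), (eb, eb)] : List (A5 × A5)), u * t * u⁻¹ = v := by
  rw [orderOf_injective _ C.toCopyX.Phi_inj] at ho
  have h2 : v * v = 1 := CfsgLib.Invol.invol_mul_self ho
  obtain ⟨x, y⟩ := v
  have hx : x * x = 1 := congrArg Prod.fst h2
  have hy : y * y = 1 := congrArg Prod.snd h2
  by_cases e1 : x = 1
  · by_cases e2 : y = 1
    · subst e1 e2
      rw [show ((1 : A5), (1 : A5)) = 1 from rfl, orderOf_one] at ho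
      norm_num at ho
    · obtain ⟨u, hu⟩ := A5_invol_conj y hy e2
      exact ⟨(1, u), (1, eb), by simp, by simp [e1, hu]⟩
  · obtain ⟨u, hu⟩ := A5_invol_conj x hx e1
    by_cases e2 : y = 1
    · exact ⟨(u, 1), (eb, 1), by simp, by simp [e2, hu]⟩
    · obtain ⟨u', hu'⟩ := A5_invol_conj y hy e2
      exact ⟨(u, u'), (eb, eb), by simp, by simp [hu, hu']⟩

theorem isConj_rep {t : A5 × A5} (ht : t ∈ ([(eb, 1), (1, eb)] : List (A5 × A5))) :
    IsConj C.toSetting.p (C.toCopyX.Phi t) := by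
  simp only [List.mem_cons, List.not_mem_nil, or_false] at ht
  rcases ht with rfl | rfl
  · exact C.toCopyX.conj_left (by decide +kernel) (by decide +kernel)
  · exact C.toCopyX.conj_right (by decide +kernel) (by decide +kernel)

theorem Y_eq : C.Y = C.toCopyX.N0 := by
  refine le_antisymm ?_ C.N0_le
  by_contra hne
  set N := C.toCopyX.N0.subgroupOf C.Y
  have hi0 : C.toSetting.i0 = C.toCopyX.Phi (eb, 1) := by
    rw [CopyX.Phi_apply, map_one, mul_one, CopyX.az_eb]
  have hp : C.toSetting.p = C.toCopyX.Phi (1, eb) := by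
    rw [CopyX.Phi_apply, map_one, one_mul, CopyX.aa_eb]
  have hord : ∀ t : A5 × A5, t * t = 1 → t ≠ 1 →
      orderOf (C.toCopyX.Phi t) = 2 := fun t h h1 => by
    rw [orderOf_injective _ C.toCopyX.Phi_inj]
    exact CfsgLib.Invol.invol_of_mul_self h h1
  have hcent : ∀ t ∈ ([(eb, 1), (1, eb), (eb, eb)] : List (A5 × A5)), ∀ g ∈ C.Y,
      Commute g (C.toCopyX.Phi t) → g ∈ C.toCopyX.N0 := by
    intro t ht g hg hc
    simp only [List.mem_cons, List.not_mem_nil, or_false] at ht
    rcases ht with rfl | rfl | rfl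
    · exact C.cent_i0 ⟨hg, mem_centralizer_singleton_iff.2 (hi0 ▸ hc).eq⟩
    · exact C.cent_p hg (hp ▸ hc)
    · exact C.cent_mid ⟨hg, mem_centralizer_singleton_iff.2 hc.eq⟩
  have hse : Cfsg.IsStronglyEmbedded N := by
    refine isStronglyEmbedded_of_conj (fun h => hne (subgroupOf_eq_top.1 h))
      (t := ⟨_, C.N0_le ⟨(eb, 1), rfl⟩⟩) (mem_subgroupOf.2 ⟨(eb, 1), rfl⟩)
      (by rw [Subgroup.orderOf_mk]; exact hord _ (by decide +kernel) (by decide +kernel)) ?_
    rintro u ⟨v, hv⟩ huo g ⟨v', hv'⟩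
    rw [← orderOf_coe] at huo
    have huo' : orderOf (C.toCopyX.Phi v) = 2 := by rw [hv]; exact huo
    have hv'' : C.toCopyX.Phi v' = (g : G) * C.toCopyX.Phi v * (g : G)⁻¹ := by rw [hv', hv]; rfl
    have huo'' : orderOf (C.toCopyX.Phi v') = 2 := by
      rw [hv'', CfsgLib.Invol.orderOf_conj_eq, huo']
    obtain ⟨a, t, ht, hav⟩ := C.invol_types huo'
    obtain ⟨a', t', ht', hav'⟩ := C.invol_types huo''
    set n := (C.toCopyX.Phi a')⁻¹ * (g : G) * C.toCopyX.Phi a
    have haY : ∀ b : A5 × A5, C.toCopyX.Phi b ∈ C.Y := fun b => C.N0_le ⟨b, rfl⟩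
    have hnY : n ∈ C.Y := mul_mem (mul_mem (inv_mem (haY a')) g.2) (haY a)
    have hnt : n * C.toCopyX.Phi t * n⁻¹ = C.toCopyX.Phi t' := by
      calc n * C.toCopyX.Phi t * n⁻¹ = (C.toCopyX.Phi a')⁻¹ *
            ((g : G) * (C.toCopyX.Phi a * C.toCopyX.Phi t * (C.toCopyX.Phi a)⁻¹) * (g : G)⁻¹) *
            C.toCopyX.Phi a' := by simp only [n]; group
        _ = C.toCopyX.Phi t' := by
          rw [show C.toCopyX.Phi a * C.toCopyX.Phi t * (C.toCopyX.Phi a)⁻¹ = C.toCopyX.Phi v by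
            rw [← hav, map_mul, map_mul, map_inv], ← hv'',
            show C.toCopyX.Phi v' = C.toCopyX.Phi a' * C.toCopyX.Phi t' * (C.toCopyX.Phi a')⁻¹ by
            rw [← hav', map_mul, map_mul, map_inv]]
          group
    have htt : t = t' := by
      have hc : IsConj (C.toCopyX.Phi t) (C.toCopyX.Phi t') := isConj_iff.2 ⟨n, hnt⟩
      have hmid : ∀ t ∈ ([(eb, 1), (1, eb)] : List (A5 × A5)),
          ¬ IsConj (C.toCopyX.Phi t) (C.toCopyX.Phi (eb, eb)) := fun t ht h =>
        C.toCopyX.p_not_conj_mid ((C.isConj_rep ht).trans h)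
      simp only [List.mem_cons, List.not_mem_nil, or_false] at ht ht'
      rcases ht with rfl | rfl | rfl <;> rcases ht' with rfl | rfl | rfl
      · rfl
      · exact absurd (hi0 ▸ hp ▸ hnt) (C.i0_p_not_conj hnY)
      · exact absurd hc (hmid _ (by simp))
      · refine absurd ?_ (C.i0_p_not_conj (inv_mem hnY))
        rw [hi0, hp, ← hnt]
        group
      · rfl
      · exact absurd hc (hmid _ (by simp))
      · exact absurd hc.symm (hmid _ (by simp))
      · exact absurd hc.symm (hmid _ (by simp))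
      · rfl
    subst htt
    have hnN : n ∈ C.toCopyX.N0 := hcent t ht n hnY (mul_inv_eq_iff_eq_mul.1 hnt)
    refine mem_subgroupOf.2 ?_
    have := mul_mem (mul_mem (show C.toCopyX.Phi a' ∈ C.toCopyX.N0 from ⟨a', rfl⟩) hnN)
      (inv_mem (show C.toCopyX.Phi a ∈ C.toCopyX.N0 from ⟨a, rfl⟩))
    simpa [n, mul_assoc] using this
  have h := CfsgLib.Invol.se_isConj hse
    (a := ⟨_, C.N0_le ⟨(eb, 1), rfl⟩⟩) (b := ⟨_, C.N0_le ⟨(eb, eb), rfl⟩⟩)
    (by rw [Subgroup.orderOf_mk]; exact hord _ (by decide +kernel) (by decide +kernel))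
    (by rw [Subgroup.orderOf_mk]; exact hord _ (by decide +kernel) (by decide +kernel))
  exact C.toCopyX.p_not_conj_mid ((C.isConj_rep (by simp)).trans (C.Y.subtype.map_isConj h))

theorem normalN0 : C.toCopyX.N0.Normal := C.Y_eq ▸ C.normalY

theorem decompose (g : G) : ∃ h ∈ C.toCopyX.reps, g * h ∈ C.toCopyX.N0 := by
  haveI := C.normalY
  let F : Fin 4 → G ⧸ C.Y := fun i => QuotientGroup.mk' C.Y (C.toCopyX.reps.getD i.val 1)
  have hreps : ∀ i : Fin 4, C.toCopyX.reps.getD i.val 1 ∈ C.toCopyX.reps := by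
    intro i
    fin_cases i <;> simp [CopyX.reps]
  have hinj : Function.Injective F := by
    intro i j e
    have h1 : (C.toCopyX.reps.getD i.val 1)⁻¹ * C.toCopyX.reps.getD j.val 1 ∈ C.Y :=
      QuotientGroup.eq.1 e
    rw [inv_eq_of_mul_eq_one_right (C.toCopyX.rep_sq (hreps i))] at h1
    have h2 : C.toCopyX.reps.getD i.val 1 * C.toCopyX.reps.getD j.val 1 = 1 := by
      by_contra hne
      exact C.rep_notY _ (C.toCopyX.rep_mul (hreps i) (hreps j)) hne h1
    have h3 : C.toCopyX.reps.getD i.val 1 = C.toCopyX.reps.getD j.val 1 :=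
      (eq_inv_of_mul_eq_one_left h2).trans
        (inv_eq_of_mul_eq_one_right (C.toCopyX.rep_sq (hreps j)))
    have k1 : C.toSetting.r0 ≠ 1 := fun e => by
      have := C.toSetting.r0_order
      rw [e, orderOf_one] at this
      norm_num at this
    obtain ⟨k2, k4⟩ := C.toCopyX.swap_ne (u := C.toSetting.w) (by simp [CopyX.swaps])
    have k3 := C.toCopyX.rw_ne
    fin_cases i <;> fin_cases j <;>
      simp [CopyX.reps, k1, k2, k3, k4, k1.symm, k2.symm, k3.symm, k4.symm] at h3 ⊢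
  letI : Fintype (G ⧸ C.Y) := Fintype.ofFinite _
  have hsurj : Function.Surjective F :=
    ((Fintype.bijective_iff_injective_and_card F).2 ⟨hinj, by
      rw [Fintype.card_fin, ← Nat.card_eq_fintype_card, ← index_eq_card, C.indexY]⟩).2
  obtain ⟨i, hi⟩ := hsurj (QuotientGroup.mk' C.Y g)⁻¹
  refine ⟨_, hreps i, ?_⟩
  rw [← C.Y_eq]
  refine (QuotientGroup.eq_one_iff _).1 ?_
  show QuotientGroup.mk' C.Y (g * C.toCopyX.reps.getD i.val 1) = 1
  rw [map_mul, show QuotientGroup.mk' C.Y (C.toCopyX.reps.getD i.val 1) = _ from hi, mul_inv_cancel]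

theorem sq_mem (g : G) : g ^ 2 ∈ C.toCopyX.N0 := by
  haveI := C.normalN0
  obtain ⟨h, hh, hgh⟩ := C.decompose g
  rw [← QuotientGroup.eq_one_iff] at hgh ⊢
  rw [QuotientGroup.mk_mul, mul_eq_one_iff_eq_inv] at hgh
  rw [pow_two, QuotientGroup.mk_mul, hgh, ← mul_inv_rev, ← QuotientGroup.mk_mul,
    C.toCopyX.rep_sq hh, QuotientGroup.mk_one, inv_one]

theorem centralizer_N0 : centralizer (C.toCopyX.N0 : Set G) = ⊥ := by
  rw [eq_bot_iff_forall]
  intro x hx
  rw [mem_centralizer_iff] at hx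
  obtain ⟨h, hh, v, hv⟩ := C.decompose x
  have hx' : x = C.toCopyX.Phi v * h := by
    rw [hv, mul_assoc, C.toCopyX.rep_sq hh, mul_one]
  have hc : ∀ u : A5 × A5, C.toCopyX.Phi v * (h * C.toCopyX.Phi u) =
      C.toCopyX.Phi u * C.toCopyX.Phi v * h := fun u => by
    have := hx _ ⟨u, rfl⟩
    rw [hx'] at this
    rw [← mul_assoc, ← this, mul_assoc]
  have hw : ∀ u : A5 × A5, C.toSetting.w * C.toCopyX.Phi u =
      C.toCopyX.Phi (u.2, u.1) * C.toSetting.w := by
    intro u
    rw [← C.toCopyX.w_Phi u, Setting.cw_apply, mul_assoc _ C.toSetting.w, C.toSetting.ww, mul_one]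
  have hr : ∀ u : A5 × A5, C.toSetting.r0 * C.toCopyX.Phi u =
      C.toCopyX.Phi (flip5 u.1, flip5 u.2) * C.toSetting.r0 := by
    intro u
    rw [← C.toCopyX.cr_Phi u, CopyX.cr_apply, mul_assoc _ C.toSetting.r0, C.toSetting.r0_sq,
      mul_one]
  have conv : ∀ u u' : A5 × A5, h * C.toCopyX.Phi u = C.toCopyX.Phi u' * h → v * u' = u * v := by
    intro u u' e
    have h1 := hc u
    rw [e, ← mul_assoc] at h1
    exact C.toCopyX.Phi_inj (by rw [map_mul, map_mul]; exact mul_right_cancel h1)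
  simp only [CopyX.reps, List.mem_cons, List.not_mem_nil, or_false] at hh
  rcases hh with rfl | rfl | rfl | rfl
  · have key : ∀ u : A5 × A5, v * u = u * v := fun u => conv u u (by rw [one_mul, mul_one])
    rw [hx', mul_one, show v = 1 from Prod.ext
      (A5_center v.1 (congrArg Prod.fst (key (ea, 1))) (congrArg Prod.fst (key (eb, 1))))
      (A5_center v.2 (congrArg Prod.snd (key (1, ea))) (congrArg Prod.snd (key (1, eb)))), map_one]
  · exfalso
    have no : ∀ a : A5, ¬ (a * flip5 ea = ea * a ∧ a * flip5 eb = eb * a ∧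
        a * flip5 ec = ec * a) := by decide +kernel
    exact no v.1 ⟨congrArg Prod.fst (conv (ea, 1) _ (hr _)),
      congrArg Prod.fst (conv (eb, 1) _ (hr _)), congrArg Prod.fst (conv (ec, 1) _ (hr _))⟩
  · exfalso
    have e := congrArg Prod.fst (conv (ea, 1) _ (hw _))
    simp only [Prod.fst_mul, mul_one, right_eq_mul] at e
    exact absurd e (by decide +kernel)
  · exfalso
    have e := congrArg Prod.fst (conv (ea, 1) (flip5 1, flip5 ea) (by
      rw [mul_assoc, hw, ← mul_assoc, hr, mul_assoc]))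
    simp only [Prod.fst_mul, map_one, mul_one, right_eq_mul] at e
    exact absurd e (by decide +kernel)

/-- The first simple factor. -/
def AZ : Subgroup G := C.toCopyX.az.range

/-- The second simple factor. -/
def AA : Subgroup G := C.toCopyX.aa.range

theorem isComponent_range (f : A5 →* G) (hf : Function.Injective f)
    (hle : f.range ≤ C.toCopyX.N0)
    (hn : ∀ g ∈ C.toCopyX.N0, ∀ x, g * f x * g⁻¹ ∈ f.range) : Cfsg.IsComponent f.range := by
  haveI : IsSimpleGroup A5 := alternatingGroup.isSimpleGroup (by simp)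
  haveI hN := C.normalN0
  let e : A5 ≃* f.range := MonoidHom.ofInjective hf
  haveI hs : IsSimpleGroup f.range := MulEquiv.isSimpleGroup e.symm
  have hsub : f.range.IsSubnormal := by
    refine IsSubnormal.step _ _ hle hN.isSubnormal ⟨fun x hx g => ?_⟩
    rw [mem_subgroupOf] at hx ⊢
    obtain ⟨a, ha⟩ := hx
    rw [coe_mul, coe_mul, coe_inv, ← ha]
    exact hn g g.2 a
  have hz : center f.range = ⊥ := by
    refine (eq_bot_iff_forall _).2 fun x hx => ?_
    have hx' : e.symm x = 1 := A5_center _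
      (e.injective (by
        rw [map_mul, map_mul, e.apply_symm_apply]
        exact ((mem_center_iff.1 hx (e ea))).symm))
      (e.injective (by
        rw [map_mul, map_mul, e.apply_symm_apply]
        exact ((mem_center_iff.1 hx (e eb))).symm))
    rw [← e.apply_symm_apply x, hx', map_one]
  refine ⟨hsub, ?_, ((QuotientGroup.quotientMulEquivOfEq hz).trans
    QuotientGroup.quotientBot).isSimpleGroup⟩
  refine ⟨(inferInstance : (commutator f.range).Normal).eq_bot_or_eq_top.resolve_left fun h => ?_⟩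
  rw [commutator_eq_bot_iff_center_eq_top, hz] at h
  exact bot_ne_top h

theorem components : Cfsg.IsComponent C.AZ ∧ Cfsg.IsComponent C.AA := by
  constructor
  · refine C.isComponent_range _ C.toCopyX.az_inj ?_ ?_
    · rintro _ ⟨x, rfl⟩
      exact ⟨(x, 1), by rw [CopyX.Phi_apply, map_one, mul_one]⟩
    · rintro _ ⟨v, rfl⟩ x
      refine ⟨v.1 * x * v.1⁻¹, ?_⟩
      rw [show C.toCopyX.az x = C.toCopyX.Phi (x, 1) by rw [CopyX.Phi_apply, map_one, mul_one],
        show C.toCopyX.az (v.1 * x * v.1⁻¹) = C.toCopyX.Phi (v.1 * x * v.1⁻¹, 1) by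
          rw [CopyX.Phi_apply, map_one, mul_one],
        ← map_inv, ← map_mul, ← map_mul]
      exact congrArg _ (Prod.ext rfl (by simp))
  · refine C.isComponent_range _ C.toCopyX.aa_inj ?_ ?_
    · rintro _ ⟨x, rfl⟩
      exact ⟨(1, x), by rw [CopyX.Phi_apply, map_one, one_mul]⟩
    · rintro _ ⟨v, rfl⟩ x
      refine ⟨v.2 * x * v.2⁻¹, ?_⟩
      rw [show C.toCopyX.aa x = C.toCopyX.Phi (1, x) by rw [CopyX.Phi_apply, map_one, one_mul],
        show C.toCopyX.aa (v.2 * x * v.2⁻¹) = C.toCopyX.Phi (1, v.2 * x * v.2⁻¹) by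
          rw [CopyX.Phi_apply, map_one, one_mul],
        ← map_inv, ← map_mul, ← map_mul]
      exact congrArg _ (Prod.ext (by simp) rfl)

theorem le_layer : C.toCopyX.N0 ≤ Cfsg.layer G := by
  rintro _ ⟨v, rfl⟩
  exact mul_mem (CfsgLib.Comp.le_layer C.components.1 ⟨v.1, rfl⟩)
    (CfsgLib.Comp.le_layer C.components.2 ⟨v.2, rfl⟩)

theorem generalizedFitting_eq : Cfsg.generalizedFittingSubgroup G = C.toCopyX.N0 := by
  have hle : Cfsg.layer G ≤ C.toCopyX.N0 := by
    refine sSup_le fun K hK => ?_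
    rcases CfsgLib.Comp.component_eq_or_le_centralizer hK C.components.1 with e | h1
    · rw [e]
      rintro _ ⟨x, rfl⟩
      exact ⟨(x, 1), by rw [CopyX.Phi_apply, map_one, mul_one]⟩
    rcases CfsgLib.Comp.component_eq_or_le_centralizer hK C.components.2 with e | h2
    · rw [e]
      rintro _ ⟨x, rfl⟩
      exact ⟨(1, x), by rw [CopyX.Phi_apply, map_one, one_mul]⟩
    intro k hk
    have hkc : k ∈ centralizer (C.toCopyX.N0 : Set G) := by
      rw [mem_centralizer_iff]
      rintro _ ⟨v, rfl⟩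
      have a := mem_centralizer_iff.1 (h1 hk) _ ⟨v.1, rfl⟩
      have b := mem_centralizer_iff.1 (h2 hk) _ ⟨v.2, rfl⟩
      exact (((show Commute (C.toCopyX.az v.1) k from a)).mul_left b).eq
    rw [C.centralizer_N0, mem_bot] at hkc
    rw [hkc]
    exact one_mem _
  have hF : Cfsg.fittingSubgroup G = ⊥ := by
    refine le_bot_iff.1 ?_
    rw [← C.centralizer_N0]
    exact (CfsgLib.Comp.fittingSubgroup_le_centralizer_layer G).trans (centralizer_le C.le_layer)
  rw [Cfsg.generalizedFittingSubgroup, hF, sup_bot_eq]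
  exact le_antisymm hle C.le_layer

theorem minimal {K : Subgroup G} (hK : K.Normal) (hle : K ≤ C.toCopyX.N0) :
    K = ⊥ ∨ K = C.toCopyX.N0 := by
  haveI : IsSimpleGroup A5 := alternatingGroup.isSimpleGroup (by simp)
  refine or_iff_not_imp_left.2 fun hK0 => le_antisymm hle ?_
  set T := K.comap C.toCopyX.Phi
  have hT : T.Normal := hK.comap _
  let T1 := T.comap (MonoidHom.inl A5 A5)
  have hT1n : T1.Normal := hT.comap _
  have hfull : T1 = ⊤ → C.toCopyX.N0 ≤ K := by
    intro h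
    have h1 : ∀ x : A5, C.toCopyX.Phi (x, 1) ∈ K := fun x => h.ge (mem_top x)
    have h2 : ∀ x : A5, C.toCopyX.Phi (1, x) ∈ K := fun x => by
      have := hK.conj_mem _ (h1 x) C.toSetting.w
      rw [Setting.w_inv] at this
      rwa [← C.toCopyX.w_Phi (x, 1)]
    rintro _ ⟨v, rfl⟩
    rw [show v = (v.1, 1) * (1, v.2) by simp, map_mul]
    exact mul_mem (h1 _) (h2 _)
  rcases hT1n.eq_bot_or_eq_top with h | h
  swap
  · exact hfull h
  exfalso
  refine hK0 ((eq_bot_iff_forall _).2 fun k hk => ?_)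
  have hinner : ∀ v ∈ T, v.1 = 1 := by
    intro v hv
    have hcomm : ∀ g : A5, v.1 * g = g * v.1 := fun g => by
      have h1 := mul_mem hv (hT.conj_mem _ (inv_mem hv) (g, 1))
      have e : v * ((g, 1) * v⁻¹ * (g, 1)⁻¹) =
          MonoidHom.inl A5 A5 (v.1 * (g * v.1⁻¹ * g⁻¹)) :=
        Prod.ext rfl (by simp)
      rw [e] at h1
      have := mem_bot.1 (h.le (show v.1 * (g * v.1⁻¹ * g⁻¹) ∈ T1 from mem_comap.2 h1))
      have h2 : v.1 = g * v.1 * g⁻¹ := (eq_inv_of_mul_eq_one_left this).trans (by group)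
      exact eq_mul_inv_iff_mul_eq.1 h2
    exact A5_center v.1 (hcomm ea) (hcomm eb)
  obtain ⟨v, rfl⟩ := hle hk
  have h1 := hinner v hk
  have h2 : v.2 = 1 := by
    have hkw := hK.conj_mem _ hk C.toSetting.w
    rw [Setting.w_inv] at hkw
    have : (v.2, v.1) ∈ T := by
      rw [mem_comap, ← C.toCopyX.w_Phi v]
      exact hkw
    exact hinner _ this
  rw [show v = 1 from Prod.ext h1 h2, map_one]

end CopyY

theorem Setting.caseX {G : Type*} [Group G] [Finite G] (S : Setting G) (hX : S.cw S.p = S.i0)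
    (h : S.Six ∨ ∀ g, Commute g S.r0 → S.Normalizes g) :
    ∃ N : Subgroup G, N.Normal ∧ Cfsg.generalizedFittingSubgroup G = N ∧
      Nonempty (N ≃* alternatingGroup (Fin 5) × alternatingGroup (Fin 5)) ∧
      (∀ K : Subgroup G, K.Normal → K ≤ N → K = ⊥ ∨ K = N) ∧
      N.index = 4 ∧ ∀ g : G, g ^ 2 ∈ N := by
  let X : CopyX G := { toSetting := S, hX := hX, hN := S.normalizes_of_comm_r0 hX h }
  obtain ⟨Y, hYn, hY0, hYi, hYr, hY32⟩ := X.exists_Y
  let C : CopyY G :=
    { toCopyX := X, Y := Y, normalY := hYn, N0_le := hY0, indexY := hYi, rep_notY := hYr,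
      not_32 := hY32 }
  exact ⟨X.N0, C.normalN0, C.generalizedFitting_eq,
    ⟨(MonoidHom.ofInjective X.Phi_inj).symm⟩, fun K hK hle => C.minimal hK hle,
    C.Y_eq ▸ C.indexY, C.sq_mem⟩

end CfsgLib.Recog.SymEight
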