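import Cfsg.Agent.Lib.Recog.SymEight.CaseXIndex
import Cfsg.Agent.Lib.Recog.SelfCentThree.Final
import Cfsg.Agent.Lib.Invol.Strong

/-!
The second case: centralisers of involutions in the subgroup of index four.
-/

set_option autoImplicit false
set_option linter.style.haveILetI false
set_option synthInstance.maxSize 2000
set_option maxHeartbeats 1000000

namespace CfsgLib.Recog.SymEight

open Equiv Subgroup

theorem A5_cent_eb : ∀ x : A5, x * eb = eb * x → InV x := by decide +kernel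

theorem A5_cent_ea : ∀ x : A5, x * ea = ea * x → x = 1 ∨ x = ea ∨ x = ea⁻¹ := by decide +kernel

theorem not_isNilpotent_A5 : ¬ Group.IsNilpotent A5 := by
  intro h
  haveI := h
  have hs : IsSimpleGroup A5 := alternatingGroup.isSimpleGroup (by simp)
  have hc : Subgroup.center A5 = ⊥ :=
    (eq_bot_iff_forall _).2 fun x hx =>
      A5_center x (mem_center_iff.1 hx ea).symm (mem_center_iff.1 hx eb).symm
  haveI : Nontrivial A5 := ⟨⟨ea, 1, by decide +kernel⟩⟩
  exact Group.IsNilpotent.center_ne_bot (G := A5) hc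

theorem iterate_swap {G : Type*} [Group G] {n a b : G} (h1 : n * a * n⁻¹ = b)
    (h2 : n * b * n⁻¹ = a) : ∀ i : ℕ, n ^ (2 * i + 1) * a * (n ^ (2 * i + 1))⁻¹ = b := by
  intro i
  induction i with
  | zero => simpa using h1
  | succ i ih =>
    calc n ^ (2 * (i + 1) + 1) * a * (n ^ (2 * (i + 1) + 1))⁻¹
        = n * (n * (n ^ (2 * i + 1) * a * (n ^ (2 * i + 1))⁻¹) * n⁻¹) * n⁻¹ := by
          rw [show 2 * (i + 1) + 1 = 2 * i + 1 + 1 + 1 by omega, pow_succ', pow_succ']
          group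
      _ = b := by rw [ih, h2, h1]

/-- The data at the end of the second case. -/
structure CopyY (G : Type*) [Group G] [Finite G] extends CopyX G where
  /-- The subgroup of index four. -/
  Y : Subgroup G
  normalY : Y.Normal
  N0_le : toCopyX.N0 ≤ Y
  indexY : Y.index = 4
  rep_notY : ∀ h ∈ toCopyX.reps, h ≠ 1 → h ∉ Y
  not_32 : ¬ 32 ∣ Nat.card Y

namespace CopyY

variable {G : Type*} [Group G] [Finite G] (C : CopyY G)

/-- The elementary subgroup of order 16. -/
def EE : Subgroup G := C.toCopyX.half 1 (by simp [CopyX.reps])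

theorem mem_EE {x : G} : x ∈ C.EE ↔ ∃ v : A5 × A5, (InV v.1 ∧ InV v.2) ∧ x = C.toCopyX.Phi v := by
  constructor
  · rintro ⟨v, hv, h, hh, rfl⟩
    simp only [List.mem_cons, List.not_mem_nil, or_false, or_self] at hh
    exact ⟨v, hv, by rw [hh, mul_one]⟩
  · rintro ⟨v, hv, rfl⟩
    exact ⟨v, hv, 1, by simp, (mul_one _).symm⟩

theorem EE_le_Y : C.EE ≤ C.Y := fun x hx => by
  obtain ⟨v, -, rfl⟩ := C.mem_EE.1 hx
  exact C.N0_le ⟨v, rfl⟩

theorem EE_comm {x y : G} (hx : x ∈ C.EE) (hy : y ∈ C.EE) : Commute x y := by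
  obtain ⟨v, hv, rfl⟩ := C.mem_EE.1 hx
  obtain ⟨u, hu, rfl⟩ := C.mem_EE.1 hy
  rw [commute_iff_eq, ← map_mul, ← map_mul]
  exact congrArg _ (Prod.ext (hv.1.comm hu.1) (hv.2.comm hu.2))

theorem card_EE : Nat.card C.EE = 16 := by
  have e : Nat.card {v : A5 × A5 // InV v.1 ∧ InV v.2} = Nat.card C.EE := by
    refine Nat.card_eq_of_bijective (fun v => ⟨C.toCopyX.Phi v.1, C.mem_EE.2 ⟨v.1, v.2, rfl⟩⟩)
      ⟨fun a b e => Subtype.ext (C.toCopyX.Phi_inj (congrArg Subtype.val e)), ?_⟩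
    rintro ⟨x, hx⟩
    obtain ⟨v, hv, rfl⟩ := C.mem_EE.1 hx
    exact ⟨⟨v, hv⟩, rfl⟩
  rw [← e, Nat.card_eq_fintype_card]
  decide +kernel

theorem exists_sylow_of_le {K : Subgroup G} (hE : C.EE ≤ K) (hK : K ≤ C.Y) :
    ∃ P : Sylow 2 K, (P : Subgroup K) = C.EE.subgroupOf K := by
  haveI : Fact (Nat.Prime 2) := ⟨Nat.prime_two⟩
  have hc : Nat.card (C.EE.subgroupOf K) = 16 := by
    rw [Nat.card_congr (subgroupOfEquivOfLe hE).toEquiv, C.card_EE]
  obtain ⟨P, hP⟩ :=
    (IsPGroup.of_card (n := 4) (by rw [hc]; norm_num) : IsPGroup 2 (C.EE.subgroupOf K)).exists_le_sylow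
  refine ⟨P, (eq_of_le_of_card_ge hP ?_).symm⟩
  obtain ⟨k, hk⟩ := IsPGroup.iff_card.1 P.isPGroup'
  rw [hc, hk]
  by_contra hlt
  refine C.not_32 ?_
  have h5 : 5 ≤ k := by
    by_contra h
    exact hlt ((Nat.pow_le_pow_right (by norm_num) (by omega : k ≤ 4)).trans (le_of_eq (by norm_num)))
  exact (Nat.pow_dvd_pow 2 h5).trans
    (hk ▸ (P : Subgroup K).card_subgroup_dvd_card.trans (card_dvd_of_le hK))

/-- An odd power of a normalising element lies in `EE`. -/
theorem odd_pow_mem {K : Subgroup G} (P : Sylow 2 K) (hP : (P : Subgroup K) = C.EE.subgroupOf K)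
    {n : K} (hn : n ∈ normalizer ((P : Subgroup K) : Set K)) :
    ∃ j : ℕ, ((n : G) ^ (2 * j + 1)) ∈ C.EE := by
  haveI : Fact (Nat.Prime 2) := ⟨Nat.prime_two⟩
  set N := normalizer ((P : Subgroup K) : Set K)
  haveI : ((P : Subgroup K).subgroupOf N).Normal := normal_in_normalizer
  have hdvd : ((P : Subgroup K).subgroupOf N).index ∣ (P : Subgroup K).index := by
    rw [← relIndex]
    exact relIndex_dvd_index_of_le le_normalizer
  have hodd : Odd ((P : Subgroup K).subgroupOf N).index := by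
    rw [← Nat.not_even_iff_odd, even_iff_two_dvd]
    exact fun h => P.not_dvd_index (h.trans hdvd)
  obtain ⟨j, hj⟩ := hodd
  refine ⟨j, ?_⟩
  have := pow_index_mem ((P : Subgroup K).subgroupOf N) (⟨n, hn⟩ : N)
  rw [hj, mem_subgroupOf, SubmonoidClass.coe_pow, hP, mem_subgroupOf, SubmonoidClass.coe_pow] at this
  exact this

theorem normalizer_maps {K : Subgroup G} (hE : C.EE ≤ K) (P : Sylow 2 K)
    (hP : (P : Subgroup K) = C.EE.subgroupOf K) {n : K}
    (hn : n ∈ normalizer ((P : Subgroup K) : Set K)) {e : G} (he : e ∈ C.EE) :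
    (n : G) * e * (n : G)⁻¹ ∈ C.EE := by
  have := (mem_normalizer_iff.1 hn ⟨e, hE he⟩).1 (by rw [hP, mem_subgroupOf]; exact he)
  rw [hP, mem_subgroupOf] at this
  exact this

theorem phi_z_mem (u : Perm (Fin 3)) (hu : u = 1 ∨ u = c3 ∨ u = c3⁻¹) :
    C.phi (u, 1) ∈ C.toCopyX.N0 := by
  have hz : C.phi (c3, 1) ∈ C.toCopyX.N0 :=
    ⟨(1, ea), by rw [CopyX.Phi_apply, map_one, one_mul, CopyX.aa_ea]; rfl⟩
  rcases hu with rfl | rfl | rfl
  · rw [show C.phi ((1 : Perm (Fin 3)), (1 : Perm (Fin 5))) = 1 from map_one _]; exact one_mem _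
  · exact hz
  · rw [show ((c3⁻¹, 1) : M35) = (c3, 1)⁻¹ by simp, map_inv]
    exact inv_mem hz

theorem cent_z {g : G} (hg : g ∈ C.Y) (hc : Commute g C.toSetting.z) : g ∈ C.toCopyX.N0 := by
  obtain ⟨⟨m1, m2⟩, hm, rfl⟩ := C.toSetting.comm_z hc
  have hsplit : ∀ π : Perm (Fin 5), Perm.sign π = 1 → C.phi (m1, π) ∈ C.toCopyX.N0 := by
    intro π hπ
    rw [show ((m1, π) : M35) = (m1, 1) * (1, π) by simp, map_mul]
    exact mul_mem (C.phi_z_mem m1 hm)
      ⟨(⟨π, Perm.mem_alternatingGroup.2 hπ⟩, 1), by rw [CopyX.Phi_apply, map_one, mul_one]; rfl⟩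
  rcases Int.units_eq_one_or (Perm.sign m2) with h | h
  · exact hsplit m2 h
  · exfalso
    have hπ : Perm.sign (m2 * swap 3 4) = 1 := by
      rw [map_mul, h, Perm.sign_swap (show (3 : Fin 5) ≠ 4 by decide)]; decide
    have e : C.phi (m1, m2) = C.phi (m1, m2 * swap 3 4) * C.toSetting.r0 := by
      rw [Setting.r0, ← map_mul]
      exact congrArg C.phi (by simp [mul_assoc])
    rw [e, mul_mem_cancel_left (C.N0_le (hsplit _ hπ))] at hg
    refine C.rep_notY _ (by simp [CopyX.reps]) (fun e1 => ?_) hg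
    have := C.toSetting.r0_order
    rw [e1, orderOf_one] at this
    norm_num at this

theorem cent_mid_coords {v : A5 × A5} (h : Commute (C.toCopyX.Phi v) C.toCopyX.mid) :
    InV v.1 ∧ InV v.2 := by
  rw [CopyX.mid, commute_iff_eq, ← map_mul, ← map_mul] at h
  have e := C.toCopyX.Phi_inj h
  exact ⟨A5_cent_eb _ (congrArg Prod.fst e), A5_cent_eb _ (congrArg Prod.snd e)⟩

theorem cent_i0_coords {v : A5 × A5} (h : Commute (C.toCopyX.Phi v) C.toSetting.i0) :
    InV v.1 := by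
  rw [show C.toSetting.i0 = C.toCopyX.Phi (eb, 1) by
    rw [CopyX.Phi_apply, map_one, mul_one, CopyX.az_eb], commute_iff_eq, ← map_mul, ← map_mul] at h
  exact A5_cent_eb _ (congrArg Prod.fst (C.toCopyX.Phi_inj h))

/-- The centraliser of `t` in `Y`. -/
abbrev LY (t : G) : Subgroup G := C.Y ⊓ centralizer ({t} : Set G)

theorem odd_orderOf_core {K : Subgroup G} {x : K} (hx : x ∈ Cfsg.oddCore K) :
    Odd (orderOf (x : G)) := by
  rw [orderOf_coe]
  refine (CfsgLib.Invol.odd_card_oddCore K).of_dvd_nat ?_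
  have := orderOf_dvd_natCard (⟨x, hx⟩ : Cfsg.oddCore K)
  rwa [orderOf_mk] at this

theorem conj_Y (g : G) {y : G} (hy : y ∈ C.Y) : g * y * g⁻¹ ∈ C.Y :=
  C.normalY.conj_mem y hy g

theorem EE_le_LY {t : G} (ht : t ∈ C.EE) : C.EE ≤ C.LY t := fun x hx =>
  ⟨C.EE_le_Y hx, mem_centralizer_singleton_iff.2 (C.EE_comm hx ht).eq⟩

theorem i0_mem_EE : C.toSetting.i0 ∈ C.EE :=
  C.mem_EE.2 ⟨(eb, 1), ⟨Or.inr (Or.inl rfl), Or.inl rfl⟩, by
    rw [CopyX.Phi_apply, map_one, mul_one, CopyX.az_eb]⟩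

theorem aa_mem_LY (x : A5) : C.toCopyX.aa x ∈ C.LY C.toSetting.i0 :=
  ⟨C.N0_le ⟨(1, x), by rw [CopyX.Phi_apply, map_one, one_mul]⟩,
    mem_centralizer_singleton_iff.2 (C.toCopyX.factors_commute eb x).symm.eq⟩

theorem oddCore_i0 : Cfsg.oddCore (C.LY C.toSetting.i0) = ⊥ := by
  set S := C.toSetting
  set L := C.LY S.i0
  haveI hn : (Cfsg.oddCore L).Normal := CfsgLib.Solvable.pPrimeCore_normal 2 _
  set R := (Cfsg.oddCore L).map L.subtype with hR
  have hRL : R ≤ L := map_subtype_le _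
  have hRodd : Odd (Nat.card R) := by
    rw [hR, card_map_of_injective L.subtype_injective]
    exact CfsgLib.Invol.odd_card_oddCore L
  have hodd : ∀ o ∈ R, Odd (orderOf o) := by
    rintro _ ⟨x, hx, rfl⟩
    exact odd_orderOf_core hx
  have hRn : ∀ l ∈ L, ∀ o ∈ R, l * o * l⁻¹ ∈ R := by
    rintro l hl _ ⟨x, hx, rfl⟩
    exact ⟨⟨l, hl⟩ * x * ⟨l, hl⟩⁻¹, hn.conj_mem x hx _, rfl⟩
  -- the second factor meets `R` trivially
  have haR : ∀ x : A5, C.toCopyX.aa x ∈ R → x = 1 := by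
    haveI : IsSimpleGroup A5 := alternatingGroup.isSimpleGroup (by simp)
    have hT : (R.comap C.toCopyX.aa).Normal := ⟨fun x hx g => by
      rw [mem_comap, map_mul, map_mul, map_inv]
      exact hRn _ (C.aa_mem_LY g) _ hx⟩
    rcases hT.eq_bot_or_eq_top with e | e
    · exact fun x hx => mem_bot.1 (e ▸ (mem_comap.2 hx : x ∈ R.comap C.toCopyX.aa))
    · exfalso
      have h := hodd _ (mem_comap.1 (e.ge (mem_top eb)))
      rw [orderOf_injective C.toCopyX.aa C.toCopyX.aa_inj,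
        orderOf_eq_prime (p := 2) (hp := ⟨Nat.prime_two⟩) (by decide +kernel : eb ^ 2 = 1)
          (by decide +kernel : eb ≠ 1)] at h
      exact absurd h (by decide)
  have hri : Commute S.r0 S.i0 := S.phi_commute (by decide +kernel)
  have hrinv : S.r0⁻¹ = S.r0 := inv_eq_of_mul_eq_one_right S.r0_sq
  have hrL : ∀ l ∈ L, S.r0 * l * S.r0 ∈ L := by
    intro l hl
    refine ⟨?_, mem_centralizer_singleton_iff.2 ?_⟩
    · have := C.conj_Y S.r0 hl.1
      rwa [hrinv] at this
    · exact ((hri.mul_left (mem_centralizer_singleton_iff.1 hl.2)).mul_left hri).eq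
  have hrR : ∀ o ∈ R, S.r0 * o * S.r0 ∈ R := by
    intro o ho
    let O2 := (R.map (MulAut.conj S.r0).toMonoidHom).subgroupOf L
    have hsub : R.map (MulAut.conj S.r0).toMonoidHom ≤ L := by
      rintro _ ⟨x, hx, rfl⟩
      have := hrL x (hRL hx)
      simpa [hrinv] using this
    have hn2 : O2.Normal := ⟨fun x hx l => by
      rw [mem_subgroupOf] at hx ⊢
      obtain ⟨o', ho', e⟩ := hx
      refine ⟨S.r0 * l * S.r0 * o' * (S.r0 * l * S.r0)⁻¹, hRn _ (hrL l l.2) _ ho', ?_⟩
      rw [coe_mul, coe_mul, coe_inv, ← e]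
      show S.r0 * (S.r0 * l * S.r0 * o' * (S.r0 * l * S.r0)⁻¹) * S.r0⁻¹ =
        l * (S.r0 * o' * S.r0⁻¹) * (l : G)⁻¹
      simp only [mul_inv_rev, hrinv, mul_assoc]
      simp only [← mul_assoc S.r0 S.r0, S.r0_sq, one_mul, mul_one]⟩
    have hle := CfsgLib.Invol.le_oddCore hn2 (by
      rw [Nat.card_congr (subgroupOfEquivOfLe hsub).toEquiv,
        card_map_of_injective (MulAut.conj S.r0).injective]
      exact hRodd)
    have hm : S.r0 * o * S.r0 ∈ L := hrL o (hRL ho)
    exact ⟨⟨_, hm⟩, hle (mem_subgroupOf.2 ⟨o, ho, by simp [hrinv]⟩), rfl⟩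
  have hfix : ∀ o ∈ R, Commute S.r0 o → o = 1 := by
    intro o ho hc
    obtain ⟨m, hm, hform⟩ := S.normalizes_form (C.hN o hc.symm)
    have hoodd := hodd o ho
    rcases hform with e | e
    · obtain ⟨m1, m2⟩ := m
      have h45 : ((m1, m2) : M35) ^ 45 = 1 := by
        rw [← orderOf_dvd_iff_pow_eq_one, ← orderOf_injective S.phi S.inj, ← e]
        have h720 : orderOf o ∣ 16 * 45 := by
          rw [e, orderOf_injective S.phi S.inj, show 16 * 45 = Fintype.card M35 by decide +kernel]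
          exact orderOf_dvd_card
        refine Nat.Coprime.dvd_of_dvd_mul_left ?_ h720
        exact Nat.Coprime.pow_right 4 (Nat.coprime_two_right.2 hoodd)
      have hci : Commute o S.i0 := mem_centralizer_singleton_iff.1 (hRL ho).2
      have key : ∀ m : M35, NK m.2 → m * (1, swap 0 1 * swap 3 4) = (1, swap 0 1 * swap 3 4) * m →
          m ^ 45 = 1 → m ∈ ([1, (c3, 1), (c3, 1)⁻¹] : List M35) := by decide +kernel
      have := key (m1, m2) hm (S.inj (by rw [map_mul, map_mul, ← e]; exact hci.eq)) h45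
      simp only [List.mem_cons, List.not_mem_nil, or_false] at this
      have hz : S.phi (c3, 1) = C.toCopyX.aa ea := (C.toCopyX.aa_ea).symm
      rcases this with h | h | h <;> rw [h] at e
      · rw [e]; exact map_one _
      · rw [hz] at e
        exact absurd (haR ea (e ▸ ho)) (by decide +kernel)
      · rw [map_inv, hz, ← map_inv] at e
        exact absurd (haR ea⁻¹ (e ▸ ho)) (by decide +kernel)
    · exfalso
      obtain ⟨m', -, hm'⟩ := S.cw_NK hm
      rw [S.cw_apply] at hm'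
      have h2 : o * o = S.phi (m' * m) := by
        rw [e, map_mul, ← hm']
        group
      obtain ⟨j, hj⟩ := hoodd
      have hoj : o = (o * o) ^ (j + 1) := by
        rw [← pow_two, ← pow_mul, show 2 * (j + 1) = (2 * j + 1) + 1 by omega, pow_succ, ← hj,
          pow_orderOf_eq_one, one_mul]
      rw [h2, ← map_pow] at hoj
      refine S.w_not_range_NK (x := (m' * m) ^ (j + 1) * m⁻¹) ?_
      rw [map_mul, ← hoj, map_inv, e, mul_inv_cancel_right]
  have hinv := inverts_of_no_fixed S.r0_sq hrR hfix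
  -- `p` centralises `R`
  have hkL : S.k0 ∈ L := C.toCopyX.aa_ec ▸ C.aa_mem_LY ec
  have hpk : S.r0 * S.k0 * S.r0 = S.p * S.k0 := by
    have e := C.toCopyX.cr_Phi (1, ec)
    rw [CopyX.cr_apply] at e
    simp only [CopyX.Phi_apply, map_one, one_mul, CopyX.aa_ec] at e
    rw [e, ← CopyX.aa_eb, ← CopyX.aa_ec, ← map_mul]
    exact congrArg _ (by decide +kernel)
  have hp : ∀ o ∈ R, Commute S.p o := by
    intro o ho
    set o' := S.k0⁻¹ * o * S.k0
    have ho' : o' ∈ R := by
      have := hRn _ (inv_mem hkL) o ho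
      rwa [inv_inv] at this
    have hpk' : S.r0 * S.k0⁻¹ * S.r0 = (S.p * S.k0)⁻¹ := by
      rw [← hpk, mul_inv_rev, mul_inv_rev, hrinv, mul_assoc]
    have h1 := hinv o ho
    have h2 : S.p * o⁻¹ * S.p⁻¹ = o⁻¹ := by
      calc S.p * o⁻¹ * S.p⁻¹ = S.p * S.k0 * (o'⁻¹) * (S.p * S.k0)⁻¹ := by simp only [o']; group
        _ = S.r0 * S.k0 * S.r0 * (S.r0 * o' * S.r0) * (S.r0 * S.k0⁻¹ * S.r0) := by
            rw [hinv o' ho', hpk, hpk']
        _ = S.r0 * S.k0 * (S.r0 * S.r0) * o' * (S.r0 * S.r0) * S.k0⁻¹ * S.r0 := by group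
        _ = S.r0 * o * S.r0 := by rw [S.r0_sq]; simp only [o']; group
        _ = o⁻¹ := h1
    have h3 : Commute S.p o⁻¹ := mul_inv_eq_iff_eq_mul.1 h2
    exact Commute.inv_right_iff.1 h3
  have hz : ∀ o ∈ R, Commute S.z o := by
    haveI : IsSimpleGroup A5 := alternatingGroup.isSimpleGroup (by simp)
    set T := (centralizer (R : Set G)).comap C.toCopyX.aa
    have hT : T.Normal := ⟨fun x hx g => by
      rw [mem_comap, mem_centralizer_iff] at hx ⊢
      intro o ho
      have ho' := hRn _ (inv_mem (C.aa_mem_LY g)) o ho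
      rw [inv_inv] at ho'
      have := ((show Commute ((C.toCopyX.aa g)⁻¹ * o * C.toCopyX.aa g) (C.toCopyX.aa x) from
        hx _ ho')).map (MulAut.conj (C.toCopyX.aa g)).toMonoidHom
      simp only [MulEquiv.coe_toMonoidHom, MulAut.conj_apply] at this
      rw [show C.toCopyX.aa g * ((C.toCopyX.aa g)⁻¹ * o * C.toCopyX.aa g) * (C.toCopyX.aa g)⁻¹ = o
        by group] at this
      rw [map_mul, map_mul, map_inv]
      exact this.eq⟩
    have hb : eb ∈ T := by
      rw [mem_comap, mem_centralizer_iff, CopyX.aa_eb]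
      exact fun o ho => (hp o ho).eq.symm
    rcases hT.eq_bot_or_eq_top with e | e
    · exact absurd (mem_bot.1 (e ▸ hb)) (by decide +kernel)
    · intro o ho
      have := mem_centralizer_iff.1 (mem_comap.1 (e.ge (mem_top ea))) o ho
      rw [CopyX.aa_ea] at this
      exact this.symm
  rw [eq_bot_iff_forall]
  intro x hx
  have hxR : (x : G) ∈ R := ⟨x, hx, rfl⟩
  obtain ⟨v, hv⟩ := C.cent_z x.2.1 (hz _ hxR).symm
  obtain ⟨v1, v2⟩ := v
  have hV := C.cent_i0_coords (v := (v1, v2)) (hv ▸ mem_centralizer_singleton_iff.1 x.2.2)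
  have hv1 : v1 = 1 := by
    have h := hodd _ hxR
    rw [← hv, orderOf_injective _ C.toCopyX.Phi_inj] at h
    have hd : orderOf v1 ∣ orderOf (v1, v2) := orderOf_map_dvd (MonoidHom.fst A5 A5) (v1, v2)
    exact CfsgLib.Invol.eq_one_of_sq_of_odd hV.sq (h.of_dvd_nat hd)
  rw [hv1, CopyX.Phi_apply, map_one, one_mul] at hv
  refine Subtype.ext ?_
  rw [← hv, haR v2 (hv ▸ hxR), map_one]
  rfl

theorem class_p_coords {v : A5 × A5} (hv : InV v.1 ∧ InV v.2)
    (h : IsConj C.toSetting.p (C.toCopyX.Phi v)) :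
    (v.1 ≠ 1 ∧ v.2 = 1) ∨ (v.1 = 1 ∧ v.2 ≠ 1) := by
  obtain ⟨v1, v2⟩ := v
  obtain ⟨h1, h2⟩ := hv
  by_cases e1 : v1 = 1
  · by_cases e2 : v2 = 1
    · exfalso
      have := CfsgLib.Invol.orderOf_eq_of_isConj h
      rw [e1, e2, show ((1 : A5), (1 : A5)) = 1 from rfl, map_one, orderOf_one,
        C.toSetting.p_order] at this
      norm_num at this
    · exact Or.inr ⟨e1, e2⟩
  · by_cases e2 : v2 = 1
    · exact Or.inl ⟨e1, e2⟩
    · exact absurd (h.trans (C.toCopyX.conj_both h1.sq e1 h2.sq e2).symm) C.toCopyX.p_not_conj_mid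

theorem cent_i0 : C.LY C.toSetting.i0 ≤ C.toCopyX.N0 := by
  haveI : Fact (Nat.Prime 2) := ⟨Nat.prime_two⟩
  set S := C.toSetting
  set L := C.LY S.i0
  have hEL : C.EE ≤ L := C.EE_le_LY C.i0_mem_EE
  obtain ⟨P, hP⟩ := C.exists_sylow_of_le hEL inf_le_left
  haveI : IsMulCommutative P := ⟨⟨fun a b => Subtype.ext (Subtype.ext
    (C.EE_comm (mem_subgroupOf.1 (hP.le a.2)) (mem_subgroupOf.1 (hP.le b.2))).eq)⟩⟩
  have hecV : C.toCopyX.Phi (ec, 1) ∈ C.EE :=
    C.mem_EE.2 ⟨(ec, 1), ⟨Or.inr (Or.inr (Or.inl rfl)), Or.inl rfl⟩, rfl⟩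
  have hi : S.i0 = C.toCopyX.Phi (eb, 1) := by
    rw [CopyX.Phi_apply, map_one, mul_one, CopyX.az_eb]
  -- the other involution of the four-group is central
  have hgc : (⟨_, hEL hecV⟩ : L) ∈ center L := by
    refine CfsgLib.Perm.AbelianZStar.mem_center (C.oddCore_i0) P
      (by show _ ∈ (P : Subgroup L); rw [hP, mem_subgroupOf]; exact hecV) fun n hn => Subtype.ext ?_
    show (n : G) * C.toCopyX.Phi (ec, 1) * (n : G)⁻¹ = C.toCopyX.Phi (ec, 1)
    obtain ⟨⟨a, b⟩, hab, eab⟩ := C.mem_EE.1 (C.normalizer_maps hEL P hP hn hecV)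
    have hni : (n : G) * S.i0 * (n : G)⁻¹ = S.i0 :=
      mul_inv_eq_iff_eq_mul.2 (mem_centralizer_singleton_iff.1 n.2.2)
    have hconj : ∀ x : A5, x * x = 1 → x ≠ 1 →
        IsConj C.toSetting.p ((n : G) * C.toCopyX.Phi (x, 1) * (n : G)⁻¹) := fun x h h1 =>
      (C.toCopyX.conj_left h h1).trans (isConj_iff.2 ⟨n, rfl⟩)
    have hebc : (n : G) * C.toCopyX.Phi (eb * ec, 1) * (n : G)⁻¹ =
        C.toCopyX.Phi (eb * a, b) := by
      rw [show ((eb * ec, 1) : A5 × A5) = (eb, 1) * (ec, 1) by simp, map_mul, ← hi]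
      calc (n : G) * (S.i0 * C.toCopyX.Phi (ec, 1)) * (n : G)⁻¹
          = (n : G) * S.i0 * (n : G)⁻¹ * ((n : G) * C.toCopyX.Phi (ec, 1) * (n : G)⁻¹) := by group
        _ = C.toCopyX.Phi (eb * a, b) := by
          rw [hni, eab, hi, ← map_mul]
          exact congrArg _ (by simp)
    have hVa : InV (eb * a) := InV.mul (Or.inr (Or.inl rfl)) hab.1
    have c1 := C.class_p_coords hab (eab ▸ hconj ec (by decide +kernel) (by decide +kernel))
    have c2 := C.class_p_coords (v := (eb * a, b)) ⟨hVa, hab.2⟩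
      (hebc ▸ hconj (eb * ec) (by decide +kernel) (by decide +kernel))
    have hb : b = 1 := by
      rcases c1 with ⟨-, h⟩ | ⟨ha, hb⟩
      · exact h
      · rcases c2 with ⟨-, h⟩ | ⟨h, -⟩
        · exact h
        · change a = 1 at ha
          change eb * a = 1 at h
          rw [ha] at h
          exact absurd h (by decide +kernel)
    subst hb
    rcases hab.1 with h | h | h | h <;> change a = _ at h <;> subst h
    · rcases c1 with ⟨h, -⟩ | ⟨-, h⟩ <;> exact absurd rfl h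
    · rcases c2 with ⟨h, -⟩ | ⟨-, h⟩
      · exact absurd (by decide +kernel : eb * eb = 1) h
      · exact absurd rfl h
    · exact eab
    · exfalso
      rw [show eb * (eb * ec) = ec by decide +kernel] at hebc
      obtain ⟨j, hj⟩ := C.odd_pow_mem P hP hn
      have h := iterate_swap eab hebc j
      rw [(C.EE_comm hj hecV).eq, mul_inv_cancel_right] at h
      exact absurd (congrArg Prod.fst (C.toCopyX.Phi_inj h)) (by decide +kernel)
  have hcec : ∀ l : L, Commute (l : G) (C.toCopyX.Phi (ec, 1)) := fun l =>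
    congrArg Subtype.val (mem_center_iff.1 hgc l)
  have hceb : ∀ l : L, Commute (l : G) (C.toCopyX.Phi (eb, 1)) := fun l =>
    hi ▸ mem_centralizer_singleton_iff.1 l.2.2
  have hcV : ∀ l : L, ∀ a : A5, InV a → Commute (l : G) (C.toCopyX.Phi (a, 1)) := by
    intro l a ha
    rcases ha with rfl | rfl | rfl | rfl
    · rw [show ((1 : A5), (1 : A5)) = 1 from rfl, map_one]; exact Commute.one_right _
    · exact hceb l
    · exact hcec l
    · rw [show ((eb * ec, 1) : A5 × A5) = (eb, 1) * (ec, 1) by simp, map_mul]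
      exact (hceb l).mul_right (hcec l)
  -- the four-group is central; pass to the quotient
  let VL : Subgroup L :=
    { carrier := {l | ∃ a : A5, InV a ∧ (l : G) = C.toCopyX.Phi (a, 1)}
      one_mem' := ⟨1, Or.inl rfl, (map_one _).symm⟩
      mul_mem' := by
        rintro x y ⟨a, ha, ea'⟩ ⟨b, hb, eb'⟩
        exact ⟨a * b, ha.mul hb, by rw [coe_mul, ea', eb', ← map_mul]; simp⟩
      inv_mem' := by
        rintro x ⟨a, ha, ea'⟩
        refine ⟨a, ha, ?_⟩
        rw [coe_inv, ea', ← map_inv]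
        exact congrArg _ (inv_eq_of_mul_eq_one_right (Prod.ext ha.sq (one_mul _))) }
  haveI : VL.Normal := ⟨fun x ⟨a, ha, e⟩ g => ⟨a, ha, by
    rw [coe_mul, coe_mul, coe_inv, e, (hcV g a ha).eq, mul_inv_cancel_right]⟩⟩
  have cardVL : Nat.card VL = 4 := by
    have e : Nat.card {a : A5 // InV a} = Nat.card VL := by
      refine Nat.card_eq_of_bijective (fun a => ⟨⟨C.toCopyX.Phi (a.1, 1),
        hEL (C.mem_EE.2 ⟨(a.1, 1), ⟨a.2, Or.inl rfl⟩, rfl⟩)⟩, a.1, a.2, rfl⟩) ⟨?_, ?_⟩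
      · intro a b e
        exact Subtype.ext (congrArg Prod.fst
          (C.toCopyX.Phi_inj (congrArg (fun x : VL => ((x : L) : G)) e)))
      · rintro ⟨l, a, ha, e⟩
        exact ⟨⟨a, ha⟩, Subtype.ext (Subtype.ext e.symm)⟩
    rw [← e, Nat.card_eq_fintype_card]
    decide +kernel
  let q := QuotientGroup.mk' VL
  let ι : A5 →* L := C.toCopyX.aa.codRestrict L C.aa_mem_LY
  have hιinj : Function.Injective (q.comp ι) := by
    refine (MonoidHom.ker_eq_bot_iff _).1 (eq_bot_iff.2 fun x hx => mem_bot.2 ?_)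
    obtain ⟨a, -, e⟩ := (QuotientGroup.eq_one_iff _).1 (MonoidHom.mem_ker.1 hx)
    have e' : C.toCopyX.Phi (1, x) = C.toCopyX.Phi (a, 1) := by
      rw [← e, CopyX.Phi_apply, map_one, one_mul]
      rfl
    exact congrArg Prod.snd (C.toCopyX.Phi_inj e')
  set zb : L ⧸ VL := q (ι ea)
  have hzb3 : orderOf zb = 3 := by
    show orderOf ((q.comp ι) ea) = 3
    rw [orderOf_injective _ hιinj]
    exact orderOf_eq_prime (hp := ⟨Nat.prime_three⟩) (by decide +kernel) (by decide +kernel)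
  have hcent : centralizer ((zpowers zb : Subgroup (L ⧸ VL)) : Set (L ⧸ VL)) = zpowers zb := by
    refine le_antisymm (fun u hu => ?_) ?_
    · obtain ⟨l, rfl⟩ := QuotientGroup.mk'_surjective VL u
      have hc := (mem_centralizer_iff.1 hu zb (mem_zpowers _)).symm
      have hv : (l * ι ea * l⁻¹ * (ι ea)⁻¹) ∈ VL := by
        refine (QuotientGroup.eq_one_iff _).1 ?_
        show q _ = 1
        rw [map_mul, map_mul, map_mul, map_inv, map_inv, hc, mul_inv_cancel_right, mul_inv_cancel]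
      obtain ⟨a, ha, e⟩ := hv
      simp only [coe_mul, coe_inv] at e
      have e1 : (l : G) * (ι ea : G) * (l : G)⁻¹ = C.toCopyX.Phi (a, ea) := by
        rw [mul_inv_eq_iff_eq_mul.1 e, show (ι ea : G) = C.toCopyX.Phi (1, ea) by
          rw [CopyX.Phi_apply, map_one, one_mul]; rfl, ← map_mul]
        simp
      have e3 : C.toCopyX.Phi ((a, ea) ^ 3) = 1 := by
        rw [map_pow, ← e1, conj_pow, show (ι ea : G) ^ 3 = 1 by
          show C.toCopyX.aa ea ^ 3 = 1
          rw [← map_pow, show ea ^ 3 = 1 by decide +kernel, map_one], mul_one, mul_inv_cancel]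
      have ha1 : a = 1 := by
        have := congrArg Prod.fst (C.toCopyX.Phi_inj (e3.trans (map_one _).symm))
        rw [Prod.pow_fst, pow_succ, pow_two, ha.sq, one_mul] at this
        exact this
      have hlz : Commute (l : G) S.z := by
        rw [ha1, CopyX.Phi_apply, map_one, one_mul] at e1
        have h := mul_inv_eq_iff_eq_mul.1 e1
        rw [show (ι ea : G) = C.toCopyX.aa ea from rfl] at h
        rwa [CopyX.aa_ea] at h
      obtain ⟨⟨b1, b2⟩, hb⟩ := C.cent_z l.2.1 hlz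
      have hb1 := C.cent_i0_coords (v := (b1, b2)) (hb ▸ mem_centralizer_singleton_iff.1 l.2.2)
      have hb2 : b2 = 1 ∨ b2 = ea ∨ b2 = ea⁻¹ := by
        refine A5_cent_ea b2 ?_
        rw [← hb, ← CopyX.aa_ea, show C.toCopyX.aa ea = C.toCopyX.Phi (1, ea) by
          rw [CopyX.Phi_apply, map_one, one_mul], commute_iff_eq, ← map_mul, ← map_mul] at hlz
        exact congrArg Prod.snd (C.toCopyX.Phi_inj hlz)
      have hl : q l = q (ι b2) := by
        refine (QuotientGroup.eq.2 ⟨b1, hb1, ?_⟩)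
        rw [coe_mul, coe_inv, ← hb, ← map_inv, show ((ι b2 : L) : G) = C.toCopyX.Phi (1, b2) by
          rw [CopyX.Phi_apply, map_one, one_mul]; rfl, ← map_mul]
        exact congrArg _ (Prod.ext (by simp [inv_eq_of_mul_eq_one_right hb1.sq]) (by simp))
      rw [hl]
      rcases hb2 with rfl | rfl | rfl
      · rw [map_one, map_one]; exact one_mem _
      · exact mem_zpowers _
      · rw [map_inv, map_inv]; exact inv_mem (mem_zpowers _)
    · intro u hu
      obtain ⟨k, rfl⟩ := mem_zpowers_iff.1 hu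
      rw [mem_centralizer_iff]
      intro v hv
      obtain ⟨i, rfl⟩ := mem_zpowers_iff.1 hv
      exact zpow_mul_comm zb i k
  have hLY : Nat.card L ∣ Nat.card C.Y := card_dvd_of_le inf_le_left
  have hLcard : Nat.card L = Nat.card (L ⧸ VL) * 4 := by
    rw [Subgroup.card_eq_card_quotient_mul_card_subgroup VL, cardVL]
  haveI : IsSimpleGroup A5 := alternatingGroup.isSimpleGroup (by simp)
  have hA60 : Nat.card A5 = 60 := by rw [Nat.card_eq_fintype_card]; decide +kernel
  rcases CfsgLib.Recog.SelfCentThree.main (zpowers zb) (by rw [Nat.card_zpowers, hzb3]) hcent with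
    ⟨N, hN, hnil, -, hNq⟩ | ⟨N, hN, -, hN2, he5⟩ | he7
  · exfalso
    let π := (QuotientGroup.mk' N).comp (q.comp ι)
    rcases (MonoidHom.normal_ker π).eq_bot_or_eq_top with e | e
    · have h := Nat.card_le_card_of_injective π ((MonoidHom.ker_eq_bot_iff π).1 e)
      rw [hA60] at h
      rcases hNq with h3 | h3
      · omega
      · obtain ⟨e3⟩ := h3
        rw [Nat.card_congr e3.toEquiv, Nat.card_eq_fintype_card (α := Perm (Fin 3)),
          Fintype.card_perm, Fintype.card_fin] at h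
        simp [Nat.factorial] at h
    · have hmem : ∀ x : A5, q (ι x) ∈ N := fun x =>
        (QuotientGroup.eq_one_iff _).1 (MonoidHom.mem_ker.1 (e.ge (mem_top x)))
      let f : A5 →* N := (q.comp ι).codRestrict N hmem
      haveI := hnil
      exact not_isNilpotent_A5 (Subgroup.isNilpotent_of_ker_le_center f (le_of_eq_of_le
        ((MonoidHom.ker_eq_bot_iff f).2 fun x y h => hιinj (congrArg Subtype.val h)) bot_le))
  · obtain ⟨e5⟩ := he5
    have hQcard : Nat.card (L ⧸ VL) = 60 * Nat.card N := by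
      rw [Subgroup.card_eq_card_quotient_mul_card_subgroup N, Nat.card_congr e5.toEquiv, hA60]
    have hN1 : Nat.card N = 1 := by
      by_contra hne
      obtain ⟨k, hk⟩ := IsPGroup.iff_card.1 (show IsPGroup 2 N from fun n =>
        ⟨1, Subtype.ext (by simpa using hN2 n n.2)⟩)
      have hk1 : 1 ≤ k := Nat.one_le_iff_ne_zero.2 fun h0 => hne (by rw [hk, h0, pow_zero])
      refine C.not_32 (dvd_trans ?_ hLY)
      obtain ⟨k', rfl⟩ : ∃ k', k = k' + 1 := ⟨k - 1, by omega⟩
      rw [hLcard, hQcard, hk]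
      exact ⟨15 * 2 ^ k', by rw [pow_succ]; ring⟩
    -- compare with the visible subgroup
    have hLle : L ≤ C.toCopyX.N0 ⊓ L := by
      refine le_of_eq (eq_of_le_of_card_ge inf_le_right ?_).symm
      rw [hLcard, hQcard, hN1]
      have hf : Nat.card ({a : A5 // InV a} × A5) ≤ Nat.card ↥(C.toCopyX.N0 ⊓ L) := by
        refine Nat.card_le_card_of_injective
          (fun u => ⟨C.toCopyX.Phi (u.1.1, u.2), ⟨⟨_, rfl⟩, ?_⟩⟩) fun u u' e => ?_
        · rw [show ((u.1.1, u.2) : A5 × A5) = (u.1.1, 1) * (1, u.2) by simp, map_mul]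
          refine mul_mem (hEL (C.mem_EE.2 ⟨(u.1.1, 1), ⟨u.1.2, Or.inl rfl⟩, rfl⟩)) ?_
          rw [CopyX.Phi_apply, map_one, one_mul]
          exact C.aa_mem_LY u.2
        · have : ((u.1.1, u.2) : A5 × A5) = (u'.1.1, u'.2) :=
            C.toCopyX.Phi_inj (congrArg Subtype.val e)
          exact Prod.ext (Subtype.ext (congrArg (Prod.fst (β := A5)) this))
            (congrArg (Prod.snd (α := A5)) this)
      rw [Nat.card_prod, hA60, Nat.card_eq_fintype_card (α := {a : A5 // InV a}),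
        show Fintype.card {a : A5 // InV a} = 4 by decide +kernel] at hf
      omega
    exact hLle.trans inf_le_left
  · exfalso
    refine C.not_32 (dvd_trans ?_ hLY)
    haveI : Fact (Nat.Prime 7) := ⟨by norm_num⟩
    obtain ⟨e7⟩ := he7
    rw [hLcard, Nat.card_congr e7.toEquiv,
      CfsgLib.Classical.card_psl_two_eq (ZMod.card 7) 168 (by norm_num)]
    norm_num

theorem cent_p {g : G} (hg : g ∈ C.Y) (hc : Commute g C.toSetting.p) : g ∈ C.toCopyX.N0 := by
  set S := C.toSetting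
  have h1 : S.cw g ∈ C.toCopyX.N0 := by
    refine C.cent_i0 ⟨?_, mem_centralizer_singleton_iff.2 ?_⟩
    · have := C.conj_Y S.w hg
      rwa [S.w_inv] at this
    · have := hc.map S.cw
      rw [C.hX] at this
      exact this.eq
  obtain ⟨v, hv⟩ := h1
  refine ⟨(v.2, v.1), ?_⟩
  rw [← C.toCopyX.w_Phi v, hv]
  exact S.cw_cw g

theorem cent_mid : C.LY C.toCopyX.mid ≤ C.toCopyX.N0 := by
  haveI : Fact (Nat.Prime 2) := ⟨Nat.prime_two⟩
  set S := C.toSetting
  set L := C.LY C.toCopyX.mid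
  have hmidEE : C.toCopyX.mid ∈ C.EE :=
    C.mem_EE.2 ⟨(eb, eb), ⟨Or.inr (Or.inl rfl), Or.inr (Or.inl rfl)⟩, rfl⟩
  have hEL : C.EE ≤ L := C.EE_le_LY hmidEE
  obtain ⟨P, hP⟩ := C.exists_sylow_of_le hEL inf_le_left
  haveI : IsMulCommutative P := ⟨⟨fun a b => Subtype.ext (Subtype.ext
    (C.EE_comm (mem_subgroupOf.1 (hP.le a.2)) (mem_subgroupOf.1 (hP.le b.2))).eq)⟩⟩
  haveI hn : (Cfsg.oddCore L).Normal := CfsgLib.Solvable.pPrimeCore_normal 2 _
  have hV : ∀ a : A5, InV a → C.toCopyX.Phi (a, 1) ∈ C.EE := fun a ha =>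
    C.mem_EE.2 ⟨(a, 1), ⟨ha, Or.inl rfl⟩, rfl⟩
  have hN0fix : ∀ x ∈ Cfsg.oddCore L, (x : G) ∈ C.toCopyX.N0 → x = 1 := by
    rintro x hx ⟨v, hv⟩
    have hv' := C.cent_mid_coords (v := v) (hv ▸ mem_centralizer_singleton_iff.1 x.2.2)
    have hodd := odd_orderOf_core hx
    rw [← hv, orderOf_injective _ C.toCopyX.Phi_inj] at hodd
    refine Subtype.ext ?_
    rw [← hv, CfsgLib.Invol.eq_one_of_sq_of_odd (Prod.ext hv'.1.sq hv'.2.sq) hodd, map_one]
    rfl
  have hinv : ∀ a : A5, (ha : InV a) → a ≠ 1 → ∀ x ∈ Cfsg.oddCore L,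
      (⟨_, hEL (hV a ha)⟩ : L) * x * ⟨_, hEL (hV a ha)⟩ = x⁻¹ := by
    intro a ha ha1
    set t : L := ⟨_, hEL (hV a ha)⟩ with ht
    have ht2 : t * t = 1 := Subtype.ext (by
      show C.toCopyX.Phi (a, 1) * C.toCopyX.Phi (a, 1) = 1
      rw [← map_mul, ← map_one C.toCopyX.Phi]
      exact congrArg _ (Prod.ext ha.sq (one_mul _)))
    refine inverts_of_no_fixed ht2 (fun r hr => ?_) fun r hr hc => hN0fix r hr ?_
    · have := hn.conj_mem r hr t
      rwa [inv_eq_of_mul_eq_one_right ht2] at this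
    · obtain ⟨u, hu⟩ := A5_invol_conj a ha.sq ha1
      have hc' : Commute (r : G) (C.toCopyX.Phi (a, 1)) := congrArg Subtype.val hc.eq.symm
      set c := C.toCopyX.Phi (u, 1)
      have hyc : c⁻¹ * r * c ∈ C.toCopyX.N0 := by
        refine C.cent_i0 ⟨?_, mem_centralizer_singleton_iff.2 ?_⟩
        · have := C.conj_Y c⁻¹ r.2.1
          rwa [inv_inv] at this
        · have := hc'.map (MulAut.conj c⁻¹).toMonoidHom
          simp only [MulEquiv.coe_toMonoidHom, MulAut.conj_apply, inv_inv] at this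
          have e : c⁻¹ * C.toCopyX.Phi (a, 1) * c = S.i0 := by
            rw [show S.i0 = C.toCopyX.Phi (eb, 1) by
              rw [CopyX.Phi_apply, map_one, mul_one, CopyX.az_eb], ← hu, ← map_inv, ← map_mul,
              ← map_mul]
            exact congrArg _ (Prod.ext (by simp [mul_assoc]) (by simp))
          rw [e] at this
          exact this.eq
      have hcN : c ∈ C.toCopyX.N0 := ⟨_, rfl⟩
      have := mul_mem (mul_mem hcN hyc) (inv_mem hcN)
      simpa [mul_assoc] using this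
  have hO : Cfsg.oddCore L = ⊥ := by
    rw [eq_bot_iff_forall]
    intro x hx
    have h1 := hinv eb (Or.inr (Or.inl rfl)) (by decide +kernel) x hx
    have h2 := hinv ec (Or.inr (Or.inr (Or.inl rfl))) (by decide +kernel) x⁻¹ (inv_mem hx)
    have h3 := hinv (eb * ec) (Or.inr (Or.inr (Or.inr rfl))) (by decide +kernel) x hx
    refine eq_one_of_inverted_centralized (CfsgLib.Invol.odd_card_oddCore _) hx ?_
    have hec : InV ec := Or.inr (Or.inr (Or.inl rfl))
    have heb : InV eb := Or.inr (Or.inl rfl)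
    have hbc : InV (eb * ec) := Or.inr (Or.inr (Or.inr rfl))
    have e : (⟨_, hEL (hV _ hbc)⟩ : L) = ⟨_, hEL (hV ec hec)⟩ * ⟨_, hEL (hV eb heb)⟩ ∧
        (⟨_, hEL (hV _ hbc)⟩ : L) = ⟨_, hEL (hV eb heb)⟩ * ⟨_, hEL (hV ec hec)⟩ := by
      constructor <;> refine Subtype.ext ?_ <;> rw [coe_mul, ← map_mul]
      · exact congrArg C.toCopyX.Phi (show ((eb * ec, 1) : A5 × A5) = (ec, 1) * (eb, 1) by decide +kernel)
      · exact congrArg C.toCopyX.Phi (show ((eb * ec, 1) : A5 × A5) = (eb, 1) * (ec, 1) by decide +kernel)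
    rw [← h3]
    nth_rewrite 1 [e.1]
    rw [e.2]
    rw [show ∀ s t y : L, s * t * y * (t * s) = s * (t * y * t) * s from fun s t y => by group, h1,
      h2, inv_inv]
  have hi0 : (⟨_, hEL (hV eb (Or.inr (Or.inl rfl)))⟩ : L) ∈ center L := by
    refine CfsgLib.Perm.AbelianZStar.mem_center hO P
      (by show _ ∈ (P : Subgroup L); rw [hP, mem_subgroupOf]; exact hV eb (Or.inr (Or.inl rfl)))
      fun n hn => Subtype.ext ?_
    show (n : G) * C.toCopyX.Phi (eb, 1) * (n : G)⁻¹ = C.toCopyX.Phi (eb, 1)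
    have hmem := hV eb (Or.inr (Or.inl rfl))
    obtain ⟨⟨a, b⟩, hab, eab⟩ := C.mem_EE.1 (C.normalizer_maps hEL P hP hn hmem)
    have hnm : (n : G) * C.toCopyX.mid * (n : G)⁻¹ = C.toCopyX.mid :=
      mul_inv_eq_iff_eq_mul.2 (mem_centralizer_singleton_iff.1 n.2.2)
    have hp1 : (n : G) * C.toCopyX.Phi (1, eb) * (n : G)⁻¹ = C.toCopyX.Phi (eb * a, eb * b) := by
      rw [show ((1, eb) : A5 × A5) = (eb, eb) * (eb, 1) by
        exact Prod.ext (by decide +kernel) (mul_one _).symm, map_mul]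
      calc (n : G) * (C.toCopyX.Phi (eb, eb) * C.toCopyX.Phi (eb, 1)) * (n : G)⁻¹
          = (n : G) * C.toCopyX.mid * (n : G)⁻¹ *
            ((n : G) * C.toCopyX.Phi (eb, 1) * (n : G)⁻¹) := by simp only [CopyX.mid]; group
        _ = _ := by rw [hnm, eab, CopyX.mid, ← map_mul]; rfl
    have hV2 : InV (eb * a) ∧ InV (eb * b) :=
      ⟨InV.mul (Or.inr (Or.inl rfl)) hab.1, InV.mul (Or.inr (Or.inl rfl)) hab.2⟩
    have c1 := C.class_p_coords hab (eab ▸
      (C.toCopyX.conj_left (by decide +kernel : eb * eb = 1) (by decide +kernel)).trans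
        (isConj_iff.2 ⟨(n : G), rfl⟩))
    have c2 := C.class_p_coords (v := (eb * a, eb * b)) hV2 (hp1 ▸
      (C.toCopyX.conj_right (by decide +kernel : eb * eb = 1) (by decide +kernel)).trans
        (isConj_iff.2 ⟨(n : G), rfl⟩))
    rcases c1 with ⟨-, hb⟩ | ⟨ha, -⟩
    · change b = 1 at hb
      subst hb
      rcases c2 with ⟨-, h⟩ | ⟨h, -⟩
      · change eb * 1 = 1 at h
        rw [mul_one] at h
        exact absurd h (by decide +kernel)
      · rw [eab, (eq_inv_of_mul_eq_one_right h).trans (by decide +kernel : eb⁻¹ = eb)]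
    · change a = 1 at ha
      subst ha
      rcases c2 with ⟨-, h⟩ | ⟨h, -⟩
      · exfalso
        obtain rfl : b = eb :=
          (eq_inv_of_mul_eq_one_right h).trans (by decide +kernel : eb⁻¹ = eb)
        rw [show ((eb * 1, eb * eb) : A5 × A5) = (eb, 1) by decide +kernel] at hp1
        obtain ⟨j, hj⟩ := C.odd_pow_mem P hP hn
        have h' := iterate_swap eab hp1 j
        rw [(C.EE_comm hj hmem).eq, mul_inv_cancel_right] at h'
        exact absurd (congrArg Prod.fst (C.toCopyX.Phi_inj h')) (by decide +kernel)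
      · change eb * 1 = 1 at h
        rw [mul_one] at h
        exact absurd h (by decide +kernel)
  intro g hg
  refine C.cent_i0 ⟨hg.1, mem_centralizer_singleton_iff.2 ?_⟩
  have h : Commute g (C.toCopyX.Phi (eb, 1)) :=
    congrArg Subtype.val (mem_center_iff.1 hi0 ⟨g, hg⟩)
  rw [show S.i0 = C.toCopyX.Phi (eb, 1) by
    rw [CopyX.Phi_apply, map_one, mul_one, CopyX.az_eb]]
  exact h.eq

/-- The involutions `i₀` and `p` are not conjugate in `Y`. -/
theorem i0_p_not_conj {n : G} (hn : n ∈ C.Y) :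
    n * C.toSetting.i0 * n⁻¹ ≠ C.toSetting.p := by
  haveI := C.normalY
  intro h
  set S := C.toSetting
  set K := centralizer ({S.i0} : Set G)
  have hwn : S.w * n ∈ K := by
    refine mem_centralizer_singleton_iff.2 (mul_inv_eq_iff_eq_mul.1 ?_)
    calc S.w * n * S.i0 * (S.w * n)⁻¹ = S.w * (n * S.i0 * n⁻¹) * S.w⁻¹ := by group
      _ = S.i0 := by rw [h, S.w_inv]; exact C.hX
  have hrK : S.r0 ∈ K :=
    mem_centralizer_singleton_iff.2 (S.phi_commute (by decide +kernel) : Commute S.r0 S.i0).eq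
  let π := (QuotientGroup.mk' C.Y).comp K.subtype
  have hwr : S.w ∈ C.toCopyX.reps := by simp [CopyX.reps, S]
  have hrr : S.r0 ∈ C.toCopyX.reps := by simp [CopyX.reps, S]
  let a : G ⧸ C.Y := QuotientGroup.mk' C.Y S.r0
  let b : G ⧸ C.Y := QuotientGroup.mk' C.Y S.w
  have ha : a ∈ π.range := ⟨⟨S.r0, hrK⟩, rfl⟩
  have hb : b ∈ π.range := by
    refine ⟨⟨S.w * n, hwn⟩, ?_⟩
    show QuotientGroup.mk' C.Y (S.w * n) = _
    rw [map_mul, show QuotientGroup.mk' C.Y n = 1 from (QuotientGroup.eq_one_iff n).2 hn, mul_one]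
  have hQ : Nat.card (G ⧸ C.Y) = 4 := by rw [← index_eq_card, C.indexY]
  have htop : π.range = ⊤ := by
    refine eq_top_of_card_eq _ ?_
    refine le_antisymm (card_le_card_group _) ?_
    rw [hQ]
    let F : Fin 4 → π.range :=
      ![1, ⟨a, ha⟩, ⟨b, hb⟩, ⟨a * b, mul_mem ha hb⟩]
    have hinj : Function.Injective F := by
      have e1 : a ≠ 1 := fun e => C.rep_notY _ hrr (fun e' => by
        have := S.r0_order
        rw [e', orderOf_one] at this
        norm_num at this) ((QuotientGroup.eq_one_iff _).1 e)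
      have e2 : b ≠ 1 := fun e => C.rep_notY _ hwr
        (C.toCopyX.swap_ne (u := S.w) (by simp [CopyX.swaps, S])).1
        ((QuotientGroup.eq_one_iff _).1 e)
      have e3 : a * b ≠ 1 := fun e => C.rep_notY (S.r0 * S.w) (by simp [CopyX.reps, S])
        C.toCopyX.rw_ne ((QuotientGroup.eq_one_iff _).1 (by
          show QuotientGroup.mk' C.Y (S.r0 * S.w) = 1
          rw [map_mul]; exact e))
      have e4 : a ≠ b := fun e => e3 (by
        rw [e, ← map_mul, S.ww, map_one])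
      intro i j e
      have e' := congrArg Subtype.val e
      fin_cases i <;> fin_cases j <;>
        simp [F, e1, e2, e3, e4, e1.symm, e2.symm, e3.symm, e4.symm] at e' ⊢
    have := Nat.card_le_card_of_injective F hinj
    rwa [Nat.card_eq_fintype_card (α := Fin 4), Fintype.card_fin] at this
  refine C.toCopyX.not_64_dvd_cent_p ?_
  obtain ⟨g, hg⟩ := isConj_iff.1 C.toCopyX.isConj_i0_p
  rw [← hg, card_centralizer_conj, ← π.ker.index_mul_card, index_ker, htop, card_top, hQ]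
  have hsub : C.EE.subgroupOf K ≤ π.ker := fun x hx =>
    (QuotientGroup.eq_one_iff _).2 (C.EE_le_Y hx)
  have hEK : C.EE ≤ K := fun x hx =>
    mem_centralizer_singleton_iff.2 (C.EE_comm hx C.i0_mem_EE).eq
  have h16 : 16 ∣ Nat.card π.ker := by
    rw [← C.card_EE, ← Nat.card_congr (subgroupOfEquivOfLe hEK).toEquiv]
    exact card_dvd_of_le hsub
  exact Nat.mul_dvd_mul_left 4 h16

end CopyY

end CfsgLib.Recog.SymEight
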