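import Cfsg.Agent.Lib.Recog.SymEight.CaseXSylow

/-!
The second case: two transfers give a normal subgroup of index four.
-/

set_option autoImplicit false
set_option linter.style.haveILetI false
set_option synthInstance.maxSize 2000
set_option maxHeartbeats 1000000

namespace CfsgLib.Recog.SymEight

open Equiv Subgroup

/-- A subgroup of index two contains every image of `A5`. -/
theorem range_le_of_index_two {K : Type*} [Group K] {M : Subgroup K} (hM : M.index = 2)
    (f : A5 →* K) : f.range ≤ M := by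
  have hs : ∀ x : A5, x * x ∈ M.comap f := fun x => by
    rw [mem_comap, map_mul, ← pow_two]
    exact sq_mem_of_index_two hM (f x)
  have key : ∀ x ∈ ([ea, eb, ec] : List A5), ∃ s t : A5, x = s * s * (t * t) := by decide +kernel
  have hg : ∀ x ∈ ([ea, eb, ec] : List A5), x ∈ M.comap f := fun x hx => by
    obtain ⟨s, t, rfl⟩ := key x hx
    exact mul_mem (hs s) (hs t)
  have htop := A5_gen (hg ea (by simp)) (hg eb (by simp)) (hg ec (by simp))
  rintro _ ⟨x, rfl⟩
  exact htop.ge (mem_top x)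

namespace CopyX

variable {G : Type*} [Group G] [Finite G] (C : CopyX G)

/-- The subgroup `E ⟨u⟩` of `SS`. -/
def half (u : G) (hu : u ∈ C.reps) : Subgroup G where
  carrier := {x | ∃ v : A5 × A5, (InV v.1 ∧ InV v.2) ∧ ∃ h ∈ ([1, u] : List G), x = C.Phi v * h}
  one_mem' := ⟨1, ⟨Or.inl rfl, Or.inl rfl⟩, 1, by simp, by rw [map_one, one_mul]⟩
  mul_mem' := by
    rintro x y ⟨v, hv, h, hh, rfl⟩ ⟨v', hv', h', hh', rfl⟩
    have hh0 : h ∈ C.reps := by
      simp only [List.mem_cons, List.not_mem_nil, or_false] at hh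
      rcases hh with rfl | rfl
      exacts [by simp [reps], hu]
    obtain ⟨v'', hv'', e⟩ := C.rep_conj hh0 v' hv'
    refine ⟨v * v'', ⟨hv.1.mul hv''.1, hv.2.mul hv''.2⟩, h * h', ?_, ?_⟩
    · simp only [List.mem_cons, List.not_mem_nil, or_false] at hh hh' ⊢
      rcases hh with rfl | rfl <;> rcases hh' with rfl | rfl <;>
        simp [C.rep_sq hu]
    · calc C.Phi v * h * (C.Phi v' * h') = C.Phi v * (h * C.Phi v') * h' := by group
        _ = C.Phi (v * v'') * (h * h') := by rw [e, map_mul]; group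
  inv_mem' := by
    rintro x ⟨v, hv, h, hh, rfl⟩
    have hh0 : h ∈ C.reps := by
      simp only [List.mem_cons, List.not_mem_nil, or_false] at hh
      rcases hh with rfl | rfl
      exacts [by simp [reps], hu]
    obtain ⟨v', hv', e⟩ := C.rep_conj hh0 v hv
    refine ⟨v', hv', h, hh, ?_⟩
    rw [mul_inv_rev, inv_eq_of_mul_eq_one_right (C.rep_sq hh0), ← map_inv,
      show v⁻¹ = v from inv_eq_of_mul_eq_one_right (Prod.ext hv.1.sq hv.2.sq)]
    exact e

theorem half_le {u : G} (hu : u ∈ C.reps) : C.half u hu ≤ C.SS := by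
  rintro x ⟨v, hv, h, hh, rfl⟩
  refine ⟨v, hv, h, ?_, rfl⟩
  simp only [List.mem_cons, List.not_mem_nil, or_false] at hh
  rcases hh with rfl | rfl
  exacts [by simp [reps], hu]

theorem mem_half {u : G} (hu : u ∈ C.reps) {v : A5 × A5} (hv : InV v.1 ∧ InV v.2) {h : G}
    (hh : h ∈ C.reps) : C.Phi v * h ∈ C.half u hu ↔ h = 1 ∨ h = u := by
  constructor
  · rintro ⟨v', -, h', hh', e⟩
    have hh0 : h' ∈ C.reps := by
      simp only [List.mem_cons, List.not_mem_nil, or_false] at hh'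
      rcases hh' with rfl | rfl
      exacts [by simp [reps], hu]
    rw [(C.rep_unique hh hh0 e).2]
    simpa using hh'
  · intro h1
    exact ⟨v, hv, h, by simpa using h1, rfl⟩

theorem relIndex_half {u u' : G} (hu : u ∈ C.reps) (hu' : u' ∈ C.reps) {H : Subgroup G}
    (hle : H ≤ C.SS) (hu'H : u' ∈ H)
    (hcases : ∀ h ∈ C.reps, ∀ v : A5 × A5, InV v.1 ∧ InV v.2 → C.Phi v * h ∈ H →
      Xor' (h * u' = 1 ∨ h * u' = u) (h = 1 ∨ h = u)) :
    (C.half u hu).relIndex H = 2 := by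
  rw [relIndex, index_eq_two_iff]
  refine ⟨⟨u', hu'H⟩, fun b => ?_⟩
  obtain ⟨v, hv, h, hh, hb⟩ := hle b.2
  have hbH : C.Phi v * h ∈ H := hb ▸ b.2
  have := hcases h hh v hv hbH
  have e1 : (b * ⟨u', hu'H⟩ : H) ∈ (C.half u hu).subgroupOf H ↔ (h * u' = 1 ∨ h * u' = u) := by
    rw [mem_subgroupOf, coe_mul, hb, mul_assoc]
    exact C.mem_half hu hv (C.rep_mul hh hu')
  have e2 : b ∈ (C.half u hu).subgroupOf H ↔ (h = 1 ∨ h = u) := by
    rw [mem_subgroupOf, hb]
    exact C.mem_half hu hv hh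
  rw [e1, e2]
  exact this

include C in
theorem not_128_dvd : ¬ 128 ∣ Nat.card G := by
  haveI : Fact (Nat.Prime 2) := ⟨Nat.prime_two⟩
  obtain ⟨P, hP⟩ := C.exists_sylow
  intro h
  have hi := P.not_dvd_index
  rw [← (P : Subgroup G).card_mul_index, hP, C.card_SS, show 128 = 64 * 2 by rfl] at h
  rw [hP] at hi
  exact hi (Nat.dvd_of_mul_dvd_mul_left (by norm_num) h)

theorem range_Phi_le {K : Subgroup G} (hN : C.N0 ≤ K) {M : Subgroup K} (hM : M.index = 2) :
    C.N0 ≤ M.map K.subtype := by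
  have hz : ∀ x : A5, C.Phi (x, 1) ∈ K := fun x => hN ⟨_, rfl⟩
  have ha : ∀ x : A5, C.Phi (1, x) ∈ K := fun x => hN ⟨_, rfl⟩
  let f1 : A5 →* K := (C.Phi.comp (MonoidHom.inl A5 A5)).codRestrict K hz
  let f2 : A5 →* K := (C.Phi.comp (MonoidHom.inr A5 A5)).codRestrict K ha
  rintro _ ⟨v, rfl⟩
  rw [show v = (v.1, 1) * (1, v.2) by simp, map_mul]
  exact mul_mem ⟨f1 v.1, range_le_of_index_two hM f1 ⟨_, rfl⟩, rfl⟩
    ⟨f2 v.2, range_le_of_index_two hM f2 ⟨_, rfl⟩, rfl⟩

theorem exists_Y : ∃ Y : Subgroup G, Y.Normal ∧ C.N0 ≤ Y ∧ Y.index = 4 ∧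
    (∀ h ∈ C.reps, h ≠ 1 → h ∉ Y) ∧ ¬ 32 ∣ Nat.card Y := by
  haveI : Fact (Nat.Prime 2) := ⟨Nat.prime_two⟩
  obtain ⟨P, hP⟩ := C.exists_sylow
  set S := C.toSetting with hS
  have h1r : (1 : G) ∈ C.reps := by simp [reps]
  have hrr : S.r0 ∈ C.reps := by simp [reps, hS]
  have hwr : S.w ∈ C.reps := by simp [reps, hS]
  have hswr : S.r0 * S.w ∈ C.reps := by simp [reps, hS]
  have hr1 : S.r0 ≠ 1 := fun e => by
    have := S.r0_order
    rw [e, orderOf_one] at this
    norm_num at this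
  have hwne := C.swap_ne (u := S.w) (by simp [swaps, hS])
  have hrwne := C.swap_ne (u := S.r0 * S.w) (by simp [swaps, hS])
  have hrw_w : S.r0 * S.w ≠ S.w := fun e => hr1 (mul_eq_right.1 e)
  have hrw_r : S.r0 * S.w ≠ S.r0 := hrwne.2
  have hrr2 : S.r0 * S.r0 = 1 := S.r0_sq
  -- first transfer
  have hrel : (C.half S.w hwr).relIndex (P : Subgroup G) = 2 := by
    rw [hP]
    refine C.relIndex_half hwr hrr le_rfl (C.rep_mem_SS hrr) fun h hh v _ _ => ?_
    have e1 : S.w * S.r0 = S.r0 * S.w := S.w_comm_r0.eq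
    have e2 : S.r0 * S.w * S.r0 = S.w := by rw [mul_assoc, e1, ← mul_assoc, hrr2, one_mul]
    simp only [reps, List.mem_cons, List.not_mem_nil, or_false] at hh
    rw [← hS] at hh
    rcases hh with rfl | rfl | rfl | rfl
    · exact Or.inr ⟨Or.inl rfl, by
        rw [one_mul]; rintro (e | e); exacts [hr1 e, hwne.2 e.symm]⟩
    · exact Or.inl ⟨Or.inl hrr2, by rintro (e | e); exacts [hr1 e, hwne.2 e.symm]⟩
    · exact Or.inr ⟨Or.inr rfl, by rw [e1]; rintro (e | e); exacts [hrwne.1 e, hrw_w e]⟩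
    · exact Or.inl ⟨Or.inr e2, by rintro (e | e); exacts [hrwne.1 e, hrw_w e]⟩
  rcases CfsgLib.Transfer.thompson_transfer_involution P (hP.symm ▸ C.half_le hwr) hrel
      (u := S.r0) (by rw [pow_two]; exact hrr2) (hP.symm ▸ C.rep_mem_SS hrr) with
    ⟨G1, hG1n, hG1i, hr0G1⟩ | ⟨g, hg⟩
  swap
  · exfalso
    obtain ⟨v, hv, e⟩ := C.T3_SS (C.half_le hwr hg) (isConj_iff.2 ⟨g, rfl⟩)
    have hv' : InV v.1 ∧ InV v.2 :=
      ⟨by rcases hv.1 with h | h <;> simp [InV, h], by rcases hv.2 with h | h <;> simp [InV, h]⟩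
    rw [e, C.mem_half hwr hv' hrr] at hg
    exact hg.elim hr1 fun h => hwne.2 h.symm
  haveI := hG1n
  have hN1 : C.N0 ≤ G1 := by
    have h := C.range_Phi_le (K := ⊤) le_top (M := G1.subgroupOf ⊤) (by
      rw [← relIndex, relIndex_top_right, hG1i])
    rwa [subgroupOf_map_subtype, inf_top_eq] at h
  obtain ⟨u, hu, huG1, hu'G1⟩ : ∃ u ∈ C.swaps, u ∈ G1 ∧ S.r0 * u ∉ G1 := by
    by_cases h : S.w ∈ G1
    · exact ⟨S.w, by simp [swaps, hS], h, fun h' => hr0G1 ((mul_mem_cancel_right h).1 h')⟩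
    · exact ⟨S.r0 * S.w, by simp [swaps, hS], (mul_mem_iff_of_index_two hG1i).2
        ⟨fun h' => absurd h' hr0G1, fun h' => absurd h' h⟩,
        by rwa [← mul_assoc, hrr2, one_mul]⟩
  have hur := C.swap_rep hu
  obtain ⟨hu1, hu2⟩ := C.swap_ne hu
  have hreps4 : ∀ h ∈ C.reps, h = 1 ∨ h = u ∨ h = S.r0 ∨ h = S.r0 * u := by
    intro h hh
    simp only [swaps, List.mem_cons, List.not_mem_nil, or_false] at hu
    simp only [reps, List.mem_cons, List.not_mem_nil, or_false] at hh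
    rw [← hS] at hu hh
    rcases hu with rfl | rfl <;> rcases hh with rfl | rfl | rfl | rfl <;>
      simp [← mul_assoc, hrr2]
  have hhalf_eq : C.half u hur = C.SS ⊓ G1 := by
    refine le_antisymm (le_inf (C.half_le hur) ?_) ?_
    · rintro x ⟨v, hv, h, hh, rfl⟩
      refine mul_mem (hN1 ⟨v, rfl⟩) ?_
      simp only [List.mem_cons, List.not_mem_nil, or_false] at hh
      rcases hh with rfl | rfl
      exacts [one_mem _, huG1]
    · rintro x ⟨⟨v, hv, h, hh, rfl⟩, hx0⟩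
      have hx : C.Phi v * h ∈ G1 := hx0
      rw [mul_mem_cancel_left (hN1 ⟨v, rfl⟩)] at hx
      rcases hreps4 h hh with rfl | rfl | rfl | rfl
      · exact (C.mem_half hur hv h1r).2 (Or.inl rfl)
      · exact (C.mem_half hur hv hh).2 (Or.inr rfl)
      · exact absurd hx hr0G1
      · exact absurd hx hu'G1
  have hSS2 : IsPGroup 2 C.SS := IsPGroup.of_card (n := 6) (by rw [C.card_SS]; norm_num)
  have hhG1 : C.half u hur ≤ G1 := hhalf_eq ▸ inf_le_right
  obtain ⟨P1, hP1⟩ : ∃ P1 : Sylow 2 G1, (P1 : Subgroup G1) = (C.half u hur).subgroupOf G1 := by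
    obtain ⟨P1, hP1⟩ := ((hSS2.to_le (C.half_le hur)).comap_subtype (K := G1)).exists_le_sylow
    refine ⟨P1, (eq_of_le_of_card_ge hP1 ?_).symm⟩
    obtain ⟨R, hR⟩ := (P1.isPGroup'.map G1.subtype).exists_le_sylow
    obtain ⟨g, hg⟩ := MulAction.exists_smul_eq G R P
    show Nat.card _ ≤ Nat.card ((C.half u hur).subgroupOf G1)
    rw [Nat.card_congr (subgroupOfEquivOfLe hhG1).toEquiv, ← card_map_of_injective G1.subtype_injective,
      ← card_map_of_injective (f := (MulAut.conj g).toMonoidHom) (MulAut.conj g).injective]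
    refine card_le_of_le (hhalf_eq ▸ ?_)
    rintro _ ⟨x, hx, rfl⟩
    refine ⟨?_, hG1n.conj_mem _ ((map_subtype_le _) hx) g⟩
    rw [← hP, ← hg, Sylow.coe_subgroup_smul]
    exact smul_mem_pointwise_smul x (MulAut.conj g) _ (hR hx)
  have hEle : C.half 1 h1r ≤ C.half u hur := by
    rintro x ⟨v, hv, h, hh, rfl⟩
    simp only [List.mem_cons, List.not_mem_nil, or_false, or_self] at hh
    exact (C.mem_half hur hv (hh ▸ h1r)).2 (Or.inl hh)
  have huH : u ∈ C.half u hur := ⟨1, ⟨Or.inl rfl, Or.inl rfl⟩, u, by simp, by rw [map_one, one_mul]⟩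
  have hrel2 : (C.half 1 h1r).relIndex (C.half u hur) = 2 := by
    refine C.relIndex_half h1r hur (C.half_le hur) huH fun h hh v hv hH => ?_
    rcases (C.mem_half hur hv hh).1 hH with rfl | rfl
    · exact Or.inr ⟨Or.inl rfl, by rw [one_mul]; simpa using hu1⟩
    · exact Or.inl ⟨Or.inl (C.rep_sq hh), by simpa using hu1⟩
  -- second transfer
  rcases CfsgLib.Transfer.thompson_transfer_involution P1
      (Q := (C.half 1 h1r).subgroupOf G1) (hP1 ▸ fun x hx => hEle hx)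
      (by rw [hP1, relIndex_subgroupOf hhG1, hrel2]) (u := ⟨u, huG1⟩)
      (Subtype.ext (by rw [pow_two]; exact C.rep_sq hur))
      (hP1 ▸ mem_subgroupOf.2 huH) with ⟨M, hMn, hMi, huM⟩ | ⟨g, hg⟩
  swap
  · exfalso
    rw [mem_subgroupOf] at hg
    obtain ⟨v, hv, h, hh, e⟩ := hg
    simp only [List.mem_cons, List.not_mem_nil, or_false, or_self] at hh
    subst hh
    rw [mul_one, coe_mul, coe_mul, coe_inv] at e
    have hc : IsConj u (C.Phi v) := isConj_iff.2 ⟨g, e⟩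
    obtain ⟨v1, v2⟩ := v
    obtain ⟨a1, a2⟩ := hv
    by_cases e1 : v1 = 1
    · by_cases e2 : v2 = 1
      · rw [e1, e2, show ((1 : A5), (1 : A5)) = 1 from rfl, map_one] at hc
        exact hu1 (isConj_one_left.1 hc)
      · subst e1
        exact C.swap_not_conj_p hu ((C.conj_right a2.sq e2).trans hc.symm)
    · by_cases e2 : v2 = 1
      · subst e2
        exact C.swap_not_conj_p hu ((C.conj_left a1.sq e1).trans hc.symm)
      · exact C.swap_not_conj_mid hu ((C.conj_both a1.sq e1 a2.sq e2).trans hc.symm)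
  haveI := hMn
  set Y := M.map G1.subtype with hY
  have hNY : C.N0 ≤ Y := C.range_Phi_le hN1 hMi
  have hYG1 : Y ≤ G1 := map_subtype_le _
  have hYi : Y.index = 4 := by rw [hY, index_map_subtype, hMi, hG1i]
  have hcardY : Nat.card Y * 4 = Nat.card G := by rw [← hYi, card_mul_index]
  have h32 : ¬ 32 ∣ Nat.card Y := fun h => C.not_128_dvd (by
    rw [← hcardY, show 128 = 32 * 4 by rfl]
    exact Nat.mul_dvd_mul_right h 4)
  have hnot : ∀ h ∈ C.reps, h ≠ 1 → h ∉ Y := by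
    intro h hh h1 hhY
    rcases hreps4 h hh with rfl | rfl | rfl | rfl
    · exact h1 rfl
    · obtain ⟨m, hm, hme⟩ := hhY
      exact huM (by rwa [show (⟨h, huG1⟩ : G1) = m from Subtype.ext hme.symm])
    · exact hr0G1 (hYG1 hhY)
    · exact hu'G1 (hYG1 hhY)
  -- `Y` is normalised by `r₀`
  have hnG1 : ∀ g ∈ G1, ∀ y ∈ Y, g * y * g⁻¹ ∈ Y := by
    rintro g hg _ ⟨m, hm, rfl⟩
    exact ⟨⟨g, hg⟩ * m * ⟨g, hg⟩⁻¹, hMn.conj_mem m hm _, rfl⟩
  have hr0n : ∀ y ∈ Y, S.r0 * y * S.r0⁻¹ ∈ Y := by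
    set c := (MulAut.conj S.r0).toMonoidHom
    set I := Y ⊓ Y.comap c with hI
    suffices hle : Y ≤ I from fun y hy => (hle hy).2
    have hc : ∀ x, c x = C.cr x := fun x => by
      show S.r0 * x * S.r0⁻¹ = _
      rw [inv_eq_of_mul_eq_one_right hrr2]
      rfl
    have hE : C.half 1 h1r ≤ I := by
      rintro x ⟨v, hv, h, hh, rfl⟩
      simp only [List.mem_cons, List.not_mem_nil, or_false, or_self] at hh
      subst hh
      rw [mul_one]
      refine ⟨hNY ⟨v, rfl⟩, ?_⟩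
      show c (C.Phi v) ∈ Y
      rw [hc, C.cr_Phi]
      exact hNY ⟨_, rfl⟩
    have h16 : Nat.card (C.half 1 h1r) = 16 := by
      have e : Nat.card {v : A5 × A5 // InV v.1 ∧ InV v.2} = Nat.card (C.half 1 h1r) := by
        refine Nat.card_eq_of_bijective (fun v => ⟨C.Phi v.1, v.1, v.2, 1, by simp, (mul_one _).symm⟩)
          ⟨fun a b e => Subtype.ext (C.Phi_inj (congrArg Subtype.val e)), ?_⟩
        rintro ⟨x, v, hv, h, hh, rfl⟩
        simp only [List.mem_cons, List.not_mem_nil, or_false, or_self] at hh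
        subst hh
        exact ⟨⟨v, hv⟩, Subtype.ext (mul_one _).symm⟩
      show Nat.card (C.half 1 h1r) = 16
      rw [← e, Nat.card_eq_fintype_card]
      decide +kernel
    by_contra hcon
    obtain ⟨a, haY, haI⟩ := SetLike.not_le_iff_exists.1 hcon
    have hidx : I.relIndex Y = 2 := by
      rw [relIndex, index_eq_two_iff]
      refine ⟨⟨a, haY⟩, fun b => ?_⟩
      have hcG : ∀ x : Y, c x ∈ G1 := fun x => hG1n.conj_mem _ (hYG1 x.2) _
      have hiff : ∀ x : Y, x ∈ I.subgroupOf Y ↔ (⟨c x, hcG x⟩ : G1) ∈ M := by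
        intro x
        rw [mem_subgroupOf]
        constructor
        · rintro ⟨-, m, hm, hme⟩
          rwa [show (⟨c x, hcG x⟩ : G1) = m from Subtype.ext hme.symm]
        · exact fun h => ⟨x.2, _, h, rfl⟩
      rw [hiff, hiff, show (⟨c ((b * ⟨a, haY⟩ : Y) : G), hcG _⟩ : G1) =
        ⟨c b, hcG b⟩ * ⟨c a, hcG ⟨a, haY⟩⟩ from Subtype.ext (map_mul c _ _),
        mul_mem_iff_of_index_two hMi]
      have ha : (⟨c a, hcG ⟨a, haY⟩⟩ : G1) ∉ M := fun h =>
        haI (mem_subgroupOf.1 ((hiff ⟨a, haY⟩).2 h))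
      by_cases hb : (⟨c b, hcG b⟩ : G1) ∈ M
      · exact Or.inr ⟨hb, fun h => ha (h.1 hb)⟩
      · exact Or.inl ⟨⟨fun h => absurd h hb, fun h => absurd h ha⟩, hb⟩
    apply h32
    rw [show 32 = 2 * 16 by rfl, ← h16, ← hidx, ← relIndex_bot_left (C.half 1 h1r),
      ← relIndex_bot_left Y, ← relIndex_mul_relIndex ⊥ I Y bot_le inf_le_left, mul_comm]
    exact Nat.mul_dvd_mul_right (by
      rw [relIndex_bot_left, relIndex_bot_left]
      exact card_dvd_of_le hE) _
  refine ⟨Y, ⟨fun y hy g => ?_⟩, hNY, hYi, hnot, h32⟩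
  by_cases hg : g ∈ G1
  · exact hnG1 g hg y hy
  · have hg' : g * S.r0 ∈ G1 := (mul_mem_iff_of_index_two hG1i).2
      ⟨fun h => absurd h hg, fun h => absurd h hr0G1⟩
    have := hnG1 _ hg' _ (hr0n y hy)
    rw [inv_eq_of_mul_eq_one_right hrr2] at this
    simpa [mul_assoc, mul_inv_rev, inv_eq_of_mul_eq_one_right hrr2,
      show ∀ x : G, S.r0 * (S.r0 * x) = x from fun x => by rw [← mul_assoc, hrr2, one_mul]] using this

end CopyX

end CfsgLib.Recog.SymEight
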