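import Mathlib.GroupTheory.Perm.Fin
import Mathlib.Tactic

/-!
Commuting involutions of the symmetric group of degree six with centralisers of order 48.
-/

set_option autoImplicit false
set_option synthInstance.maxSize 2000
set_option maxHeartbeats 4000000

namespace CfsgLib.Recog.SymEight

open Equiv

/-- The number of fixed points in degree six. -/
def fix6 (π : Perm (Fin 6)) : ℕ := ((List.finRange 6).filter fun i => decide (π i = i)).length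

theorem fix6_conj (g π : Perm (Fin 6)) : fix6 (g * π * g⁻¹) = fix6 π := by
  have e : ∀ σ : Perm (Fin 6), fix6 σ = (Finset.univ.filter fun i => σ i = i).card := by
    intro σ
    rw [fix6, Fin.univ_def]
    rfl
  rw [e, e]
  refine (Finset.card_equiv g fun i => ?_).symm
  simp only [Finset.mem_filter, Finset.mem_univ, true_and]
  simp [Perm.mul_apply]

theorem invol_three_normal (e : Perm (Fin 6)) (he : e * e = 1) (he1 : e ≠ 1) (X : Perm (Fin 6))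
    (hX : X * X * X = 1) (hX1 : X ≠ 1) (hXe : X * e = e * X) :
    ∃ ρ : Perm (Fin 6),
      ρ * e * ρ⁻¹ = swap 0 1 ∨ ρ * e * ρ⁻¹ = swap 0 1 * swap 2 3 * swap 4 5 := by
  have key : ∀ e : Perm (Fin 6), e * e = 1 → e ≠ 1 →
      (∀ ρ : Perm (Fin 6), ρ * e ≠ swap 0 1 * ρ ∧
        ρ * e ≠ swap 0 1 * swap 2 3 * swap 4 5 * ρ) →
      ∀ X : Perm (Fin 6), X * e = e * X → X * X * X = 1 → X = 1 := by decide +kernel
  by_contra hcon
  push Not at hcon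
  exact hX1 (key e he he1 (fun ρ => ⟨fun h => (hcon ρ).1 (mul_inv_eq_iff_eq_mul.2 h),
    fun h => (hcon ρ).2 (mul_inv_eq_iff_eq_mul.2 h)⟩) X hXe hX)

/-- Two commuting transpositions. -/
def A1 : Perm (Fin 6) := swap 0 1

/-- See `A1`. -/
def A2 : Perm (Fin 6) := swap 2 3

/-- Two commuting triple transpositions. -/
def B1 : Perm (Fin 6) := swap 0 1 * swap 2 3 * swap 4 5

/-- See `B1`. -/
def B2 : Perm (Fin 6) := swap 0 1 * swap 2 4 * swap 3 5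

theorem pair_A : ∀ e : Perm (Fin 6), e * e = 1 → e * A1 = A1 * e → e ≠ A1 →
    fix6 e = 4 → ∃ σ : Perm (Fin 6), σ * A1 = A1 * σ ∧ σ * e = A2 * σ := by decide +kernel

theorem pair_B : ∀ e : Perm (Fin 6), e * e = 1 → e * B1 = B1 * e → e ≠ B1 →
    fix6 e = 0 → ∃ σ : Perm (Fin 6), σ * B1 = B1 * σ ∧ σ * e = B2 * σ := by decide +kernel

theorem three_A : ∀ h : Perm (Fin 6), h * A1 = A1 * h → h * A2 * h⁻¹ ≠ A1 → h * A2 * h⁻¹ ≠ A2 →
    h * A2 * h⁻¹ * A2 = A2 * (h * A2 * h⁻¹) → h * A2 * h⁻¹ = swap 4 5 := by decide +kernel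

theorem three_B : ∀ h : Perm (Fin 6), h * B1 = B1 * h → h * B2 * h⁻¹ ≠ B1 → h * B2 * h⁻¹ ≠ B2 →
    h * B2 * h⁻¹ * B2 = B2 * (h * B2 * h⁻¹) → B1 * B2 * (h * B2 * h⁻¹) ∈
      ([swap 0 1, swap 2 3, swap 4 5, swap 2 4, swap 3 5, swap 2 5, swap 3 4] :
        List (Perm (Fin 6))) := by decide +kernel

theorem fix_A : ∀ X : Perm (Fin 6), X * X * X = 1 → X ≠ 1 → X * A1 = A1 * X → fix6 X = 3 := by
  decide +kernel

theorem fix_B : ∀ X : Perm (Fin 6), X * X * X = 1 → X ≠ 1 → X * B1 = B1 * X → fix6 X = 0 := by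
  decide +kernel

theorem swap_cent : ∀ m ∈ ([swap 0 1, swap 2 3, swap 4 5, swap 2 4, swap 3 5, swap 2 5, swap 3 4] :
    List (Perm (Fin 6))), m ≠ 1 ∧ ∃ Z ∈ ([swap 2 3 * swap 3 4, swap 0 1 * swap 1 4,
      swap 0 1 * swap 1 2, swap 0 1 * swap 1 3] : List (Perm (Fin 6))),
      Z * m = m * Z ∧ Z * Z * Z = 1 ∧ Z ≠ 1 ∧ fix6 Z = 3 := by decide +kernel

theorem conj_pair (e1 e2 : Perm (Fin 6)) (h : ∃ g, g * e1 = e2 * g) : fix6 e2 = fix6 e1 := by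
  obtain ⟨g, hg⟩ := h
  rw [eq_mul_inv_of_mul_eq hg.symm, fix6_conj]

theorem pair_normal (E : Perm (Fin 6))
    (hE : E = swap 0 1 ∨ E = swap 0 1 * swap 2 3 * swap 4 5) (e2 : Perm (Fin 6))
    (h2 : e2 * e2 = 1) (hc : e2 * E = E * e2) (hne : e2 ≠ E) (hconj : ∃ h, h * E = e2 * h) :
    ∃ σ : Perm (Fin 6), σ * E = E * σ ∧
      ((E = A1 ∧ σ * e2 * σ⁻¹ = A2) ∨ (E = B1 ∧ σ * e2 * σ⁻¹ = B2)) := by
  have hf := conj_pair E e2 hconj
  rcases hE with rfl | rfl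
  · obtain ⟨σ, h1, h3⟩ := pair_A e2 h2 hc hne (hf.trans (by decide +kernel))
    exact ⟨σ, h1, Or.inl ⟨rfl, mul_inv_eq_iff_eq_mul.2 h3⟩⟩
  · obtain ⟨σ, h1, h3⟩ := pair_B e2 h2 hc hne (hf.trans (by decide +kernel))
    exact ⟨σ, h1, Or.inr ⟨rfl, mul_inv_eq_iff_eq_mul.2 h3⟩⟩

theorem third_normal (E : Perm (Fin 6))
    (hE : E = swap 0 1 ∨ E = swap 0 1 * swap 2 3 * swap 4 5) (e2 : Perm (Fin 6))
    (h2 : e2 * e2 = 1) (hc : e2 * E = E * e2) (hne : e2 ≠ E)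
    (hconj : ∃ h, h * E = e2 * h) :
    ∃ h1 : Perm (Fin 6), (h1 * E = E * h1 ∧ h1 * e2 * h1⁻¹ ≠ E ∧ h1 * e2 * h1⁻¹ ≠ e2 ∧
      h1 * e2 * h1⁻¹ ≠ E * e2 ∧ h1 * e2 * h1⁻¹ * e2 = e2 * (h1 * e2 * h1⁻¹)) ∧
      ∃ h2 : Perm (Fin 6), h2 * e2 = e2 * h2 ∧ h2 * E * h2⁻¹ = h1 * e2 * h1⁻¹ := by
  obtain ⟨σ, hσ, hcase⟩ := pair_normal E hE e2 h2 hc hne hconj
  let c : Perm (Fin 6) ≃* Perm (Fin 6) := MulAut.conj σ
  have cE : c E = E := mul_inv_eq_iff_eq_mul.2 hσ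
  suffices h : ∃ h1 : Perm (Fin 6), (h1 * E = E * h1 ∧ h1 * c e2 * h1⁻¹ ≠ E ∧
      h1 * c e2 * h1⁻¹ ≠ c e2 ∧ h1 * c e2 * h1⁻¹ ≠ E * c e2 ∧
      h1 * c e2 * h1⁻¹ * c e2 = c e2 * (h1 * c e2 * h1⁻¹)) ∧
      ∃ h2 : Perm (Fin 6), h2 * c e2 = c e2 * h2 ∧ h2 * E * h2⁻¹ = h1 * c e2 * h1⁻¹ by
    obtain ⟨u, ⟨a1, a2, a3, a4, a5⟩, v, b1, b2⟩ := h
    obtain ⟨u, rfl⟩ := c.surjective u
    obtain ⟨v, rfl⟩ := c.surjective v
    refine ⟨u, ⟨c.injective ?_, fun h => a2 ?_, fun h => a3 ?_, fun h => a4 ?_, c.injective ?_⟩,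
      v, c.injective ?_, c.injective ?_⟩
    · simpa only [map_mul, cE] using a1
    · simpa only [map_mul, map_inv, cE] using congrArg c h
    · simpa only [map_mul, map_inv, cE] using congrArg c h
    · simpa only [map_mul, map_inv, cE] using congrArg c h
    · simpa only [map_mul, map_inv, cE] using a5
    · simpa only [map_mul, cE] using b1
    · simpa only [map_mul, map_inv, cE] using b2
  show ∃ h1 : Perm (Fin 6), _
  rcases hcase with ⟨rfl, he⟩ | ⟨rfl, he⟩ <;>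
    rw [show c e2 = σ * e2 * σ⁻¹ from rfl, he]
  · exact ⟨swap 2 4 * swap 3 5, by decide +kernel, swap 0 4 * swap 1 5, by decide +kernel⟩
  · exact ⟨swap 4 5, by decide +kernel, swap 2 4, by decide +kernel⟩

theorem triple_normal (E : Perm (Fin 6))
    (hE : E = swap 0 1 ∨ E = swap 0 1 * swap 2 3 * swap 4 5) (e2 : Perm (Fin 6))
    (h2 : e2 * e2 = 1) (hc : e2 * E = E * e2) (hne : e2 ≠ E) (hconj : ∃ h, h * E = e2 * h)
    (h : Perm (Fin 6)) (hh : h * E = E * h) (hne1 : h * e2 * h⁻¹ ≠ E) (hne2 : h * e2 * h⁻¹ ≠ e2)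
    (hc2 : h * e2 * h⁻¹ * e2 = e2 * (h * e2 * h⁻¹)) :
    E * e2 * (h * e2 * h⁻¹) ≠ 1 ∧ ∃ Z : Perm (Fin 6),
      (Z * (E * e2 * (h * e2 * h⁻¹)) = E * e2 * (h * e2 * h⁻¹) * Z ∧ Z * Z * Z = 1 ∧ Z ≠ 1) ∧
      ∀ X : Perm (Fin 6), X * E = E * X → X * X * X = 1 → X ≠ 1 → fix6 X ≠ fix6 Z := by
  obtain ⟨σ, hσ, hcase⟩ := pair_normal E hE e2 h2 hc hne hconj
  let c : Perm (Fin 6) ≃* Perm (Fin 6) := MulAut.conj σ
  have cE : c E = E := mul_inv_eq_iff_eq_mul.2 hσ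
  have hh' : c h * E = E * c h := by simpa only [map_mul, cE] using congrArg c hh
  have n1 : c h * c e2 * (c h)⁻¹ ≠ E := fun e =>
    hne1 (c.injective (by simpa only [map_mul, map_inv, cE] using e))
  have n2 : c h * c e2 * (c h)⁻¹ ≠ c e2 := fun e =>
    hne2 (c.injective (by simpa only [map_mul, map_inv] using e))
  have hc2' : c h * c e2 * (c h)⁻¹ * c e2 = c e2 * (c h * c e2 * (c h)⁻¹) := by
    simpa only [map_mul, map_inv] using congrArg c hc2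
  suffices key : E * c e2 * (c h * c e2 * (c h)⁻¹) ≠ 1 ∧ ∃ Z : Perm (Fin 6),
      (Z * (E * c e2 * (c h * c e2 * (c h)⁻¹)) = E * c e2 * (c h * c e2 * (c h)⁻¹) * Z ∧
        Z * Z * Z = 1 ∧ Z ≠ 1) ∧
      ∀ X : Perm (Fin 6), X * E = E * X → X * X * X = 1 → X ≠ 1 → fix6 X ≠ fix6 Z by
    obtain ⟨k1, Z, ⟨z1, z2, z3⟩, z4⟩ := key
    obtain ⟨Z, rfl⟩ := c.surjective Z
    refine ⟨fun e => k1 ?_, Z, ⟨c.injective ?_, c.injective ?_, fun e => z3 ?_⟩,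
      fun X a b d => ?_⟩
    · simpa only [map_mul, map_inv, map_one, cE] using congrArg c e
    · simpa only [map_mul, map_inv, cE] using z1
    · simpa only [map_mul, map_one] using z2
    · rw [e, map_one]
    · have := z4 X a b d
      rwa [show c Z = σ * Z * σ⁻¹ from rfl, fix6_conj] at this
  rcases hcase with ⟨rfl, he⟩ | ⟨rfl, he⟩ <;> rw [show c e2 = σ * e2 * σ⁻¹ from rfl, he] at n1 n2 hc2' ⊢
  · rw [three_A _ hh' n1 n2 hc2']
    exact ⟨by decide +kernel, swap 0 2 * swap 2 4 * (swap 1 3 * swap 3 5),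
      by decide +kernel, fun X a b d => by rw [fix_A X b d a]; decide +kernel⟩
  · obtain ⟨m1, Z, -, z1, z2, z3, z4⟩ := swap_cent _ (three_B _ hh' n1 n2 hc2')
    exact ⟨m1, Z, ⟨z1, z2, z3⟩, fun X a b d => by rw [fix_B X b d a, z4]; norm_num⟩

/-- Two commuting conjugate involutions with centralisers of order 48 determine a third. -/
theorem third (e1 e2 X : Perm (Fin 6)) (h1 : e1 * e1 = 1) (h11 : e1 ≠ 1)
    (hX : X * X * X = 1) (hX1 : X ≠ 1) (hXe : X * e1 = e1 * X)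
    (hc : e2 * e1 = e1 * e2) (hne : e2 ≠ e1) (hconj : ∃ h, h * e1 * h⁻¹ = e2) :
    ∃ h1 h2 : Perm (Fin 6), h1 * e1 = e1 * h1 ∧ h2 * e2 = e2 * h2 ∧
      h2 * e1 * h2⁻¹ = h1 * e2 * h1⁻¹ ∧ h1 * e2 * h1⁻¹ ≠ e1 ∧ h1 * e2 * h1⁻¹ ≠ e2 ∧
      h1 * e2 * h1⁻¹ ≠ e1 * e2 ∧ h1 * e2 * h1⁻¹ * e2 = e2 * (h1 * e2 * h1⁻¹) := by
  obtain ⟨ρ, hρ⟩ := invol_three_normal e1 h1 h11 X hX hX1 hXe
  let c : Perm (Fin 6) ≃* Perm (Fin 6) := MulAut.conj ρ
  obtain ⟨u, ⟨a1, a2, a3, a4, a5⟩, v, b1, b2⟩ := third_normal (c e1) hρ (c e2)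
    (by
      obtain ⟨h, hh⟩ := hconj
      rw [← map_mul, ← hh, show h * e1 * h⁻¹ * (h * e1 * h⁻¹) = 1 by
        rw [show h * e1 * h⁻¹ * (h * e1 * h⁻¹) = h * (e1 * e1) * h⁻¹ by group, h1]; group, map_one])
    (by rw [← map_mul, hc, map_mul]) (c.injective.ne hne)
    (by
      obtain ⟨h, hh⟩ := hconj
      exact ⟨c h, by rw [← map_mul, ← map_mul, ← hh, inv_mul_cancel_right]⟩)
  obtain ⟨u, rfl⟩ := c.surjective u
  obtain ⟨v, rfl⟩ := c.surjective v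
  refine ⟨u, v, c.injective ?_, c.injective ?_, c.injective ?_, fun h => a2 ?_, fun h => a3 ?_,
    fun h => a4 ?_, c.injective ?_⟩
  · simpa only [map_mul] using a1
  · simpa only [map_mul] using b1
  · simpa only [map_mul, map_inv] using b2
  · simpa only [map_mul, map_inv] using congrArg c h
  · simpa only [map_mul, map_inv] using congrArg c h
  · simpa only [map_mul, map_inv] using congrArg c h
  · simpa only [map_mul, map_inv] using a5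

/-- The product of the three is centralised by an element of order three of the other type. -/
theorem triple (e1 e2 X : Perm (Fin 6)) (h1 : e1 * e1 = 1) (h11 : e1 ≠ 1)
    (hX : X * X * X = 1) (hX1 : X ≠ 1) (hXe : X * e1 = e1 * X)
    (hc : e2 * e1 = e1 * e2) (hne : e2 ≠ e1) (hconj : ∃ h, h * e1 * h⁻¹ = e2)
    (h : Perm (Fin 6)) (hh : h * e1 = e1 * h) (hne1 : h * e2 * h⁻¹ ≠ e1)
    (hne2 : h * e2 * h⁻¹ ≠ e2) (hc2 : h * e2 * h⁻¹ * e2 = e2 * (h * e2 * h⁻¹)) :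
    e1 * e2 * (h * e2 * h⁻¹) ≠ 1 ∧ ∃ Z : Perm (Fin 6), Z * Z * Z = 1 ∧ Z ≠ 1 ∧
      Z * (e1 * e2 * (h * e2 * h⁻¹)) = e1 * e2 * (h * e2 * h⁻¹) * Z ∧
      fix6 X ≠ fix6 Z := by
  obtain ⟨ρ, hρ⟩ := invol_three_normal e1 h1 h11 X hX hX1 hXe
  let c : Perm (Fin 6) ≃* Perm (Fin 6) := MulAut.conj ρ
  obtain ⟨n1, Z, ⟨z1, z2, z3⟩, z4⟩ := triple_normal (c e1) hρ (c e2)
    (by
      obtain ⟨h, hh⟩ := hconj
      rw [← map_mul, ← hh, show h * e1 * h⁻¹ * (h * e1 * h⁻¹) = 1 by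
        rw [show h * e1 * h⁻¹ * (h * e1 * h⁻¹) = h * (e1 * e1) * h⁻¹ by group, h1]; group, map_one])
    (by rw [← map_mul, hc, map_mul]) (c.injective.ne hne)
    (by
      obtain ⟨h, hh⟩ := hconj
      exact ⟨c h, by rw [← map_mul, ← map_mul, ← hh, inv_mul_cancel_right]⟩)
    (c h) (by rw [← map_mul, hh, map_mul])
    (by rw [← map_inv, ← map_mul, ← map_mul]; exact c.injective.ne hne1)
    (by rw [← map_inv, ← map_mul, ← map_mul]; exact c.injective.ne hne2)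
    (by rw [← map_inv, ← map_mul, ← map_mul, ← map_mul, ← map_mul, hc2])
  obtain ⟨Z, rfl⟩ := c.surjective Z
  refine ⟨fun e => n1 ?_, Z, c.injective ?_, fun e => z3 ?_, c.injective ?_, ?_⟩
  · simpa only [map_mul, map_inv, map_one] using congrArg c e
  · simpa only [map_mul, map_one] using z2
  · rw [e, map_one]
  · simpa only [map_mul, map_inv] using z1
  · have h3 := z4 (c X) (by rw [← map_mul, hXe, map_mul])
      (by rw [← map_mul, ← map_mul, hX, map_one])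
      (fun e => hX1 (c.injective (e.trans (map_one c).symm)))
    rwa [show c X = ρ * X * ρ⁻¹ from rfl, show c Z = ρ * Z * ρ⁻¹ from rfl, fix6_conj,
      fix6_conj] at h3

end CfsgLib.Recog.SymEight
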