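import Cfsg.Agent.Lib.Recog.SymEight.Quot
import Cfsg.Agent.Lib.Recog.SymEight.Perm6

/-!
The second case: the centraliser of `r₀` normalises `D`, and two copies of `A₅` commute.
-/

set_option autoImplicit false
set_option linter.style.haveILetI false
set_option synthInstance.maxSize 2000
set_option maxHeartbeats 1000000

namespace CfsgLib.Recog.SymEight

open Equiv Subgroup

namespace Setting

variable {G : Type*} [Group G] [Finite G] (S : Setting G)

/-- The partner of `p`. -/
def i0 : G := S.phi (1, swap 0 1 * swap 3 4)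

/-- An involution of `A_z`. -/
def g0 : G := S.phi (1, swap 0 3 * swap 1 4)

/-- An involution of `A_a`. -/
def k0 : G := S.cw S.g0

/-- A subgroup of order nine centralising a conjugate of `r₀` and a `3`-element commuting with it. -/
theorem exists_nine {u x : G} (hu : IsConj S.r0 u) (hx : x ^ 3 = 1) (hc : Commute u x) :
    ∃ Q : Subgroup G, 9 ≤ Nat.card Q ∧ ∀ d ∈ Q, Commute d u ∧ Commute d x ∧ d ^ 3 = 1 := by
  classical
  haveI : Fact (Nat.Prime 3) := ⟨Nat.prime_three⟩
  obtain ⟨g, rfl⟩ := isConj_iff.1 hu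
  set C := centralizer ({g * S.r0 * g⁻¹} : Set G)
  have hgD : S.D.map (MulAut.conj g).toMonoidHom ≤ C := by
    rintro _ ⟨d, hd, rfl⟩
    refine mem_centralizer_singleton_iff.2 ?_
    have hdr : Commute d S.r0 := S.normalizes_comm_r0 (fun e he => by
      rw [(S.D_comm hd he).eq, mul_inv_cancel_right]; exact he)
    exact (hdr.map (MulAut.conj g).toMonoidHom).eq
  have hD3 : IsPGroup 3 (S.D.map (MulAut.conj g).toMonoidHom) := by
    refine IsPGroup.of_card (n := 2) ?_
    rw [card_map_of_injective (MulAut.conj g).injective, S.card_D]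
    norm_num
  have hxC : x ∈ C := mem_centralizer_singleton_iff.2 hc.eq.symm
  have hxp : IsPGroup 3 (zpowers (⟨x, hxC⟩ : C)) := by
    rintro ⟨e, he⟩
    obtain ⟨k, rfl⟩ := mem_zpowers_iff.1 he
    refine ⟨1, Subtype.ext (Subtype.ext ?_)⟩
    simp only [pow_one, SubmonoidClass.coe_pow, coe_zpow, OneMemClass.coe_one]
    rw [← zpow_natCast, zpow_comm, zpow_natCast, hx, one_zpow]
  obtain ⟨Q, hQ⟩ := hxp.exists_le_sylow
  refine ⟨(Q : Subgroup C).map C.subtype, ?_, ?_⟩
  · obtain ⟨R, hR⟩ := (hD3.comap_subtype (K := C)).exists_le_sylow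
    rw [card_map_of_injective C.subtype_injective, Sylow.card_eq_multiplicity,
      ← Sylow.card_eq_multiplicity R]
    refine le_trans (le_of_eq ?_) (card_le_of_le hR)
    rw [← card_map_of_injective C.subtype_injective,
      map_comap_eq_self (by rwa [range_subtype]),
      card_map_of_injective (MulAut.conj g).injective, S.card_D]
  · obtain ⟨k, hk⟩ := S.sylow3 _ (Q.isPGroup'.map C.subtype)
    rintro _ ⟨d, hd, rfl⟩
    have hd' := hk _ ⟨d, hd, rfl⟩
    have hx' := hk x ⟨⟨x, hxC⟩, hQ (mem_zpowers _), rfl⟩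
    refine ⟨mem_centralizer_singleton_iff.1 d.2, ?_, ?_⟩
    · have := (S.D_comm hd' hx').map (MulAut.conj k⁻¹).toMonoidHom
      simpa [mul_assoc] using this
    · have := S.D_pow hd'
      rwa [conj_pow, conj_eq_one_iff] at this

theorem i0_not_T3 : ¬ IsConj S.r0 S.i0 := by
  intro h
  obtain ⟨Q, hQ, hd⟩ := S.exists_nine (x := S.z) h (S.D_pow S.z_mem) (S.phi_commute (by decide +kernel))
  have hle : Nat.card Q ≤ Nat.card {x : M35 // (x.1 = 1 ∨ x.1 = c3 ∨ x.1 = c3⁻¹) ∧
      x * (1, swap 0 1 * swap 3 4) = (1, swap 0 1 * swap 3 4) * x ∧ x * x * x = 1} := by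
    have hex : ∀ d : Q, ∃ x : {x : M35 // (x.1 = 1 ∨ x.1 = c3 ∨ x.1 = c3⁻¹) ∧
        x * (1, swap 0 1 * swap 3 4) = (1, swap 0 1 * swap 3 4) * x ∧ x * x * x = 1},
        S.phi x.1 = d := by
      intro d
      obtain ⟨h1, h2, h3⟩ := hd d d.2
      obtain ⟨x, hx, e⟩ := S.comm_z h2
      refine ⟨⟨x, hx, S.inj ?_, S.inj ?_⟩, e.symm⟩
      · rw [map_mul, map_mul, ← e]; exact h1.eq
      · rw [map_mul, map_mul, map_one, ← e, ← pow_two, ← pow_succ, h3]
    choose F hF using hex
    exact Nat.card_le_card_of_injective F fun a b e => Subtype.ext (by rw [← hF a, e, hF b])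
  rw [Nat.card_eq_fintype_card (α := {x : M35 // _}), show Fintype.card {x : M35 //
      (x.1 = 1 ∨ x.1 = c3 ∨ x.1 = c3⁻¹) ∧
      x * (1, swap 0 1 * swap 3 4) = (1, swap 0 1 * swap 3 4) * x ∧ x * x * x = 1} = 3 by
    decide +kernel] at hle
  omega

variable (hX : S.cw S.p = S.i0)

include hX

theorem cw_i0 : S.cw S.i0 = S.p := by rw [← hX, S.cw_cw]

theorem p_not_T3 : ¬ IsConj S.r0 S.p := by
  intro h
  have := S.cw.map_isConj h
  rw [S.cw_r0, hX] at this
  exact S.i0_not_T3 this

/-- In the second case the centraliser of `r₀` normalises `D`. -/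
theorem normalizes_of_comm_r0 (h : S.Six ∨ ∀ g, Commute g S.r0 → S.Normalizes g) :
    ∀ g, Commute g S.r0 → S.Normalizes g := by
  refine h.resolve_left fun h6 => ?_
  set C := centralizer ({S.r0} : Set G)
  obtain ⟨π, hπ, hker⟩ : ∃ π : C →* Perm (Fin 6),
      Function.Surjective π ∧ ∀ x, π x = 1 ↔ (x : G) = 1 ∨ (x : G) = S.r0 := h6
  have memC : ∀ {x : G}, x ∈ C ↔ Commute x S.r0 := fun {x} => mem_centralizer_singleton_iff
  have eq_of_pi : ∀ x y : C, π x = π y → (x : G) = y ∨ (x : G) = y * S.r0 := by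
    intro x y e
    have h1 : π (y⁻¹ * x) = 1 := by rw [map_mul, map_inv, e, inv_mul_cancel]
    rcases (hker _).1 h1 with h2 | h2 <;> rw [coe_mul, coe_inv] at h2
    · exact Or.inl (inv_mul_eq_one.1 h2).symm
    · exact Or.inr (inv_mul_eq_iff_eq_mul.1 h2)
  have pi_inv : ∀ m : M35, ∀ hm : Commute (S.phi m) S.r0, m ≠ 1 → m ≠ (1, swap 3 4) →
      π ⟨S.phi m, memC.2 hm⟩ ≠ 1 := by
    intro m hm h1 h2 e
    rcases (hker _).1 e with e' | e'
    · exact h1 (S.inj (e'.trans (map_one S.phi).symm))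
    · exact h2 (S.inj e')
  let t1' : C := ⟨S.phi (1, swap 0 1), memC.2 (S.phi_commute (by decide +kernel))⟩
  let t2' : C := ⟨S.phi (swap 0 1, swap 3 4), memC.2 (S.phi_commute (by decide +kernel))⟩
  let z' : C := ⟨S.z, memC.2 S.r0_comm_z.symm⟩
  let a' : C := ⟨S.a, memC.2 S.r0_comm_a.symm⟩
  let w' : C := ⟨S.w, memC.2 S.w_comm_r0⟩
  have hcwτ : S.cw (S.phi (1, swap 0 1)) = S.phi (swap 0 1, swap 3 4) := by
    rw [show ((1, swap 0 1) : M35) = (1, swap 0 1 * swap 3 4) * (1, swap 3 4) by decide +kernel,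
      map_mul, map_mul,
      show S.cw (S.phi (1, swap 0 1 * swap 3 4)) = S.p from S.cw_i0 hX,
      show S.cw (S.phi (1, swap 3 4)) = S.r0 from S.cw_r0, p, r0, ← map_mul]
    exact congrArg S.phi (by decide +kernel)
  have hwconj : w' * t1' * w'⁻¹ = t2' := Subtype.ext (by
    simp only [coe_mul, coe_inv, w', t1', t2', S.w_inv]
    exact hcwτ)
  have hz3 : π z' * π z' * π z' = 1 := by
    rw [← map_mul, ← map_mul, show z' * z' * z' = 1 from Subtype.ext (by
      show S.z * S.z * S.z = 1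
      rw [← pow_two, ← pow_succ, S.D_pow S.z_mem]), map_one]
  have hz1 : π z' ≠ 1 := pi_inv (c3, 1) S.r0_comm_z.symm (by decide +kernel) (by decide +kernel)
  have ht1 : π t1' * π t1' = 1 := by
    rw [← map_mul, show t1' * t1' = 1 from Subtype.ext (by
      show S.phi (1, swap 0 1) * S.phi (1, swap 0 1) = 1
      rw [← map_mul, ← map_one S.phi]; exact congrArg S.phi (by decide +kernel)), map_one]
  have ht11 : π t1' ≠ 1 :=
    pi_inv (1, swap 0 1) (S.phi_commute (by decide +kernel)) (by decide +kernel) (by decide +kernel)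
  have hzt : π z' * π t1' = π t1' * π z' := by
    rw [← map_mul, ← map_mul]
    exact congrArg π (Subtype.ext (S.phi_commute (by decide +kernel) : Commute _ _).eq)
  have h12c : π t2' * π t1' = π t1' * π t2' := by
    rw [← map_mul, ← map_mul]
    exact congrArg π (Subtype.ext (S.phi_commute (by decide +kernel) : Commute _ _).eq)
  have hne : π t2' ≠ π t1' := by
    intro e
    rcases eq_of_pi _ _ e with e' | e'
    · exact absurd (S.inj e') (by decide +kernel)
    · simp only [t1', t2', r0, ← map_mul] at e'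
      exact absurd (S.inj e') (by decide +kernel)
  have hconj : ∃ h, h * π t1' * h⁻¹ = π t2' :=
    ⟨π w', by rw [← map_inv, ← map_mul, ← map_mul, hwconj]⟩
  obtain ⟨u1, u2, hu1, hu2, hu12, n1, n2, n12, hc3⟩ :=
    third (π t1') (π t2') (π z') ht1 ht11 hz3 hz1 hzt h12c hne hconj
  obtain ⟨k1, rfl⟩ := hπ u1
  obtain ⟨k2, rfl⟩ := hπ u2
  -- the three lifts of class `r₀`
  have conjT3 : ∀ (k : G) (x : G), IsConj S.r0 x → IsConj S.r0 (k * x * k⁻¹) := fun k x hx =>
    hx.trans (isConj_iff.2 ⟨k, rfl⟩)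
  have hT1 : IsConj S.r0 (t1' : G) := isConj_iff.2 ⟨S.g0, by
    show S.phi _ * S.phi _ * (S.phi _)⁻¹ = S.phi _
    rw [← map_inv, ← map_mul, ← map_mul]
    exact congrArg S.phi (by decide +kernel)⟩
  have hT2 : IsConj S.r0 (t2' : G) := hT1.trans (isConj_iff.2 ⟨S.w, by
    rw [S.w_inv]; exact hcwτ⟩)
  have h1r : (t1' : G) * S.r0 = S.i0 := by
    show S.phi _ * S.phi _ = S.phi _
    rw [← map_mul]
    exact congrArg S.phi (by decide +kernel)
  have h2r : (t2' : G) * S.r0 = S.p := by
    show S.phi _ * S.phi _ = S.phi _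
    rw [← map_mul]
    exact congrArg S.phi (by decide +kernel)
  set t3' : C := k1 * t2' * k1⁻¹
  have hT3' : IsConj S.r0 (t3' : G) := conjT3 _ _ hT2
  have hk1 : k1 * t1' * k1⁻¹ = t1' := by
    refine Subtype.ext ((eq_of_pi _ _ (by
      rw [map_mul, map_mul, map_inv, hu1, mul_inv_cancel_right])).resolve_right fun e => ?_)
    have := conjT3 (k1 : G) _ hT1
    rw [show (k1 : G) * t1' * (k1 : G)⁻¹ = (t1' : G) * S.r0 from e, h1r] at this
    exact S.i0_not_T3 this
  have hk2 : k2 * t2' * k2⁻¹ = t2' := by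
    refine Subtype.ext ((eq_of_pi _ _ (by
      rw [map_mul, map_mul, map_inv, hu2, mul_inv_cancel_right])).resolve_right fun e => ?_)
    have := conjT3 (k2 : G) _ hT2
    rw [show (k2 : G) * t2' * (k2 : G)⁻¹ = (t2' : G) * S.r0 from e, h2r] at this
    exact S.p_not_T3 hX this
  have hk21 : k2 * t1' * k2⁻¹ = t3' := by
    refine Subtype.ext ((eq_of_pi _ _ (by
      simp only [t3', map_mul, map_inv]; exact hu12)).resolve_right fun e => ?_)
    have h := conjT3 (k2 : G) _ hT1
    rw [show (k2 : G) * t1' * (k2 : G)⁻¹ = (t3' : G) * S.r0 from e] at h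
    have h' : (t3' : G) * S.r0 = (k1 : G) * ((t2' : G) * S.r0) * (k1 : G)⁻¹ := by
      simp only [t3', coe_mul, coe_inv]
      rw [mul_assoc _ ((t2' : G) * S.r0), mul_assoc (t2' : G) S.r0,
        ((memC.1 k1.2).inv_left.symm : Commute S.r0 (k1 : G)⁻¹).eq]
      simp only [mul_assoc]
    rw [h', h2r] at h
    exact S.p_not_T3 hX (h.trans (isConj_iff.2 ⟨(k1 : G)⁻¹, by group⟩))
  have hu3 : π t3' = π k1 * π t2' * (π k1)⁻¹ := by simp only [t3', map_mul, map_inv]
  let rC : C := ⟨S.r0, memC.2 (Commute.refl _)⟩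
  have hrC : π rC = 1 := (hker _).2 (Or.inr rfl)
  have hrcomm : ∀ x : C, Commute x rC := fun x => Subtype.ext (memC.1 x.2).eq
  set cc : C := rC * t1' * t2'
  set cc' : C := k1 * cc * k1⁻¹
  have hcc' : cc' = rC * t1' * t3' := by
    calc cc' = k1 * rC * k1⁻¹ * (k1 * t1' * k1⁻¹) * (k1 * t2' * k1⁻¹) := by
          simp only [cc', cc]; group
      _ = rC * t1' * t3' := by rw [(hrcomm k1).eq, mul_inv_cancel_right, hk1]
  have hTcc : IsConj S.r0 (cc : G) := hT2.trans (isConj_iff.2 ⟨S.g0, by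
    show S.phi _ * S.phi _ * (S.phi _)⁻¹ = S.phi _ * S.phi _ * S.phi _
    rw [← map_inv, ← map_mul, ← map_mul, ← map_mul, ← map_mul]
    exact congrArg S.phi (by decide +kernel)⟩)
  -- `u` is a conjugate of `r₀`
  set uu : C := k2 * cc * k2⁻¹
  have huu : uu = rC * t3' * t2' := by
    calc uu = k2 * rC * k2⁻¹ * (k2 * t1' * k2⁻¹) * (k2 * t2' * k2⁻¹) := by
          simp only [uu, cc]; group
      _ = rC * t3' * t2' := by rw [(hrcomm k2).eq, mul_inv_cancel_right, hk21, hk2]
  have hTu : IsConj S.r0 (uu : G) := conjT3 _ _ hTcc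
  have hcc2 : cc * cc = 1 := by
    refine Subtype.ext ?_
    show S.phi _ * S.phi _ * S.phi _ * (S.phi _ * S.phi _ * S.phi _) = 1
    simp only [← map_mul]
    rw [← map_one S.phi]
    exact congrArg S.phi (by decide +kernel)
  have h32 : t3' * t2' = t2' * t3' := by
    have hsq : uu * uu = 1 := by
      simp only [uu]
      rw [show k2 * cc * k2⁻¹ * (k2 * cc * k2⁻¹) = k2 * (cc * cc) * k2⁻¹ by group, hcc2]
      group
    have h2 : t2' * t2' = 1 := Subtype.ext (by
      show S.phi _ * S.phi _ = 1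
      rw [← map_mul, ← map_one S.phi]; exact congrArg S.phi (by decide +kernel))
    have h3 : t3' * t3' = 1 := by
      simp only [t3']
      rw [show k1 * t2' * k1⁻¹ * (k1 * t2' * k1⁻¹) = k1 * (t2' * t2') * k1⁻¹ by group, h2]
      group
    have hr2 : rC * rC = 1 := Subtype.ext S.r0_sq
    rw [huu] at hsq
    have h4 : (t3' * t2') * (t3' * t2') = 1 := by
      calc (t3' * t2') * (t3' * t2') = rC * rC * ((t3' * t2') * (t3' * t2')) := by
            rw [hr2, one_mul]
        _ = rC * (t3' * t2' * rC) * (t3' * t2') := by rw [(hrcomm (t3' * t2')).eq]; group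
        _ = 1 := by rw [← hsq]; group
    have h5 := eq_inv_of_mul_eq_one_right h4
    rw [mul_inv_rev, inv_eq_of_mul_eq_one_right h2, inv_eq_of_mul_eq_one_right h3] at h5
    exact h5
  -- move the picture from the centraliser of `τ₁` back
  have hg0r : S.g0 * S.r0 * S.g0⁻¹ = (t1' : G) := by
    show S.phi _ * S.phi _ * (S.phi _)⁻¹ = S.phi _
    rw [← map_inv, ← map_mul, ← map_mul]
    exact congrArg S.phi (by decide +kernel)
  have hg0t : S.g0 * (t1' : G) * S.g0⁻¹ = S.r0 := by
    show S.phi _ * S.phi _ * (S.phi _)⁻¹ = S.phi _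
    rw [← map_inv, ← map_mul, ← map_mul]
    exact congrArg S.phi (by decide +kernel)
  let γ : G →* G := (MulAut.conj S.g0).toMonoidHom
  have γ_apply : ∀ x, γ x = S.g0 * x * S.g0⁻¹ := fun x => rfl
  have hγC : ∀ x : C, x * t1' = t1' * x → γ x ∈ C := by
    intro x hx
    refine memC.2 ?_
    have h := ((show Commute (x : G) (t1' : G) from congrArg Subtype.val hx)).map γ
    rwa [γ_apply (t1' : G), hg0t] at h
  have hk1c : k1 * t1' = t1' * k1 := mul_inv_eq_iff_eq_mul.1 hk1
  have hγcc : γ cc = t2' := by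
    show S.phi _ * (S.phi _ * S.phi _ * S.phi _) * (S.phi _)⁻¹ = S.phi _
    rw [← map_inv, ← map_mul, ← map_mul, ← map_mul, ← map_mul]
    exact congrArg S.phi (by decide +kernel)
  let h' : C := ⟨γ k1, hγC k1 hk1c⟩
  have hh' : h' * t1' = t1' * h' := by
    refine Subtype.ext ?_
    have h := ((show Commute (k1 : G) S.r0 from memC.1 k1.2)).map γ
    rwa [γ_apply S.r0, hg0r] at h
  set e3 : C := h' * t2' * h'⁻¹
  have he3 : (e3 : G) = γ cc' := by
    simp only [e3, cc', coe_mul, coe_inv, h', map_mul, map_inv, hγcc]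
  have hsing : ∀ x : C, π x = π t1' → (x : G) = t1' ∨ (x : G) = (t1' : G) * S.r0 := fun x hx =>
    eq_of_pi x t1' hx
  have hccU : cc * cc' = cc' * cc := by
    have a : Commute t1' t2' := Subtype.ext (S.phi_commute (by decide +kernel) : Commute _ _).eq
    have b : Commute t1' t3' := by
      have := a.map (MulAut.conj k1).toMonoidHom
      simpa [hk1, t3'] using this
    have r := fun x => (hrcomm x).symm
    rw [hcc']
    exact (((((Commute.refl rC).mul_right (r t1')).mul_right (r t3')).mul_left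
      ((((r t1').symm).mul_right (Commute.refl t1')).mul_right b)).mul_left
      ((((r t2').symm).mul_right a.symm).mul_right (h32.symm : Commute t2' t3'))).eq
  have n3a : π e3 ≠ π t1' := by
    intro e
    have hback : (cc' : G) = S.r0 ∨ (cc' : G) = S.r0 * t1' := by
      rcases hsing _ e with e' | e' <;> rw [he3, γ_apply] at e'
      · left
        have := congrArg (fun x => S.g0⁻¹ * x * S.g0) e'
        simp only [← hg0r] at this
        simpa [mul_assoc] using this
      · right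
        rw [← hg0r] at e'
        nth_rewrite 2 [← hg0t] at e'
        have := congrArg (fun x => S.g0⁻¹ * x * S.g0) e'
        simpa [mul_assoc] using this
    rcases hback with e' | e'
    · have h1 : π cc' = 1 := (hker _).2 (Or.inr e')
      rw [hcc', map_mul, map_mul, hrC, one_mul, hu3] at h1
      refine n1 ?_
      rw [eq_inv_of_mul_eq_one_right h1, inv_eq_of_mul_eq_one_right ht1]
    · have h1 : π cc' = π t1' := by
        rw [show cc' = rC * t1' from Subtype.ext e', map_mul, hrC, one_mul]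
      rw [hcc', map_mul, map_mul, hrC, one_mul, mul_eq_left, hu3, conj_eq_one_iff] at h1
      exact pi_inv (swap 0 1, swap 3 4) (S.phi_commute (by decide +kernel)) (by decide +kernel)
        (by decide +kernel) h1
  have n3b : π e3 ≠ π t2' := by
    intro e
    have hback : (cc' : G) = cc ∨ (cc' : G) = (cc : G) * t1' := by
      rcases eq_of_pi _ _ e with e' | e' <;> rw [he3, γ_apply] at e'
      · left
        rw [← hγcc, γ_apply] at e'
        simpa [mul_assoc] using e'
      · right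
        rw [← hγcc, γ_apply] at e'
        nth_rewrite 1 [← hg0t] at e'
        have := congrArg (fun x => S.g0⁻¹ * x * S.g0) e'
        simpa [mul_assoc] using this
    rcases hback with e' | e'
    · have h1 : π cc' = π cc := congrArg π (Subtype.ext e')
      simp only [hcc', cc, map_mul, hrC, one_mul] at h1
      rw [mul_right_inj, hu3] at h1
      exact n2 h1
    · have h1 : π cc' = π (cc * t1') := congrArg π (Subtype.ext (by rw [coe_mul]; exact e'))
      simp only [hcc', cc, map_mul, hrC, one_mul] at h1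
      rw [mul_assoc (π t1'), mul_right_inj, hu3, h12c] at h1
      exact n12 h1
  have hc23 : π e3 * π t2' = π t2' * π e3 := by
    rw [← map_mul, ← map_mul]
    refine congrArg π (Subtype.ext ?_)
    show (e3 : G) * (t2' : G) = (t2' : G) * (e3 : G)
    rw [he3, ← hγcc, ← map_mul, ← map_mul]
    exact congrArg γ (congrArg Subtype.val hccU.symm)
  have he3π : π e3 = π h' * π t2' * (π h')⁻¹ := by simp only [e3, map_mul, map_inv]
  obtain ⟨hm1, Z, hZ3, hZ1, hZm, hfix⟩ := triple (π t1') (π t2') (π z') ht1 ht11 hz3 hz1 hzt h12c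
    hne hconj (π h') (by rw [← map_mul, hh', map_mul]) (he3π ▸ n3a) (he3π ▸ n3b) (he3π ▸ hc23)
  obtain ⟨Z0, hZ0⟩ := hπ Z
  obtain ⟨ZC, hZC, hZC3⟩ : ∃ x : C, π x = Z ∧ (x : G) ^ 3 = 1 := by
    refine ⟨Z0 ^ 4, ?_, ?_⟩
    · rw [map_pow, hZ0, pow_succ, pow_succ, pow_two, hZ3, one_mul]
    · rw [SubmonoidClass.coe_pow, ← pow_mul, show 4 * 3 = 3 * 4 by rfl, pow_mul]
      have h1 : π (Z0 ^ 3) = 1 := by rw [map_pow, hZ0, pow_succ, pow_two, hZ3]
      rcases (hker _).1 h1 with e | e <;> rw [SubmonoidClass.coe_pow] at e <;> rw [e]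
      · rw [one_pow]
      · rw [show 4 = 2 * 2 by rfl, pow_mul, show S.r0 ^ 2 = 1 by rw [pow_two, S.r0_sq], one_pow]
  set mm : C := t1' * t2' * e3
  have hmπ : π mm = π t1' * π t2' * (π h' * π t2' * (π h')⁻¹) := by
    simp only [mm, map_mul, he3π]
  have hmT : IsConj S.r0 (mm : G) := by
    have hval : (mm : G) = γ uu := by
      have e : uu = rC * cc * cc' := by
        rw [huu, hcc']
        simp only [cc]
        have hr2 : rC * rC = 1 := Subtype.ext S.r0_sq
        have h1 : t1' * t1' = 1 := Subtype.ext (by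
          show S.phi _ * S.phi _ = 1
          rw [← map_mul, ← map_one S.phi]; exact congrArg S.phi (by decide +kernel))
        have a : t2' * t1' = t1' * t2' :=
          Subtype.ext (S.phi_commute (by decide +kernel) : Commute _ _).eq
        calc rC * t3' * t2' = rC * (t2' * t3') := by rw [mul_assoc, h32]
          _ = rC * (t1' * t1') * (t2' * t3') := by rw [h1, mul_one]
          _ = rC * (rC * rC) * t1' * (t1' * t2') * t3' := by rw [hr2, mul_one]; group
          _ = rC * (rC * rC) * t1' * (t2' * t1') * t3' := by rw [a]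
          _ = rC * (rC * (rC * (t1' * t2'))) * t1' * t3' := by group
          _ = rC * (rC * ((t1' * t2') * rC)) * t1' * t3' := by rw [(hrcomm (t1' * t2')).eq]
          _ = rC * (rC * t1' * t2') * (rC * t1' * t3') := by group
      rw [e]
      simp only [mm, coe_mul, map_mul, he3]
      rw [show γ (rC : G) = (t1' : G) from hg0r, hγcc]
    rw [hval]
    exact hTu.trans (isConj_iff.2 ⟨S.g0, rfl⟩)
  have hZmm : Commute (ZC : G) mm := by
    have h1 : π (ZC * mm * ZC⁻¹) = π mm := by
      rw [map_mul, map_mul, map_inv, hZC, hmπ, hZm, mul_inv_cancel_right]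
    rcases eq_of_pi _ _ h1 with e | e <;> rw [coe_mul, coe_mul, coe_inv] at e
    · exact mul_inv_eq_iff_eq_mul.1 e
    · exfalso
      -- conjugating three times by `ZC` is trivial
      have hr : Commute (ZC : G) S.r0 := memC.1 ZC.2
      have e2 : (ZC : G) * ZC * mm * ((ZC : G) * ZC)⁻¹ = mm := by
        calc (ZC : G) * ZC * mm * ((ZC : G) * ZC)⁻¹
            = ZC * (ZC * mm * (ZC : G)⁻¹) * (ZC : G)⁻¹ := by group
          _ = ZC * (mm * S.r0) * (ZC : G)⁻¹ := by rw [e]
          _ = ZC * mm * (ZC : G)⁻¹ * (ZC * S.r0 * (ZC : G)⁻¹) := by group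
          _ = mm := by
            rw [hr.eq, mul_inv_cancel_right, e, mul_assoc, S.r0_sq, mul_one]
      have e4 : (ZC : G) * ZC = (ZC : G)⁻¹ := eq_inv_of_mul_eq_one_left (by
        rw [← pow_two, ← pow_succ, hZC3])
      rw [e4, inv_inv] at e2
      have e5 : (ZC : G) * mm * (ZC : G)⁻¹ = mm := by
        have := congrArg (fun x => (ZC : G) * x * (ZC : G)⁻¹) e2
        simpa [mul_assoc] using this.symm
      rw [e, mul_eq_left] at e5
      have h2 := S.r0_order
      rw [e5, orderOf_one] at h2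
      norm_num at h2
  -- move `ZC` into `D` inside the centraliser of `r₀`
  haveI : Fact (Nat.Prime 3) := ⟨Nat.prime_three⟩
  have hDC : S.D ≤ C := fun d hd => memC.2 (S.normalizes_comm_r0 fun e he => by
    rw [(S.D_comm hd he).eq, mul_inv_cancel_right]; exact he)
  set DC := S.D.subgroupOf C
  have hDC9 : Nat.card DC = 9 := by rw [Nat.card_congr (subgroupOfEquivOfLe hDC).toEquiv, S.card_D]
  obtain ⟨PC, hPC⟩ : ∃ PC : Sylow 3 C, (PC : Subgroup C) = DC := by
    obtain ⟨PC, hPC⟩ :=
      (IsPGroup.of_card (n := 2) (by rw [hDC9]; norm_num) : IsPGroup 3 DC).exists_le_sylow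
    refine ⟨PC, (eq_of_le_of_card_ge hPC ?_).symm⟩
    obtain ⟨g, hg⟩ := S.sylow3 _ (PC.isPGroup'.map C.subtype)
    rw [hDC9, ← S.card_D, ← card_map_of_injective C.subtype_injective,
      ← card_map_of_injective (f := (MulAut.conj g).toMonoidHom) (MulAut.conj g).injective]
    refine card_le_of_le ?_
    rintro _ ⟨x, hx, rfl⟩
    exact hg x hx
  obtain ⟨R, hR⟩ := (show IsPGroup 3 (zpowers ZC) by
    rintro ⟨e, he⟩
    obtain ⟨k, rfl⟩ := mem_zpowers_iff.1 he
    refine ⟨1, Subtype.ext (Subtype.ext ?_)⟩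
    simp only [pow_one, SubmonoidClass.coe_pow, coe_zpow, OneMemClass.coe_one]
    rw [← zpow_natCast, zpow_comm, zpow_natCast, hZC3, one_zpow]).exists_le_sylow
  obtain ⟨kk, hkk⟩ := MulAction.exists_smul_eq C R PC
  have hZD : ((kk * ZC * kk⁻¹ : C) : G) ∈ S.D := by
    have : kk * ZC * kk⁻¹ ∈ (PC : Subgroup C) := by
      rw [← hkk, Sylow.coe_subgroup_smul]
      exact smul_mem_pointwise_smul ZC (MulAut.conj kk) _ (hR (mem_zpowers _))
    rwa [hPC] at this
  obtain ⟨m, hm, hmZ⟩ := hZD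
  have hfixZ : fix6 (π (kk * ZC * kk⁻¹)) = fix6 Z := by
    rw [map_mul, map_mul, map_inv, fix6_conj, hZC]
  have hfix_inv : ∀ Y : Perm (Fin 6), fix6 Y⁻¹ = fix6 Y := by
    intro Y
    unfold fix6
    congr 1
    refine List.filter_congr fun i _ => decide_eq_decide.2 ⟨fun h => ?_, fun h => ?_⟩
    · conv_lhs => rw [← h]
      simp
    · conv_lhs => rw [← h]
      simp
  have hfa : fix6 (π a') = fix6 (π z') := by
    rw [show a' = w' * z' * w'⁻¹ from Subtype.ext (by
      simp only [coe_mul, coe_inv, a', w', z', S.w_inv]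
      exact S.wzw.symm), map_mul, map_mul, map_inv, fix6_conj]
  rcases InD_cases m hm with e | e | e | ⟨k, hk, e⟩
  · rw [e, map_one] at hmZ
    refine hZ1 ?_
    rw [← hZC, show ZC = 1 from Subtype.ext (conj_eq_one_iff.1
      (show (kk : G) * (ZC : G) * (kk : G)⁻¹ = 1 from hmZ.symm)), map_one]
  · rcases e with rfl | rfl
    · rw [show kk * ZC * kk⁻¹ = z' from Subtype.ext hmZ.symm] at hfixZ
      exact hfix hfixZ
    · rw [show kk * ZC * kk⁻¹ = z'⁻¹ from Subtype.ext (by
        rw [← hmZ, coe_inv, map_inv]; rfl), map_inv, hfix_inv] at hfixZ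
      exact hfix hfixZ
  · rcases e with rfl | rfl
    · rw [show kk * ZC * kk⁻¹ = a' from Subtype.ext hmZ.symm, hfa] at hfixZ
      exact hfix hfixZ
    · rw [show kk * ZC * kk⁻¹ = a'⁻¹ from Subtype.ext (by
        rw [← hmZ, coe_inv, map_inv]; rfl), map_inv, hfix_inv, hfa] at hfixZ
      exact hfix hfixZ
  · have hy : S.phi m = S.phi k * S.y * (S.phi k)⁻¹ := by
      rw [e, map_mul, map_mul, map_inv, y]
    have hkr : Commute (S.phi k) S.r0 := S.normalizes_comm_r0 (S.normalizes_K (list_NK k hk))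
    set q : G := (S.phi k)⁻¹ * kk
    have hqr : Commute q S.r0 := hkr.inv_left.mul_left (memC.1 kk.2)
    have hqZ : q * ZC * q⁻¹ = S.y := by
      calc q * ZC * q⁻¹ = (S.phi k)⁻¹ * ((kk : G) * ZC * (kk : G)⁻¹) * S.phi k := by
            simp only [q]; group
        _ = S.y := by
          rw [show (kk : G) * ZC * (kk : G)⁻¹ = S.phi m from hmZ.symm, hy]
          group
    have hc := hZmm.symm.map (MulAut.conj q).toMonoidHom
    simp only [MulEquiv.coe_toMonoidHom, MulAut.conj_apply, hqZ] at hc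
    have := S.eq_r0_of_comm_y (conjT3 q _ hmT) hc
    have hmr : (mm : G) = S.r0 := by
      have h := congrArg (fun x => q⁻¹ * x * q) this
      simp only [mul_assoc, inv_mul_cancel, mul_one, inv_mul_cancel_left] at h
      rw [h, ← hqr.eq, inv_mul_cancel_left]
    refine hm1 ?_
    rw [← hmπ]
    exact (hker _).2 (Or.inr hmr)

/-- A common centraliser of `p`, `i₀` and `r₀`. -/
theorem cent_A0 (hN : ∀ g, Commute g S.r0 → S.Normalizes g) {x : G} (hr : Commute x S.r0)
    (hp : Commute x S.p) (hi : Commute x S.i0) :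
    ∃ m : M35, m ∈ ([1, (swap 0 1, 1), (1, swap 0 1 * swap 3 4),
      (swap 0 1, swap 0 1 * swap 3 4), (1, swap 3 4), (swap 0 1, swap 3 4), (1, swap 0 1),
      (swap 0 1, swap 0 1)] : List M35) ∧ x = S.phi m := by
  obtain ⟨m, hm, hx⟩ := S.normalizes_form (hN x hr)
  rcases hx with rfl | rfl
  · refine ⟨m, ?_, rfl⟩
    have key : ∀ m : M35, NK m.2 → m * (swap 0 1, 1) = (swap 0 1, 1) * m →
        m * (1, swap 0 1 * swap 3 4) = (1, swap 0 1 * swap 3 4) * m →
        m ∈ ([1, (swap 0 1, 1), (1, swap 0 1 * swap 3 4),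
          (swap 0 1, swap 0 1 * swap 3 4), (1, swap 3 4), (swap 0 1, swap 3 4), (1, swap 0 1),
          (swap 0 1, swap 0 1)] : List M35) := by decide +kernel
    exact key m hm (S.inj (by rw [map_mul, map_mul]; exact hp.eq))
      (S.inj (by rw [map_mul, map_mul]; exact hi.eq))
  · exfalso
    have h := hp.eq
    have h' : S.phi m * S.p * (S.phi m)⁻¹ = S.i0 := by
      rw [← hX, cw_apply]
      calc S.phi m * S.p * (S.phi m)⁻¹
          = S.w * S.w * (S.phi m * S.p) * (S.phi m)⁻¹ := by rw [S.ww, one_mul]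
        _ = S.w * (S.w * S.phi m * S.p) * (S.phi m)⁻¹ := by group
        _ = S.w * (S.p * (S.w * S.phi m)) * (S.phi m)⁻¹ := by rw [h]
        _ = S.w * S.p * S.w := by group
    rw [p, i0, ← map_inv, ← map_mul, ← map_mul] at h'
    have e := congrArg Prod.fst (S.inj h')
    simp only [Prod.fst_mul, Prod.fst_inv, conj_eq_one_iff] at e
    exact absurd e (by decide +kernel)

/-- The two involutions `g₀`, `k₀` commute. -/
theorem g0_comm_k0 (hN : ∀ g, Commute g S.r0 → S.Normalizes g) : Commute S.g0 S.k0 := by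
  have g2 : S.g0 * S.g0 = 1 := by
    rw [g0, ← map_mul, ← map_one S.phi]; exact congrArg S.phi (by decide +kernel)
  have k2 : S.k0 * S.k0 = 1 := by rw [k0, ← map_mul, g2, map_one]
  have gp : Commute S.g0 S.p := S.phi_commute (by decide +kernel)
  have gi : Commute S.g0 S.i0 := S.phi_commute (by decide +kernel)
  have kp : Commute S.k0 S.p := by rw [← S.cw_i0 hX, k0]; exact gi.map S.cw
  have ki : Commute S.k0 S.i0 := by rw [← hX, k0]; exact gp.map S.cw
  have gr : S.g0 * S.r0 = S.i0 * S.r0 * S.g0 := by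
    simp only [g0, r0, i0, ← map_mul]
    exact congrArg S.phi (by decide +kernel)
  have kr : S.k0 * S.r0 = S.p * S.r0 * S.k0 := by
    have := congrArg S.cw gr
    rwa [map_mul, map_mul, map_mul, S.cw_r0, S.cw_i0 hX] at this
  have ipc : Commute S.i0 S.p := S.phi_commute (by decide +kernel)
  have ii : S.i0 * S.i0 = 1 := by
    rw [i0, ← map_mul, ← map_one S.phi]; exact congrArg S.phi (by decide +kernel)
  have pp : S.p * S.p = 1 := by
    rw [← sq, ← S.p_order, pow_orderOf_eq_one]
  obtain ⟨d, hd⟩ : ∃ d, d = S.g0 * S.k0 * S.g0 * S.k0 := ⟨_, rfl⟩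
  have hdp : Commute d S.p := hd ▸ ((gp.mul_left kp).mul_left gp).mul_left kp
  have hdi : Commute d S.i0 := hd ▸ ((gi.mul_left ki).mul_left gi).mul_left ki
  have step : S.g0 * S.k0 * S.r0 = S.p * S.i0 * S.r0 * (S.g0 * S.k0) := by
    calc S.g0 * S.k0 * S.r0 = S.g0 * (S.p * S.r0 * S.k0) := by rw [mul_assoc, kr]
      _ = S.g0 * S.p * S.r0 * S.k0 := by group
      _ = S.p * (S.g0 * S.r0) * S.k0 := by rw [gp.eq]; group
      _ = S.p * S.i0 * S.r0 * (S.g0 * S.k0) := by rw [gr]; group
  have gkpi : Commute (S.g0 * S.k0) (S.p * S.i0) :=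
    (gp.mul_left kp).mul_right (gi.mul_left ki)
  have hdr : Commute d S.r0 := by
    have hd' : d = S.g0 * S.k0 * (S.g0 * S.k0) := by rw [hd]; group
    have : (S.p * S.i0) * (S.p * S.i0) = 1 := by
      calc (S.p * S.i0) * (S.p * S.i0) = S.p * (S.i0 * S.p) * S.i0 := by group
        _ = S.p * S.p * (S.i0 * S.i0) := by rw [ipc.eq]; group
        _ = 1 := by rw [pp, ii, one_mul]
    rw [commute_iff_eq, hd']
    calc S.g0 * S.k0 * (S.g0 * S.k0) * S.r0 = S.g0 * S.k0 * (S.g0 * S.k0 * S.r0) := by group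
      _ = S.g0 * S.k0 * (S.p * S.i0) * S.r0 * (S.g0 * S.k0) := by rw [step]; group
      _ = S.p * S.i0 * (S.g0 * S.k0 * S.r0) * (S.g0 * S.k0) := by rw [gkpi.eq]; group
      _ = (S.p * S.i0) * (S.p * S.i0) * S.r0 * (S.g0 * S.k0 * (S.g0 * S.k0)) := by
        rw [step]; group
      _ = _ := by rw [this, one_mul]
  obtain ⟨m, hm, hdm⟩ := S.cent_A0 hX hN hdr hdp hdi
  have hcw : S.cw d = d⁻¹ := by
    rw [hd, map_mul, map_mul, map_mul, show S.cw S.g0 = S.k0 from rfl,
      show S.cw S.k0 = S.g0 from S.cw_cw S.g0]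
    simp only [mul_inv_rev, inv_eq_of_mul_eq_one_right g2, inv_eq_of_mul_eq_one_right k2]
    group
  have hgk : Commute (S.g0 * S.k0) d := by
    rw [hd, show S.g0 * S.k0 * S.g0 * S.k0 = S.g0 * S.k0 * (S.g0 * S.k0) by group]
    exact (Commute.refl _).mul_right (Commute.refl _)
  -- no component along `r₀`
  have hnor : ∀ e : G, Commute (S.g0 * S.k0) e → d ≠ e * S.r0 := by
    intro e he hde
    have h := hgk.eq
    rw [hde, ← mul_assoc, he.eq, mul_assoc e, step, mul_assoc e S.r0] at h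
    have h' : S.p * S.i0 * S.r0 = S.r0 :=
      mul_right_cancel (mul_left_cancel h : S.p * S.i0 * S.r0 * (S.g0 * S.k0) = _)
    rw [p, i0, r0, ← map_mul, ← map_mul] at h'
    exact absurd (S.inj h') (by decide +kernel)
  have hd4 : d = 1 ∨ d = S.p ∨ d = S.i0 ∨ d = S.p * S.i0 := by
    simp only [List.mem_cons, List.not_mem_nil, or_false] at hm
    rcases hm with rfl | rfl | rfl | rfl | rfl | rfl | rfl | rfl
    · exact Or.inl (hdm.trans (map_one _))
    · exact Or.inr (Or.inl hdm)
    · exact Or.inr (Or.inr (Or.inl hdm))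
    · refine Or.inr (Or.inr (Or.inr (hdm.trans ?_)))
      rw [p, i0, ← map_mul]
      exact congrArg S.phi (by decide +kernel)
    · exact absurd (hdm.trans (one_mul _).symm) (hnor 1 (Commute.one_right _))
    · refine absurd (hdm.trans ?_) (hnor S.p (gp.mul_left kp))
      rw [p, r0, ← map_mul]
      exact congrArg S.phi (by decide +kernel)
    · refine absurd (hdm.trans ?_) (hnor S.i0 (gi.mul_left ki))
      rw [i0, r0, ← map_mul]
      exact congrArg S.phi (by decide +kernel)
    · refine absurd (hdm.trans ?_) (hnor (S.p * S.i0) gkpi)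
      rw [p, i0, r0, ← map_mul, ← map_mul]
      exact congrArg S.phi (by decide +kernel)
  have hne : S.p ≠ S.i0 := fun e => absurd (S.inj e) (by decide +kernel)
  have hd2 : d = 1 ∨ d = S.p * S.i0 := by
    rcases hd4 with h | h | h | h
    · exact Or.inl h
    · rw [h, hX, inv_eq_of_mul_eq_one_right pp] at hcw
      exact absurd hcw.symm hne
    · rw [h, S.cw_i0 hX, inv_eq_of_mul_eq_one_right ii] at hcw
      exact absurd hcw hne
    · exact Or.inr h
  rcases hd2 with h | h
  · rw [commute_iff_eq]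
    calc S.g0 * S.k0 = S.g0 * S.k0 * S.g0 * S.k0 * (S.k0 * S.g0) := by
          rw [show S.g0 * S.k0 * S.g0 * S.k0 * (S.k0 * S.g0) =
            S.g0 * S.k0 * (S.g0 * (S.k0 * S.k0) * S.g0) by group, k2, mul_one, g2, mul_one]
      _ = S.k0 * S.g0 := by rw [← hd, h, one_mul]
  exfalso
  -- `g₀` centralises `z`, and `z k₀` has order five
  have gz : Commute S.g0 S.z := S.phi_commute (by decide +kernel)
  have hgkg : S.g0 * S.k0 * S.g0 = S.p * S.i0 * S.k0 := by
    rw [← h, hd, mul_assoc _ S.k0 S.k0, k2, mul_one]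
  have e5 : (S.z * S.k0) ^ 5 = 1 := by
    rw [show S.z = S.cw S.a from S.waw.symm, k0, ← map_mul, a, g0, ← map_mul, ← map_pow, ← map_pow,
      show (((1, a5) : M35) * (1, swap 0 3 * swap 1 4)) ^ 5 = 1 by decide +kernel, map_one, map_one]
  have e5' : (S.z * S.p * S.i0 * S.k0) ^ 5 = 1 := by
    have e : S.g0 * (S.z * S.k0) * S.g0⁻¹ = S.z * S.p * S.i0 * S.k0 := by
      rw [inv_eq_of_mul_eq_one_right g2, ← mul_assoc S.g0 S.z, gz.eq]
      calc S.z * S.g0 * S.k0 * S.g0 = S.z * (S.g0 * S.k0 * S.g0) := by group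
        _ = S.z * S.p * S.i0 * S.k0 := by rw [hgkg]; group
    rw [← e, conj_pow, e5, mul_one, mul_inv_cancel]
  have hi_comm : Commute S.i0 (S.z * S.p * S.k0) :=
    ((S.phi_commute (by decide +kernel) : Commute S.i0 S.z).mul_right ipc).mul_right ki.symm
  have e6 : S.z * S.p * S.i0 * S.k0 = S.i0 * (S.z * S.p * S.k0) := by
    calc S.z * S.p * S.i0 * S.k0 = S.z * S.p * (S.i0 * S.k0) := by group
      _ = S.z * S.p * S.k0 * S.i0 := by rw [ki.symm.eq]; group
      _ = _ := hi_comm.symm.eq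
  rw [e6, hi_comm.mul_pow, pow_succ S.i0 4, show 4 = 2 * 2 by rfl, pow_mul, pow_two S.i0, ii,
    one_pow, one_mul] at e5'
  have e7 := eq_inv_of_mul_eq_one_left e5'
  rw [← hX, show S.z = S.cw S.a from S.waw.symm, ← S.cw_i0 hX, k0, ← map_mul, ← map_mul,
    ← map_pow, ← map_inv] at e7
  have e8 := S.cw_inj e7
  rw [S.cw_i0 hX] at e8
  simp only [p, a, i0, g0, ← map_mul, ← map_pow, ← map_inv] at e8
  exact absurd (S.inj e8) (by decide +kernel)

end Setting

end CfsgLib.Recog.SymEight
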