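import Cfsg.Agent.Lib.Recog.SymEight.CaseXLocal
import Mathlib.GroupTheory.SpecificGroups.Alternating.Simple
import Mathlib.GroupTheory.NoncommPiCoprod

/-!
The second case: the subgroup `A₅ × A₅` and a subgroup of order 64.
-/

set_option autoImplicit false
set_option linter.style.haveILetI false
set_option synthInstance.maxSize 2000
set_option maxHeartbeats 1000000

namespace CfsgLib.Recog.SymEight

open Equiv Subgroup

/-- The alternating group of degree five. -/
abbrev A5 : Type := alternatingGroup (Fin 5)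

/-- The `3`-cycle in `A5`. -/
def ea : A5 := ⟨a5, Perm.mem_alternatingGroup.2 (by decide +kernel)⟩

/-- An involution in `A5`. -/
def eb : A5 := ⟨swap 0 1 * swap 3 4, Perm.mem_alternatingGroup.2 (by decide +kernel)⟩

/-- Another involution in `A5`. -/
def ec : A5 := ⟨swap 0 3 * swap 1 4, Perm.mem_alternatingGroup.2 (by decide +kernel)⟩

/-- Conjugation by the transposition `(34)`. -/
def flip5 : A5 →* A5 where
  toFun x := ⟨swap 3 4 * (x : Perm (Fin 5)) * swap 3 4, Perm.mem_alternatingGroup.2 (by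
    rw [map_mul, map_mul, Perm.mem_alternatingGroup.1 x.2,
      Perm.sign_swap (show (3 : Fin 5) ≠ 4 by decide)]
    decide)⟩
  map_one' := Subtype.ext (by simp)
  map_mul' x y := Subtype.ext (by
    show swap 3 4 * ((x : Perm (Fin 5)) * (y : Perm (Fin 5))) * swap 3 4 =
      swap 3 4 * (x : Perm (Fin 5)) * swap 3 4 * (swap 3 4 * (y : Perm (Fin 5)) * swap 3 4)
    simp only [mul_assoc, swap_mul_self_mul])

theorem A5_gen {T : Subgroup A5} (ha : ea ∈ T) (hb : eb ∈ T) (hc : ec ∈ T) : T = ⊤ := by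
  have h3 : 3 ∣ Nat.card T := by
    have h := T.orderOf_dvd_natCard ha
    rwa [orderOf_eq_prime (p := 3) (hp := ⟨Nat.prime_three⟩)
      (by decide +kernel : ea ^ 3 = 1) (by decide +kernel : ea ≠ 1)] at h
  have h5 : 5 ∣ Nat.card T := by
    have h := T.orderOf_dvd_natCard (mul_mem ha hc)
    rwa [orderOf_eq_prime (p := 5) (hp := ⟨Nat.prime_five⟩)
      (by decide +kernel : (ea * ec) ^ 5 = 1) (by decide +kernel : ea * ec ≠ 1)] at h
  have h4 : 4 ∣ Nat.card T := by
    let V : Subgroup A5 :=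
      { carrier := {x | x = 1 ∨ x = eb ∨ x = ec ∨ x = eb * ec}
        one_mem' := Or.inl rfl
        mul_mem' := by
          rintro x y (rfl | rfl | rfl | rfl) (rfl | rfl | rfl | rfl) <;>
            simp only [Set.mem_ofPred_eq] <;> decide +kernel
        inv_mem' := by
          rintro x (rfl | rfl | rfl | rfl) <;> simp only [Set.mem_ofPred_eq] <;> decide +kernel }
    have hV : V ≤ T := by
      rintro x (rfl | rfl | rfl | rfl)
      exacts [one_mem T, hb, hc, mul_mem hb hc]
    have h := card_dvd_of_le hV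
    rwa [show Nat.card V = 4 by
      show Nat.card {x : A5 // x = 1 ∨ x = eb ∨ x = ec ∨ x = eb * ec} = 4
      rw [Nat.card_eq_fintype_card]
      decide +kernel] at h
  refine T.eq_top_of_le_card ?_
  have h60 : 60 ∣ Nat.card T := by
    have := Nat.Coprime.mul_dvd_of_dvd_of_dvd (by norm_num : Nat.Coprime 4 15) h4
      (Nat.Coprime.mul_dvd_of_dvd_of_dvd (by norm_num : Nat.Coprime 3 5) h3 h5)
    simpa using this
  rw [Nat.card_eq_fintype_card (α := A5), show Fintype.card A5 = 60 by decide +kernel]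
  exact Nat.le_of_dvd Nat.card_pos h60

theorem A5_center (x : A5) (ha : x * ea = ea * x) (hb : x * eb = eb * x) : x = 1 := by
  revert x
  decide +kernel

/-- The four-group of `A5`. -/
def InV (x : A5) : Prop := x = 1 ∨ x = eb ∨ x = ec ∨ x = eb * ec

instance : DecidablePred InV := fun _ => inferInstanceAs (Decidable (_ ∨ _))

theorem InV.mul {x y : A5} (hx : InV x) (hy : InV y) : InV (x * y) := by
  rcases hx with rfl | rfl | rfl | rfl <;> rcases hy with rfl | rfl | rfl | rfl <;>
    decide +kernel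

theorem InV.flip {x : A5} (hx : InV x) : InV (flip5 x) := by
  rcases hx with rfl | rfl | rfl | rfl <;> decide +kernel

theorem InV.sq {x : A5} (hx : InV x) : x * x = 1 := by
  rcases hx with rfl | rfl | rfl | rfl <;> decide +kernel

theorem InV.comm {x y : A5} (hx : InV x) (hy : InV y) : x * y = y * x := by
  rcases hx with rfl | rfl | rfl | rfl <;> rcases hy with rfl | rfl | rfl | rfl <;>
    decide +kernel

/-- The data of the second case. -/
structure CopyX (G : Type*) [Group G] [Finite G] extends Setting G where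
  hX : toSetting.cw toSetting.p = toSetting.i0
  hN : ∀ g, Commute g toSetting.r0 → toSetting.Normalizes g

namespace CopyX

variable {G : Type*} [Group G] [Finite G] (C : CopyX G)

/-- The first factor. -/
def az : A5 →* G := C.phi.comp ((MonoidHom.inr _ _).comp (alternatingGroup (Fin 5)).subtype)

/-- The second factor. -/
def aa : A5 →* G := C.toSetting.cw.comp C.az

theorem az_apply (x : A5) : C.az x = C.phi (1, (x : Perm (Fin 5))) := rfl

theorem aa_apply (x : A5) : C.aa x = C.toSetting.cw (C.az x) := rfl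

theorem az_eb : C.az eb = C.toSetting.i0 := rfl

theorem aa_eb : C.aa eb = C.toSetting.p := C.toSetting.cw_i0 C.hX

theorem az_ec : C.az ec = C.toSetting.g0 := rfl

theorem aa_ec : C.aa ec = C.toSetting.k0 := rfl

theorem az_ea : C.az ea = C.toSetting.a := rfl

theorem aa_ea : C.aa ea = C.toSetting.z := C.toSetting.waw

theorem az_inj : Function.Injective C.az := fun x y h =>
  Subtype.ext (congrArg Prod.snd (C.inj h))

theorem aa_inj : Function.Injective C.aa := C.toSetting.cw_inj.comp C.az_inj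

theorem gens_commute {x : A5} (hx : x = ea ∨ x = eb ∨ x = ec) {y : A5}
    (hy : y = ea ∨ y = eb ∨ y = ec) : Commute (C.az x) (C.aa y) := by
  set S := C.toSetting
  rcases hx with rfl | rfl | rfl <;> rcases hy with rfl | rfl | rfl
  all_goals simp only [C.az_ea, C.az_eb, C.az_ec, C.aa_ea, C.aa_eb, C.aa_ec]
  · exact S.phi_commute (by decide +kernel)
  · exact S.phi_commute (by decide +kernel)
  · rw [show S.a = S.cw S.z from S.wzw.symm]
    exact (S.phi_commute (by decide +kernel) : Commute S.z S.g0).map S.cw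
  · exact S.phi_commute (by decide +kernel)
  · exact S.phi_commute (by decide +kernel)
  · rw [← C.hX]
    exact (S.phi_commute (by decide +kernel) : Commute S.p S.g0).map S.cw
  · exact S.phi_commute (by decide +kernel)
  · exact S.phi_commute (by decide +kernel)
  · exact S.g0_comm_k0 C.hX C.hN

theorem factors_commute (x y : A5) : Commute (C.az x) (C.aa y) := by
  have h : ∀ y : A5, (y = ea ∨ y = eb ∨ y = ec) → ∀ x, Commute (C.az x) (C.aa y) := by
    intro y hy x
    have hm : ∀ x : A5, (x = ea ∨ x = eb ∨ x = ec) →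
        x ∈ (centralizer ({C.aa y} : Set G)).comap C.az := fun x hx =>
      mem_centralizer_singleton_iff.2 (C.gens_commute hx hy).eq
    have := A5_gen (hm ea (by simp)) (hm eb (by simp)) (hm ec (by simp))
    exact mem_centralizer_singleton_iff.1 (this.ge (mem_top x))
  have hm : ∀ y : A5, (y = ea ∨ y = eb ∨ y = ec) →
      y ∈ (centralizer ({C.az x} : Set G)).comap C.aa := fun y hy =>
    mem_centralizer_singleton_iff.2 (h y hy x).eq.symm
  have := A5_gen (hm ea (by simp)) (hm eb (by simp)) (hm ec (by simp))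
  exact (show Commute (C.aa y) (C.az x) from
    mem_centralizer_singleton_iff.1 (this.ge (mem_top y))).symm

/-- The product of the two factors. -/
def Phi : A5 × A5 →* G := C.az.noncommCoprod C.aa C.factors_commute

theorem Phi_apply (v : A5 × A5) : C.Phi v = C.az v.1 * C.aa v.2 := rfl

theorem Phi_inj : Function.Injective C.Phi := by
  refine (MonoidHom.ker_eq_bot_iff _).1 (eq_bot_iff.2 fun v hv => mem_bot.2 ?_)
  rw [MonoidHom.mem_ker, Phi_apply] at hv
  have h1 : ∀ y : A5, Commute (C.az v.1) (C.az y) := fun y => by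
    rw [eq_inv_of_mul_eq_one_left hv]
    exact (C.factors_commute y v.2).symm.inv_left
  have hx : v.1 = 1 := A5_center v.1 (C.az_inj (by rw [map_mul, map_mul]; exact (h1 ea).eq))
    (C.az_inj (by rw [map_mul, map_mul]; exact (h1 eb).eq))
  rw [hx, map_one, one_mul] at hv
  exact Prod.ext hx (C.aa_inj (hv.trans (map_one _).symm))

theorem w_Phi (v : A5 × A5) : C.toSetting.cw (C.Phi v) = C.Phi (v.2, v.1) := by
  rw [Phi_apply, Phi_apply, map_mul, aa_apply, C.toSetting.cw_cw, ← aa_apply]
  exact (C.factors_commute v.2 v.1).eq.symm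

/-- Conjugation by `r₀`. -/
def cr : G →* G where
  toFun x := C.toSetting.r0 * x * C.toSetting.r0
  map_one' := by rw [mul_one, C.toSetting.r0_sq]
  map_mul' x y := by
    calc C.toSetting.r0 * (x * y) * C.toSetting.r0
        = C.toSetting.r0 * x * (C.toSetting.r0 * C.toSetting.r0) * y * C.toSetting.r0 := by
          rw [C.toSetting.r0_sq]; group
      _ = _ := by group

theorem cr_apply (x : G) : C.cr x = C.toSetting.r0 * x * C.toSetting.r0 := rfl

theorem cr_Phi (v : A5 × A5) : C.cr (C.Phi v) = C.Phi (flip5 v.1, flip5 v.2) := by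
  have h1 : ∀ x : A5, C.cr (C.az x) = C.az (flip5 x) := by
    intro x
    rw [cr_apply, az_apply, az_apply, Setting.r0, ← map_mul, ← map_mul]
    exact congrArg C.phi (by simp [flip5, Prod.ext_iff])
  have h2 : ∀ x : A5, C.cr (C.aa x) = C.aa (flip5 x) := by
    intro x
    rw [aa_apply, aa_apply, ← h1, cr_apply, cr_apply, map_mul, map_mul, C.toSetting.cw_r0]
  rw [Phi_apply, Phi_apply, map_mul, h1, h2]

/-- The normal subgroup to be identified. -/
def N0 : Subgroup G := C.Phi.range

theorem y_eq : C.toSetting.y = C.Phi (ea, ea) := by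
  rw [Phi_apply, az_ea, aa_ea, C.toSetting.a_mul_z]

/-- The four coset representatives of `N₀`. -/
def reps : List G := [1, C.toSetting.r0, C.toSetting.w, C.toSetting.r0 * C.toSetting.w]

theorem rep_comm_y {h : G} (hh : h ∈ C.reps) : Commute h C.toSetting.y := by
  have hr : Commute C.toSetting.r0 C.toSetting.y := by
    rw [← C.toSetting.z_mul_a]
    exact C.toSetting.r0_comm_z.mul_right C.toSetting.r0_comm_a
  simp only [reps, List.mem_cons, List.not_mem_nil, or_false] at hh
  rcases hh with rfl | rfl | rfl | rfl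
  exacts [Commute.one_left _, hr, C.toSetting.w_comm_y, hr.mul_left C.toSetting.w_comm_y]

theorem rw_ne : C.toSetting.r0 * C.toSetting.w ≠ 1 := by
  intro e
  refine C.toSetting.w_not_range_NK (x := ((1, swap 3 4) : M35)) ?_
  rw [← inv_eq_of_mul_eq_one_right e, inv_eq_of_mul_eq_one_right C.toSetting.r0_sq]
  rfl

theorem rep_sq {h : G} (hh : h ∈ C.reps) : h * h = 1 := by
  simp only [reps, List.mem_cons, List.not_mem_nil, or_false] at hh
  rcases hh with rfl | rfl | rfl | rfl
  · exact one_mul 1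
  · exact C.toSetting.r0_sq
  · exact C.toSetting.ww
  · calc C.toSetting.r0 * C.toSetting.w * (C.toSetting.r0 * C.toSetting.w)
        = C.toSetting.r0 * (C.toSetting.w * C.toSetting.r0) * C.toSetting.w := by group
      _ = C.toSetting.r0 * C.toSetting.r0 * (C.toSetting.w * C.toSetting.w) := by
        rw [C.toSetting.w_comm_r0.eq]; group
      _ = 1 := by rw [C.toSetting.r0_sq, C.toSetting.ww, one_mul]

theorem rep_mul {h h' : G} (hh : h ∈ C.reps) (hh' : h' ∈ C.reps) : h * h' ∈ C.reps := by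
  have hr := C.toSetting.r0_sq
  have hw := C.toSetting.ww
  have hc : C.toSetting.w * C.toSetting.r0 = C.toSetting.r0 * C.toSetting.w :=
    C.toSetting.w_comm_r0.eq
  have a1 : C.toSetting.r0 * (C.toSetting.r0 * C.toSetting.w) = C.toSetting.w := by
    rw [← mul_assoc, hr, one_mul]
  have a2 : C.toSetting.r0 * C.toSetting.w * C.toSetting.w = C.toSetting.r0 := by
    rw [mul_assoc, hw, mul_one]
  have a3 : C.toSetting.w * (C.toSetting.r0 * C.toSetting.w) = C.toSetting.r0 := by
    rw [← mul_assoc, hc, a2]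
  have a4 : C.toSetting.r0 * C.toSetting.w * C.toSetting.r0 = C.toSetting.w := by
    rw [mul_assoc, hc, a1]
  have a5 := C.rep_sq (h := C.toSetting.r0 * C.toSetting.w) (by simp [reps])
  simp only [reps, List.mem_cons, List.not_mem_nil, or_false] at hh hh' ⊢
  rcases hh with rfl | rfl | rfl | rfl <;> rcases hh' with rfl | rfl | rfl | rfl <;>
    simp only [one_mul, mul_one, hr, hw, hc, a1, a2, a3, a4, a5, true_or, or_true]

theorem rep_notMem {h : G} (hh : h ∈ C.reps) (h1 : h ≠ 1) : h ∉ C.N0 := by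
  rintro ⟨v, hv⟩
  have hc := C.rep_comm_y hh
  rw [← hv, C.y_eq, commute_iff_eq, ← map_mul, ← map_mul] at hc
  have h2 := C.Phi_inj hc
  have hsq : v * v = 1 := C.Phi_inj (by rw [map_mul, map_one, hv, C.rep_sq hh])
  have key : ∀ x : A5, x * ea = ea * x → x * x = 1 → x = 1 := by decide +kernel
  refine h1 ?_
  rw [← hv, show v = 1 from Prod.ext (key v.1 (congrArg Prod.fst h2) (congrArg Prod.fst hsq))
    (key v.2 (congrArg Prod.snd h2) (congrArg Prod.snd hsq)), map_one]

theorem rep_unique {v v' : A5 × A5} {h h' : G} (hh : h ∈ C.reps) (hh' : h' ∈ C.reps)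
    (e : C.Phi v * h = C.Phi v' * h') : v = v' ∧ h = h' := by
  have e2 : h * h' = C.Phi (v⁻¹ * v') := by
    calc h * h' = (C.Phi v)⁻¹ * (C.Phi v * h) * h' := by group
      _ = (C.Phi v)⁻¹ * C.Phi v' * (h' * h') := by rw [e]; group
      _ = C.Phi (v⁻¹ * v') := by rw [C.rep_sq hh', mul_one, map_mul, map_inv]
  have e3 : h * h' = 1 := by
    by_contra hne
    exact C.rep_notMem (C.rep_mul hh hh') hne ⟨_, e2.symm⟩
  have e4 : h = h' := (eq_inv_of_mul_eq_one_left e3).trans (inv_eq_of_mul_eq_one_right (C.rep_sq hh'))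
  subst e4
  exact ⟨C.Phi_inj (mul_right_cancel e), rfl⟩

theorem rep_conj {h : G} (hh : h ∈ C.reps) (v : A5 × A5) (hv : InV v.1 ∧ InV v.2) :
    ∃ v' : A5 × A5, (InV v'.1 ∧ InV v'.2) ∧ h * C.Phi v = C.Phi v' * h := by
  have hw : ∀ v : A5 × A5, C.toSetting.w * C.Phi v = C.Phi (v.2, v.1) * C.toSetting.w := by
    intro v
    rw [← C.w_Phi v, C.toSetting.cw_apply, mul_assoc _ C.toSetting.w, C.toSetting.ww, mul_one]
  have hr : ∀ v : A5 × A5, C.toSetting.r0 * C.Phi v =
      C.Phi (flip5 v.1, flip5 v.2) * C.toSetting.r0 := by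
    intro v
    rw [← C.cr_Phi v, cr_apply, mul_assoc _ C.toSetting.r0, C.toSetting.r0_sq, mul_one]
  simp only [reps, List.mem_cons, List.not_mem_nil, or_false] at hh
  rcases hh with rfl | rfl | rfl | rfl
  · exact ⟨v, hv, by rw [one_mul, mul_one]⟩
  · exact ⟨_, ⟨hv.1.flip, hv.2.flip⟩, hr v⟩
  · exact ⟨_, ⟨hv.2, hv.1⟩, hw v⟩
  · exact ⟨_, ⟨hv.2.flip, hv.1.flip⟩,
      by rw [mul_assoc, hw, ← mul_assoc, hr, mul_assoc]⟩

/-- The subgroup of order 64. -/
def SS : Subgroup G where
  carrier := {x | ∃ v : A5 × A5, (InV v.1 ∧ InV v.2) ∧ ∃ h ∈ C.reps, x = C.Phi v * h}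
  one_mem' := ⟨1, ⟨Or.inl rfl, Or.inl rfl⟩, 1, by simp [reps], by rw [map_one, one_mul]⟩
  mul_mem' := by
    rintro x y ⟨v, hv, h, hh, rfl⟩ ⟨v', hv', h', hh', rfl⟩
    obtain ⟨v'', hv'', e⟩ := C.rep_conj hh v' hv'
    refine ⟨v * v'', ⟨hv.1.mul hv''.1, hv.2.mul hv''.2⟩, h * h', C.rep_mul hh hh', ?_⟩
    calc C.Phi v * h * (C.Phi v' * h') = C.Phi v * (h * C.Phi v') * h' := by group
      _ = C.Phi (v * v'') * (h * h') := by rw [e, map_mul]; group
  inv_mem' := by
    rintro x ⟨v, hv, h, hh, rfl⟩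
    obtain ⟨v', hv', e⟩ := C.rep_conj hh v hv
    refine ⟨v', hv', h, hh, ?_⟩
    rw [mul_inv_rev, inv_eq_of_mul_eq_one_right (C.rep_sq hh), ← map_inv,
      show v⁻¹ = v from inv_eq_of_mul_eq_one_right (Prod.ext hv.1.sq hv.2.sq)]
    exact e

theorem card_SS : Nat.card C.SS = 64 := by
  let T := {v : A5 × A5 // InV v.1 ∧ InV v.2}
  have hreps : ∀ i : Fin 4, C.reps.getD i.val 1 ∈ C.reps := by
    intro i
    fin_cases i <;> simp [reps]
  let F : T × Fin 4 → C.SS := fun q =>
    ⟨C.Phi q.1.1 * C.reps.getD q.2.val 1, q.1.1, q.1.2, _, hreps q.2, rfl⟩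
  have hne : ∀ i j : Fin 4, C.reps.getD i.val 1 = C.reps.getD j.val 1 → i = j := by
    have h1 : C.toSetting.r0 ≠ 1 := fun e => by
      have := C.toSetting.r0_order
      rw [e, orderOf_one] at this
      norm_num at this
    have h2 : C.toSetting.w ≠ 1 := fun e =>
      C.toSetting.w_not_range_NK (x := 1) (by rw [map_one, e])
    have h3 := C.rw_ne
    have h4 : C.toSetting.r0 ≠ C.toSetting.w := fun e => h3 (by rw [e, C.toSetting.ww])
    intro i j e
    fin_cases i <;> fin_cases j <;>
      simp [reps, h1, h2, h3, h4, h1.symm, h2.symm, h3.symm, h4.symm] at e ⊢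
  have hF : Function.Bijective F := by
    refine ⟨fun q q' e => ?_, fun x => ?_⟩
    · obtain ⟨e1, e2⟩ := C.rep_unique (hreps q.2) (hreps q'.2) (congrArg Subtype.val e)
      exact Prod.ext (Subtype.ext e1) (hne _ _ e2)
    · obtain ⟨v, hv, h, hh, hx⟩ := x.2
      obtain ⟨i, hi, hi'⟩ := List.mem_iff_getElem.1 hh
      exact ⟨(⟨v, hv⟩, ⟨i, by simpa [reps] using hi⟩), Subtype.ext (by
        show C.Phi v * C.reps.getD i 1 = x
        rw [List.getD_eq_getElem _ _ hi, hi', hx])⟩
  rw [← Nat.card_eq_of_bijective F hF, Nat.card_prod, Nat.card_eq_fintype_card (α := Fin 4),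
    Fintype.card_fin, Nat.card_eq_fintype_card (α := T),
    show Fintype.card T = 16 by decide +kernel]

theorem InV_mem_SS {v : A5 × A5} (hv : InV v.1 ∧ InV v.2) : C.Phi v ∈ C.SS :=
  ⟨v, hv, 1, by simp [reps], (mul_one _).symm⟩

theorem rep_mem_SS {h : G} (hh : h ∈ C.reps) : h ∈ C.SS :=
  ⟨1, ⟨Or.inl rfl, Or.inl rfl⟩, h, hh, by rw [map_one, one_mul]⟩

end CopyX

end CfsgLib.Recog.SymEight
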