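import Cfsg.Agent.Lib.Recog.SymEight.CaseXModel
import Cfsg.Agent.Lib.Recog.SymEight.Tools
import Cfsg.Agent.Lib.Transfer.Thompson

/-!
The second case: the Sylow `2`-subgroup and the normal subgroup of index four.
-/

set_option autoImplicit false
set_option linter.style.haveILetI false
set_option synthInstance.maxSize 2000
set_option maxHeartbeats 1000000

namespace CfsgLib.Recog.SymEight

open Equiv Subgroup

theorem A5_invol_conj (x : A5) (h : x * x = 1) (h1 : x ≠ 1) : ∃ u : A5, u * eb * u⁻¹ = x := by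
  revert x
  decide +kernel

/-- A group element normalising a Sylow subgroup without being in it gives a larger one. -/
theorem exists_normalizing {G : Type*} [Group G] [Finite G] {p : ℕ} [Fact p.Prime]
    {Q R : Subgroup G} (hQ : IsPGroup p Q) (hRQ : R < Q) :
    ∃ q ∈ Q, q ∉ R ∧ ∀ r ∈ R, q * r * q⁻¹ ∈ R := by
  haveI := hQ.isNilpotent
  have hlt : R.subgroupOf Q < ⊤ := by
    refine lt_top_iff_ne_top.2 fun h => hRQ.not_ge ?_
    exact subgroupOf_eq_top.1 h
  obtain ⟨q, hq, hqR⟩ := SetLike.exists_of_lt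
    (Group.normalizerCondition_of_isNilpotent (R.subgroupOf Q) hlt)
  refine ⟨q, q.2, fun h => hqR (mem_subgroupOf.2 h), fun r hr => ?_⟩
  have := (mem_normalizer_iff.1 hq ⟨r, hRQ.le hr⟩).1 (mem_subgroupOf.2 hr)
  rwa [mem_subgroupOf] at this

namespace CopyX

variable {G : Type*} [Group G] [Finite G] (C : CopyX G)

/-- The central involution of `SS`. -/
def mid : G := C.Phi (eb, eb)

theorem mid_eq : C.mid = C.phi (swap 0 1, swap 0 1 * swap 3 4) := by
  rw [mid, Phi_apply, az_eb, aa_eb, Setting.i0, Setting.p, ← map_mul]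
  exact congrArg C.phi (by decide +kernel)

theorem isConj_i0_p : IsConj C.toSetting.i0 C.toSetting.p :=
  isConj_iff.2 ⟨C.toSetting.w, by
    rw [C.toSetting.w_inv]; exact C.toSetting.cw_i0 C.hX⟩

theorem conj_left {x : A5} (h : x * x = 1) (h1 : x ≠ 1) : IsConj C.toSetting.p (C.Phi (x, 1)) := by
  obtain ⟨u, hu⟩ := A5_invol_conj x h h1
  refine C.isConj_i0_p.symm.trans (isConj_iff.2 ⟨C.Phi (u, 1), ?_⟩)
  rw [show C.toSetting.i0 = C.Phi (eb, 1) by rw [Phi_apply, az_eb, map_one, mul_one],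
    ← map_inv, ← map_mul, ← map_mul]
  exact congrArg C.Phi (by simp [hu])

theorem conj_right {x : A5} (h : x * x = 1) (h1 : x ≠ 1) : IsConj C.toSetting.p (C.Phi (1, x)) := by
  refine (C.conj_left h h1).trans (isConj_iff.2 ⟨C.toSetting.w, ?_⟩)
  rw [C.toSetting.w_inv]
  exact C.w_Phi (x, 1)

theorem conj_both {x y : A5} (h : x * x = 1) (h1 : x ≠ 1) (k : y * y = 1) (k1 : y ≠ 1) :
    IsConj C.mid (C.Phi (x, y)) := by
  obtain ⟨u, hu⟩ := A5_invol_conj x h h1
  obtain ⟨v, hv⟩ := A5_invol_conj y k k1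
  refine isConj_iff.2 ⟨C.Phi (u, v), ?_⟩
  rw [mid, ← map_inv, ← map_mul, ← map_mul]
  exact congrArg C.Phi (by simp [hu, hv])

theorem card_cent_r0_le : Nat.card (centralizer ({C.toSetting.r0} : Set G)) ≤ 144 := by
  have hex : ∀ g : centralizer ({C.toSetting.r0} : Set G), ∃ q : Bool × {x : M35 // NK x.2},
      (g : G) = bif q.1 then C.phi q.2.1 else C.toSetting.w * C.phi q.2.1 := by
    intro g
    obtain ⟨x, hx, e⟩ :=
      C.toSetting.normalizes_form (C.hN g (mem_centralizer_singleton_iff.1 g.2))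
    rcases e with e | e
    · exact ⟨(true, ⟨x, hx⟩), e⟩
    · exact ⟨(false, ⟨x, hx⟩), e⟩
  choose F hF using hex
  have h := Nat.card_le_card_of_injective F fun a b e => Subtype.ext (by rw [hF a, e, ← hF b])
  rw [Nat.card_prod, card_NK, Nat.card_eq_fintype_card (α := Bool), Fintype.card_bool] at h
  exact h

theorem SS_le_cent_mid : C.SS ≤ centralizer ({C.mid} : Set G) := by
  rintro x ⟨v, hv, h, hh, rfl⟩
  refine mul_mem (mem_centralizer_singleton_iff.2 ?_) (mem_centralizer_singleton_iff.2 ?_)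
  · rw [mid, ← map_mul, ← map_mul]
    exact congrArg C.Phi (Prod.ext (hv.1.comm (Or.inr (Or.inl rfl)))
      (hv.2.comm (Or.inr (Or.inl rfl))))
  · have hr : Commute C.toSetting.r0 C.mid := by
      rw [mid_eq]
      exact C.toSetting.phi_commute (by decide +kernel)
    have hw : Commute C.toSetting.w C.mid := by
      have e := C.w_Phi (eb, eb)
      rw [C.toSetting.cw_apply] at e
      calc C.toSetting.w * C.mid = C.toSetting.w * C.mid * C.toSetting.w * C.toSetting.w := by
            rw [mul_assoc _ C.toSetting.w, C.toSetting.ww, mul_one]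
        _ = C.mid * C.toSetting.w := by rw [show C.toSetting.w * C.mid * C.toSetting.w = C.mid from e]
    simp only [reps, List.mem_cons, List.not_mem_nil, or_false] at hh
    rcases hh with rfl | rfl | rfl | rfl
    exacts [(Commute.one_left _).eq, hr.eq, hw.eq, (hr.mul_left hw).eq]

theorem mid_not_T3 : ¬ IsConj C.toSetting.r0 C.mid := by
  intro h
  obtain ⟨g, hg⟩ := isConj_iff.1 h
  have e := card_centralizer_conj g C.toSetting.r0
  rw [hg] at e
  have h64 : 64 ∣ Nat.card (centralizer ({C.toSetting.r0} : Set G)) := by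
    rw [← e, ← C.card_SS]
    exact card_dvd_of_le C.SS_le_cent_mid
  have h9 : 9 ∣ Nat.card (centralizer ({C.toSetting.r0} : Set G)) := by
    rw [← C.toSetting.card_D]
    refine card_dvd_of_le fun d hd => mem_centralizer_singleton_iff.2 ?_
    exact (C.toSetting.normalizes_comm_r0 fun e he => by
      rw [(C.toSetting.D_comm hd he).eq, mul_inv_cancel_right]; exact he).eq
  have h576 := Nat.le_of_dvd Nat.card_pos
    (Nat.Coprime.mul_dvd_of_dvd_of_dvd (by norm_num : Nat.Coprime 64 9) h64 h9)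
  have := C.card_cent_r0_le
  omega

theorem rep_eq_of_comm_y {h : G} (hh : h ∈ C.reps) (hT : IsConj C.toSetting.r0 h) :
    h = C.toSetting.r0 :=
  C.toSetting.eq_r0_of_comm_y hT (C.rep_comm_y hh)

/-- The conjugates of `r₀` in `SS`. -/
theorem T3_SS {x : G} (hx : x ∈ C.SS) (hT : IsConj C.toSetting.r0 x) :
    ∃ v : A5 × A5, ((v.1 = 1 ∨ v.1 = eb) ∧ (v.2 = 1 ∨ v.2 = eb)) ∧
      x = C.Phi v * C.toSetting.r0 := by
  obtain ⟨v, hv, h, hh, rfl⟩ := hx
  have hxx : C.Phi v * h * (C.Phi v * h) = 1 := by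
    rw [← pow_two, ← C.toSetting.r0_order, ← CfsgLib.Invol.orderOf_eq_of_isConj hT,
      pow_orderOf_eq_one]
  have hne : C.toSetting.w ≠ C.toSetting.r0 := C.toSetting.w_not_range_NK (x := (1, swap 3 4))
  have hh' := hh
  simp only [reps, List.mem_cons, List.not_mem_nil, or_false] at hh
  rcases hh with rfl | rfl | rfl | rfl
  · exfalso
    rw [mul_one] at hT
    obtain ⟨v1, v2⟩ := v
    obtain ⟨h1, h2⟩ := hv
    by_cases e1 : v1 = 1
    · by_cases e2 : v2 = 1
      · have := CfsgLib.Invol.orderOf_eq_of_isConj hT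
        rw [e1, e2, show ((1 : A5), (1 : A5)) = 1 from rfl, map_one, orderOf_one,
          C.toSetting.r0_order] at this
        norm_num at this
      · subst e1
        exact C.toSetting.p_not_T3 C.hX (hT.trans (C.conj_right h2.sq e2).symm)
    · by_cases e2 : v2 = 1
      · subst e2
        exact C.toSetting.p_not_T3 C.hX (hT.trans (C.conj_left h1.sq e1).symm)
      · exact C.mid_not_T3 (hT.trans (C.conj_both h1.sq e1 h2.sq e2).symm)
  · refine ⟨v, ?_, rfl⟩
    have e : C.Phi (v * (flip5 v.1, flip5 v.2)) = 1 := by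
      rw [map_mul, ← C.cr_Phi v, cr_apply]
      simpa only [mul_assoc] using hxx
    have e' := C.Phi_inj (e.trans (map_one C.Phi).symm)
    have key : ∀ a : A5, InV a → a * flip5 a = 1 → a = 1 ∨ a = eb := by decide +kernel
    exact ⟨key v.1 hv.1 (congrArg Prod.fst e'), key v.2 hv.2 (congrArg Prod.snd e')⟩
  · exfalso
    have e : C.Phi (v * (v.2, v.1)) = 1 := by
      rw [map_mul, ← C.w_Phi v, C.toSetting.cw_apply]
      simpa only [mul_assoc] using hxx
    have e' := congrArg Prod.fst (C.Phi_inj (e.trans (map_one C.Phi).symm))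
    have hv12 : v.2 = v.1 := by
      rw [← inv_eq_of_mul_eq_one_right hv.1.sq]
      exact eq_inv_of_mul_eq_one_right e'
    refine hne (C.rep_eq_of_comm_y hh' (hT.trans (isConj_iff.2 ⟨C.Phi (v.1, 1), ?_⟩)))
    have e2 : C.toSetting.w * C.Phi (v.1, 1) = C.Phi (1, v.1) * C.toSetting.w := by
      rw [← C.w_Phi (v.1, 1), C.toSetting.cw_apply, mul_assoc _ C.toSetting.w, C.toSetting.ww,
        mul_one]
    calc C.Phi (v.1, 1) * (C.Phi v * C.toSetting.w) * (C.Phi (v.1, 1))⁻¹
        = C.Phi (v.1, 1) * C.Phi v * (C.toSetting.w * C.Phi (v.1, 1)) := by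
          rw [← map_inv, show ((v.1, 1) : A5 × A5)⁻¹ = (v.1, 1) from
            inv_eq_of_mul_eq_one_right (Prod.ext hv.1.sq (one_mul _))]
          group
      _ = C.Phi ((v.1, 1) * v * (1, v.1)) * C.toSetting.w := by
        rw [e2, map_mul, map_mul]; group
      _ = C.toSetting.w := by
        rw [show ((v.1, 1) : A5 × A5) * v * (1, v.1) = 1 from Prod.ext
          (show v.1 * v.1 * 1 = 1 by rw [mul_one, hv.1.sq])
          (show 1 * v.2 * v.1 = 1 by rw [one_mul, hv12, hv.1.sq]), map_one, one_mul]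
  · exfalso
    set u := C.toSetting.r0 * C.toSetting.w with hu
    have hconj : ∀ a : A5 × A5, u * C.Phi a = C.Phi (flip5 a.2, flip5 a.1) * u := by
      intro a
      have hw : C.toSetting.w * C.Phi a = C.Phi (a.2, a.1) * C.toSetting.w := by
        rw [← C.w_Phi a, C.toSetting.cw_apply, mul_assoc _ C.toSetting.w, C.toSetting.ww, mul_one]
      have hr : C.toSetting.r0 * C.Phi (a.2, a.1) =
          C.Phi (flip5 a.2, flip5 a.1) * C.toSetting.r0 := by
        rw [← C.cr_Phi (a.2, a.1), cr_apply, mul_assoc _ C.toSetting.r0, C.toSetting.r0_sq, mul_one]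
      rw [hu, mul_assoc, hw, ← mul_assoc, hr, mul_assoc]
    have e : C.Phi (v * (flip5 v.2, flip5 v.1)) = 1 := by
      calc C.Phi (v * (flip5 v.2, flip5 v.1)) = C.Phi v * (C.Phi (flip5 v.2, flip5 v.1) * u) * u := by
            rw [map_mul, mul_assoc (C.Phi v), mul_assoc _ u, C.rep_sq hh', mul_one]
        _ = C.Phi v * u * (C.Phi v * u) := by rw [← hconj]; group
        _ = 1 := hxx
    have e' := congrArg Prod.fst (C.Phi_inj (e.trans (map_one C.Phi).symm))
    have hv12 : flip5 v.2 = v.1 := by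
      rw [← inv_eq_of_mul_eq_one_right hv.1.sq]
      exact eq_inv_of_mul_eq_one_right e'
    have hne' : u ≠ C.toSetting.r0 := fun e => by
      rw [hu, mul_eq_left] at e
      exact C.toSetting.w_not_range_NK (x := 1) (by rw [map_one, e])
    refine hne' (C.rep_eq_of_comm_y hh' (hT.trans (isConj_iff.2 ⟨C.Phi (v.1, 1), ?_⟩)))
    have hback : v.2 = flip5 v.1 := by
      rw [← hv12]
      exact (by decide +kernel : ∀ a : A5, a = flip5 (flip5 a)) v.2
    calc C.Phi (v.1, 1) * (C.Phi v * u) * (C.Phi (v.1, 1))⁻¹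
        = C.Phi (v.1, 1) * C.Phi v * (u * C.Phi (v.1, 1)) := by
          rw [← map_inv, show ((v.1, 1) : A5 × A5)⁻¹ = (v.1, 1) from
            inv_eq_of_mul_eq_one_right (Prod.ext hv.1.sq (one_mul _))]
          group
      _ = C.Phi ((v.1, 1) * v * (flip5 1, flip5 v.1)) * u := by
        rw [hconj, map_mul, map_mul]; group
      _ = u := by
        rw [show ((v.1, 1) : A5 × A5) * v * (flip5 1, flip5 v.1) = 1 from Prod.ext
          (show v.1 * v.1 * flip5 1 = 1 by rw [map_one, mul_one, hv.1.sq])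
          (show 1 * v.2 * flip5 v.1 = 1 by
            rw [one_mul, ← hback]; exact hv.2.sq), map_one, one_mul]

/-- The four conjugates of `r₀` in the model. -/
theorem T3_SS_model {x : G} (hx : x ∈ C.SS) (hT : IsConj C.toSetting.r0 x) :
    ∃ m ∈ ([(1, swap 3 4), (1, swap 0 1), (swap 0 1, swap 3 4), (swap 0 1, swap 0 1)] : List M35),
      x = C.phi m := by
  obtain ⟨⟨v1, v2⟩, ⟨h1, h2⟩, rfl⟩ := C.T3_SS hx hT
  rcases h1 with e | e <;> change v1 = _ at e <;> subst e <;>
    rcases h2 with e | e <;> change v2 = _ at e <;> subst e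
  all_goals simp only [Phi_apply, map_one, one_mul, mul_one, az_eb, aa_eb, Setting.i0, Setting.p,
    Setting.r0, ← map_mul]
  · exact ⟨_, by simp, rfl⟩
  · exact ⟨(swap 0 1, swap 3 4), by simp, congrArg C.phi (by decide +kernel)⟩
  · exact ⟨(1, swap 0 1), by simp, congrArg C.phi (by decide +kernel)⟩
  · exact ⟨(swap 0 1, swap 0 1), by simp, congrArg C.phi (by decide +kernel)⟩

theorem conj_F4 (v : A5 × A5) (h : (v.1 = 1 ∨ v.1 = eb) ∧ (v.2 = 1 ∨ v.2 = eb)) :
    ∃ u : A5 × A5, (InV u.1 ∧ InV u.2) ∧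
      C.Phi u * C.toSetting.r0 * (C.Phi u)⁻¹ = C.Phi v * C.toSetting.r0 := by
  have key : ∀ a : A5, (a = 1 ∨ a = eb) → ∃ b : A5, InV b ∧ b * flip5 b = a := by decide +kernel
  obtain ⟨b1, hb1, e1⟩ := key v.1 h.1
  obtain ⟨b2, hb2, e2⟩ := key v.2 h.2
  refine ⟨(b1, b2), ⟨hb1, hb2⟩, ?_⟩
  rw [← map_inv, show ((b1, b2) : A5 × A5)⁻¹ = (b1, b2) from
    inv_eq_of_mul_eq_one_right (Prod.ext hb1.sq hb2.sq)]
  calc C.Phi (b1, b2) * C.toSetting.r0 * C.Phi (b1, b2)
      = C.Phi (b1, b2) * C.cr (C.Phi (b1, b2)) * C.toSetting.r0 := by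
        rw [cr_apply]
        calc C.Phi (b1, b2) * C.toSetting.r0 * C.Phi (b1, b2)
            = C.Phi (b1, b2) * C.toSetting.r0 * C.Phi (b1, b2) *
                (C.toSetting.r0 * C.toSetting.r0) := by rw [C.toSetting.r0_sq, mul_one]
          _ = _ := by group
    _ = C.Phi v * C.toSetting.r0 := by
      rw [C.cr_Phi, ← map_mul]
      exact congrArg (fun t => C.Phi t * C.toSetting.r0) (Prod.ext e1 e2)

/-- An element moving the four conjugates of `r₀` into `SS` lies in `SS`. -/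
theorem mem_SS_of_T3 {n : G}
    (hn : ∀ x ∈ C.SS, IsConj C.toSetting.r0 x → n * x * n⁻¹ ∈ C.SS) : n ∈ C.SS := by
  have hr : C.toSetting.r0 ∈ C.SS := C.rep_mem_SS (by simp [reps])
  have conjT : ∀ (g : G) {x : G}, IsConj C.toSetting.r0 x → IsConj C.toSetting.r0 (g * x * g⁻¹) :=
    fun g _ hx => hx.trans (isConj_iff.2 ⟨g, rfl⟩)
  obtain ⟨v, hv, e⟩ := C.T3_SS (hn _ hr (IsConj.refl _)) (conjT n (IsConj.refl _))
  obtain ⟨u, hu, eu⟩ := C.conj_F4 v hv
  set n' := (C.Phi u)⁻¹ * n
  have hn'r : Commute n' C.toSetting.r0 := by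
    refine mul_inv_eq_iff_eq_mul.1 ?_
    calc n' * C.toSetting.r0 * n'⁻¹
        = (C.Phi u)⁻¹ * (n * C.toSetting.r0 * n⁻¹) * C.Phi u := by simp only [n']; group
      _ = C.toSetting.r0 := by rw [e, ← eu]; group
  have hu' : C.Phi u ∈ C.SS := C.InV_mem_SS hu
  have hn' : ∀ x ∈ C.SS, IsConj C.toSetting.r0 x → n' * x * n'⁻¹ ∈ C.SS := by
    intro x hx hT
    have := mul_mem (mul_mem (inv_mem hu') (hn x hx hT)) hu'
    simpa [n', mul_assoc] using this
  obtain ⟨m, hm, hform⟩ := C.toSetting.normalizes_form (C.hN n' hn'r)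
  have hw : C.toSetting.w ∈ C.SS := C.rep_mem_SS (by simp [reps])
  have hphim : ∀ x ∈ C.SS, IsConj C.toSetting.r0 x → C.phi m * x * (C.phi m)⁻¹ ∈ C.SS := by
    intro x hx hT
    rcases hform with e | e
    · rw [← e]; exact hn' x hx hT
    · have := mul_mem (mul_mem hw (hn' x hx hT)) hw
      rw [e, mul_inv_rev, C.toSetting.w_inv] at this
      simp only [mul_assoc, C.toSetting.ww, mul_one, C.toSetting.ww_assoc] at this
      simpa only [mul_assoc] using this
  have hτ : ∀ v : A5 × A5, (v.1 = 1 ∨ v.1 = eb) ∧ (v.2 = 1 ∨ v.2 = eb) →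
      ∀ m0 : M35, C.Phi v * C.toSetting.r0 = C.phi m0 →
      m * m0 * m⁻¹ ∈
        ([(1, swap 3 4), (1, swap 0 1), (swap 0 1, swap 3 4), (swap 0 1, swap 0 1)] : List M35) := by
    intro v hv m0 e0
    obtain ⟨u, hu, eu⟩ := C.conj_F4 v hv
    have hx : C.phi m0 ∈ C.SS := e0 ▸ mul_mem (C.InV_mem_SS ⟨(by rcases hv.1 with h | h <;> simp [InV, h]),
      (by rcases hv.2 with h | h <;> simp [InV, h])⟩) hr
    have hT : IsConj C.toSetting.r0 (C.phi m0) := e0 ▸ eu ▸ conjT _ (IsConj.refl _)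
    obtain ⟨m', hm', e'⟩ := C.T3_SS_model (hphim _ hx hT) (conjT _ hT)
    rw [← map_inv, ← map_mul, ← map_mul] at e'
    exact (C.inj e') ▸ hm'
  have h1 := hτ (eb, 1) ⟨Or.inr rfl, Or.inl rfl⟩ (1, swap 0 1) (by
    simp only [Phi_apply, map_one, mul_one, az_eb, Setting.i0, Setting.r0, ← map_mul]
    exact congrArg C.phi (by decide +kernel))
  have h2 := hτ (1, eb) ⟨Or.inl rfl, Or.inr rfl⟩ (swap 0 1, swap 3 4) (by
    simp only [Phi_apply, map_one, one_mul, aa_eb, Setting.p, Setting.r0, ← map_mul]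
    exact congrArg C.phi (by decide +kernel))
  have key : ∀ m : M35, NK m.2 →
      m * (1, swap 0 1) * m⁻¹ ∈
        ([(1, swap 3 4), (1, swap 0 1), (swap 0 1, swap 3 4), (swap 0 1, swap 0 1)] : List M35) →
      m * (swap 0 1, swap 3 4) * m⁻¹ ∈
        ([(1, swap 3 4), (1, swap 0 1), (swap 0 1, swap 3 4), (swap 0 1, swap 0 1)] : List M35) →
      m ∈ ([1, (swap 0 1, 1), (1, swap 0 1 * swap 3 4), (1, swap 3 4),
        (swap 0 1, 1) * (1, swap 0 1 * swap 3 4), (swap 0 1, 1) * (1, swap 3 4),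
        (1, swap 0 1 * swap 3 4) * (1, swap 3 4),
        (swap 0 1, 1) * (1, swap 0 1 * swap 3 4) * (1, swap 3 4)] : List M35) := by decide +kernel
  have hgp : C.phi (swap 0 1, 1) ∈ C.SS := by
    rw [show C.phi (swap 0 1, 1) = C.Phi (1, eb) by
      rw [Phi_apply, map_one, one_mul, aa_eb]; rfl]
    exact C.InV_mem_SS ⟨Or.inl rfl, Or.inr (Or.inl rfl)⟩
  have hgi : C.phi (1, swap 0 1 * swap 3 4) ∈ C.SS := by
    rw [show C.phi (1, swap 0 1 * swap 3 4) = C.Phi (eb, 1) by
      rw [Phi_apply, map_one, mul_one, az_eb]; rfl]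
    exact C.InV_mem_SS ⟨Or.inr (Or.inl rfl), Or.inl rfl⟩
  have hmS : C.phi m ∈ C.SS := by
    have := key m hm h1 h2
    simp only [List.mem_cons, List.not_mem_nil, or_false] at this
    rcases this with rfl | rfl | rfl | rfl | rfl | rfl | rfl | rfl <;> try simp only [map_mul, map_one]
    exacts [one_mem _, hgp, hgi, hr, mul_mem hgp hgi, mul_mem hgp hr, mul_mem hgi hr,
      mul_mem (mul_mem hgp hgi) hr]
  have : n = C.Phi u * n' := by simp only [n', mul_inv_cancel_left]
  rw [this]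
  rcases hform with e | e <;> rw [e]
  · exact mul_mem hu' hmS
  · exact mul_mem hu' (mul_mem hw hmS)

theorem exists_sylow : ∃ P : Sylow 2 G, (P : Subgroup G) = C.SS := by
  haveI : Fact (Nat.Prime 2) := ⟨Nat.prime_two⟩
  have hp : IsPGroup 2 C.SS := IsPGroup.of_card (n := 6) (by rw [C.card_SS]; norm_num)
  obtain ⟨P, hP⟩ := hp.exists_le_sylow
  refine ⟨P, ?_⟩
  by_contra hne
  obtain ⟨q, -, hq, hqn⟩ := exists_normalizing P.isPGroup' (lt_of_le_of_ne hP (Ne.symm hne))
  exact hq (C.mem_SS_of_T3 fun x hx _ => hqn x hx)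

theorem not_64_dvd_cent_p : ¬ 64 ∣ Nat.card (centralizer ({C.toSetting.p} : Set G)) := by
  haveI : Fact (Nat.Prime 2) := ⟨Nat.prime_two⟩
  intro h64
  set K := centralizer ({C.toSetting.p} : Set G) with hK
  set R := C.SS ⊓ K with hR
  have hRp : IsPGroup 2 (R.subgroupOf K) :=
    ((IsPGroup.of_card (n := 6) (by rw [C.card_SS]; norm_num) : IsPGroup 2 C.SS).to_le
      inf_le_left).comap_subtype
  obtain ⟨Q, hQ⟩ := hRp.exists_le_sylow
  set Q' := (Q : Subgroup K).map K.subtype with hQ'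
  have hRQ : R ≤ Q' := fun x hx => ⟨⟨x, hx.2⟩, hQ (mem_subgroupOf.2 hx), rfl⟩
  have hRne : R ≠ C.SS := fun e => by
    have hw : C.toSetting.w ∈ R := e.symm ▸ C.rep_mem_SS (by simp [reps])
    have hc : Commute C.toSetting.w C.toSetting.p := mem_centralizer_singleton_iff.1 hw.2
    have e2 := C.hX
    rw [C.toSetting.cw_apply, hc.eq, mul_assoc, C.toSetting.ww, mul_one] at e2
    exact absurd (C.inj e2) (by decide +kernel)
  have hlt : R < Q' := by
    refine lt_of_le_of_ne hRQ fun e => ?_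
    have h1 : 64 ≤ Nat.card Q' := by
      rw [card_map_of_injective K.subtype_injective]
      refine Nat.le_of_dvd Nat.card_pos ?_
      exact Q.pow_dvd_card_of_pow_dvd_card (n := 6) h64
    rw [← e] at h1
    have h2 : R < C.SS := lt_of_le_of_ne inf_le_left hRne
    exact hRne (eq_of_le_of_card_ge inf_le_left (by rw [C.card_SS]; exact h1))
  obtain ⟨q, hqQ, hqR, hqn⟩ := exists_normalizing (Q.isPGroup'.map K.subtype) hlt
  have hqK : q ∈ K := map_subtype_le _ hqQ
  refine hqR ⟨C.mem_SS_of_T3 fun x hx hT => ?_, hqK⟩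
  refine (hqn x ⟨hx, ?_⟩).1
  obtain ⟨m, hm, rfl⟩ := C.T3_SS_model hx hT
  refine mem_centralizer_singleton_iff.2 (C.toSetting.phi_commute ?_).eq
  have key : ∀ m ∈ ([(1, swap 3 4), (1, swap 0 1), (swap 0 1, swap 3 4),
      (swap 0 1, swap 0 1)] : List M35), m * (swap 0 1, 1) = (swap 0 1, 1) * m := by decide +kernel
  exact key m hm

theorem p_not_conj_mid : ¬ IsConj C.toSetting.p C.mid := by
  intro h
  obtain ⟨g, hg⟩ := isConj_iff.1 h
  refine C.not_64_dvd_cent_p ?_
  rw [← card_centralizer_conj g C.toSetting.p, hg, ← C.card_SS]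
  exact card_dvd_of_le C.SS_le_cent_mid

/-- The outer swaps. -/
def swaps : List G := [C.toSetting.w, C.toSetting.r0 * C.toSetting.w]

theorem swap_rep {u : G} (hu : u ∈ C.swaps) : u ∈ C.reps := by
  simp only [swaps, List.mem_cons, List.not_mem_nil, or_false] at hu
  rcases hu with rfl | rfl <;> simp [reps]

theorem swap_ne {u : G} (hu : u ∈ C.swaps) : u ≠ 1 ∧ u ≠ C.toSetting.r0 := by
  have h2 : C.toSetting.w ≠ 1 := fun e =>
    C.toSetting.w_not_range_NK (x := 1) (by rw [map_one, e])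
  simp only [swaps, List.mem_cons, List.not_mem_nil, or_false] at hu
  rcases hu with rfl | rfl
  · exact ⟨h2, C.toSetting.w_not_range_NK (x := (1, swap 3 4))⟩
  · exact ⟨C.rw_ne, fun e => h2 (mul_eq_left.1 e)⟩

theorem swap_conj {u : G} (hu : u ∈ C.swaps) :
    u * C.toSetting.z * u⁻¹ = C.toSetting.a ∧ u * C.toSetting.a * u⁻¹ = C.toSetting.z := by
  set S := C.toSetting
  simp only [swaps, List.mem_cons, List.not_mem_nil, or_false] at hu
  rcases hu with rfl | rfl
  · rw [S.w_inv]; exact ⟨S.wzw, S.waw⟩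
  · constructor
    · calc S.r0 * S.w * S.z * (S.r0 * S.w)⁻¹ = S.r0 * (S.w * S.z * S.w⁻¹) * S.r0⁻¹ := by group
        _ = S.a := by rw [S.w_inv, S.wzw, S.r0_comm_a.eq, mul_inv_cancel_right]
    · calc S.r0 * S.w * S.a * (S.r0 * S.w)⁻¹ = S.r0 * (S.w * S.a * S.w⁻¹) * S.r0⁻¹ := by group
        _ = S.z := by rw [S.w_inv, S.waw, S.r0_comm_z.eq, mul_inv_cancel_right]

theorem card_cent_a_gt : 144 < Nat.card (centralizer ({C.toSetting.a} : Set G)) := by
  rw [show C.toSetting.a = C.toSetting.w * C.toSetting.z * C.toSetting.w⁻¹ by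
    rw [C.toSetting.w_inv, C.toSetting.wzw], card_centralizer_conj]
  have h : Nat.card {x : M35 // x * (c3, 1) = (c3, 1) * x} ≤
      Nat.card (centralizer ({C.toSetting.z} : Set G)) :=
    Nat.card_le_card_of_injective (fun x => ⟨C.phi x.1, mem_centralizer_singleton_iff.2
      (C.toSetting.phi_commute x.2).eq⟩)
      fun x y e => Subtype.ext (C.inj (congrArg Subtype.val e))
  rw [Nat.card_eq_fintype_card (α := {x : M35 // _}),
    show Fintype.card {x : M35 // x * (c3, 1) = (c3, 1) * x} = 360 by decide +kernel] at h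
  omega

theorem card_cent_y_le : Nat.card (centralizer ({C.toSetting.y} : Set G)) ≤ 144 := by
  refine le_trans ?_ C.card_cent_r0_le
  refine card_le_of_le fun g hg => mem_centralizer_singleton_iff.2 ?_
  refine (C.toSetting.normalizes_comm_r0 fun d hd => ?_).eq
  obtain ⟨x, hx, rfl⟩ := hd
  exact C.cy g (mem_centralizer_singleton_iff.1 hg) x hx

/-- A swap is not conjugate to an involution of a factor. -/
theorem swap_not_conj_p {u : G} (hu : u ∈ C.swaps) : ¬ IsConj C.toSetting.p u := by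
  classical
  haveI : Fact (Nat.Prime 3) := ⟨Nat.prime_three⟩
  intro h
  obtain ⟨n, hn⟩ := isConj_iff.1 h
  set S := C.toSetting
  set K := centralizer ({u} : Set G)
  have hyK : S.y ∈ K := mem_centralizer_singleton_iff.2 (C.rep_comm_y (C.swap_rep hu)).eq.symm
  set x := n * S.a * n⁻¹
  have hxK : x ∈ K := by
    have hc : Commute S.a S.p := S.phi_commute (by decide +kernel)
    have := hc.map (MulAut.conj n).toMonoidHom
    simp only [MulEquiv.coe_toMonoidHom, MulAut.conj_apply, hn] at this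
    exact mem_centralizer_singleton_iff.2 this.eq
  have hx3 : x ^ 3 = 1 := by rw [conj_pow, S.D_pow S.a_mem, mul_one, mul_inv_cancel]
  have pz : ∀ (e : K), e ^ 3 = 1 → IsPGroup 3 (zpowers e) := by
    intro e he
    rintro ⟨f, hf⟩
    obtain ⟨k, rfl⟩ := mem_zpowers_iff.1 hf
    refine ⟨1, Subtype.ext ?_⟩
    simp only [pow_one, SubmonoidClass.coe_pow, coe_zpow, OneMemClass.coe_one]
    rw [← zpow_natCast, zpow_comm, zpow_natCast, he, one_zpow]
  obtain ⟨Q, hQ⟩ := (pz ⟨S.y, hyK⟩ (Subtype.ext S.y_pow)).exists_le_sylow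
  -- the Sylow `3`-subgroup of `K` is generated by `y`
  have hQy : ∀ e ∈ (Q : Subgroup K), e ∈ zpowers (⟨S.y, hyK⟩ : K) := by
    obtain ⟨k, hk⟩ := S.sylow3 _ (Q.isPGroup'.map K.subtype)
    intro e he
    have hek := hk e ⟨e, he, rfl⟩
    have hyk := hk S.y ⟨⟨S.y, hyK⟩, hQ (mem_zpowers _), rfl⟩
    have hec : Commute (e : G) S.y := by
      have := (S.D_comm hek hyk).map (MulAut.conj k⁻¹).toMonoidHom
      simpa [mul_assoc] using this
    have he3 : (e : G) ^ 3 = 1 := by
      have := S.D_pow hek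
      rwa [conj_pow, conj_eq_one_iff] at this
    obtain ⟨m, hm, hem⟩ := S.mem_D_of_comm_y hec he3
    have hfix : u * (e : G) * u⁻¹ = e := by
      rw [← (mem_centralizer_singleton_iff.1 e.2 : (e : G) * u = u * e), mul_inv_cancel_right]
    rw [← hem] at hfix
    obtain ⟨m1, m2⟩ := m
    have hz := (C.swap_conj hu).1
    have ha := (C.swap_conj hu).2
    let c : G →* G := (MulAut.conj u).toMonoidHom
    have cz : c (C.phi (c3, 1)) = C.phi (1, a5) := hz
    have ca : c (C.phi (1, a5)) = C.phi (c3, 1) := ha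
    have czi : c (C.phi (c3⁻¹, 1)) = C.phi (1, a5⁻¹) := by
      rw [show ((c3⁻¹, 1) : M35) = (c3, 1)⁻¹ by simp, map_inv, map_inv, cz, ← map_inv]
      simp
    have cai : c (C.phi (1, a5⁻¹)) = C.phi (c3⁻¹, 1) := by
      rw [show ((1, a5⁻¹) : M35) = (1, a5)⁻¹ by simp, map_inv, map_inv, ca, ← map_inv]
      simp
    have c1 : c (C.phi ((1 : Perm (Fin 3)), (1 : Perm (Fin 5)))) = C.phi (1, 1) := by
      rw [show C.phi ((1 : Perm (Fin 3)), (1 : Perm (Fin 5))) = 1 from map_one C.phi, map_one]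
    have hy' : (zpowers (⟨S.y, hyK⟩ : K)).map K.subtype = zpowers S.y := MonoidHom.map_zpowers _ _
    suffices h : (e : G) ∈ zpowers S.y by
      rw [← hy'] at h
      obtain ⟨e', he', e''⟩ := h
      rwa [← show e' = e from Subtype.ext e'']
    have hsplit : C.phi (m1, m2) = C.phi (m1, 1) * C.phi (1, m2) := by rw [← map_mul]; simp
    rw [show C.phi (m1, m2) = C.phi (m1, 1) * C.phi (1, m2) from hsplit] at hfix
    have hfix' : c (C.phi (m1, 1)) * c (C.phi (1, m2)) = C.phi (m1, m2) := by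
      rw [← map_mul, hsplit]; exact hfix
    rw [← hem]
    obtain ⟨e1, e2⟩ := hm
    rcases e1 with rfl | rfl | rfl <;> rcases e2 with rfl | rfl | rfl <;>
      simp only [cz, ca, czi, cai, c1, ← map_mul] at hfix' <;>
      first
      | exact absurd (C.inj hfix') (by decide +kernel)
      | exact mem_zpowers_iff.2 ⟨1, zpow_one _⟩
      | exact mem_zpowers_iff.2 ⟨-1, by
          rw [zpow_neg_one, Setting.y, ← map_inv]
          exact congrArg C.phi (by decide +kernel)⟩
      | exact mem_zpowers_iff.2 ⟨0, by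
          rw [zpow_zero]
          exact (map_one C.phi).symm⟩
  obtain ⟨Q2, hQ2⟩ := (pz ⟨x, hxK⟩ (Subtype.ext hx3)).exists_le_sylow
  obtain ⟨k, hk⟩ := MulAction.exists_smul_eq K Q2 Q
  have hmem : k * ⟨x, hxK⟩ * k⁻¹ ∈ (Q : Subgroup K) := by
    rw [← hk, Sylow.coe_subgroup_smul]
    exact smul_mem_pointwise_smul _ (MulAut.conj k) _ (hQ2 (mem_zpowers _))
  have h1 : (k : G) * n * S.a * ((k : G) * n)⁻¹ ∈ zpowers S.y := by
    obtain ⟨i, hi⟩ := mem_zpowers_iff.1 (hQy _ hmem)
    refine mem_zpowers_iff.2 ⟨i, ?_⟩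
    have := congrArg Subtype.val hi
    simp only [coe_zpow, coe_mul, coe_inv, x] at this
    rw [this]
    group
  have hle := C.card_cent_y_le
  have hgt := C.card_cent_a_gt
  rw [← card_centralizer_conj ((k : G) * n) S.a] at hgt
  rcases three_mem S.y_pow h1 with e | e | e
  · have : S.a = 1 := conj_eq_one_iff.1 e
    exact absurd (S.inj (this.trans (map_one S.phi).symm)) (by decide +kernel)
  · rw [e] at hgt
    exact absurd hle (not_le.2 hgt)
  · rw [e, card_centralizer_inv] at hgt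
    exact absurd hle (not_le.2 hgt)

/-- A swap is not conjugate to the central involution of `SS`. -/
theorem swap_not_conj_mid {u : G} (hu : u ∈ C.swaps) : ¬ IsConj C.mid u := by
  haveI : Fact (Nat.Prime 2) := ⟨Nat.prime_two⟩
  intro h
  obtain ⟨n, hn⟩ := isConj_iff.1 h
  set S := C.toSetting
  set K := centralizer ({C.mid} : Set G)
  obtain ⟨P, hP⟩ := C.exists_sylow
  let PK : Sylow 2 K := P.subtype (hP ▸ C.SS_le_cent_mid)
  have hur : Commute u S.r0 := by
    simp only [swaps, List.mem_cons, List.not_mem_nil, or_false] at hu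
    rcases hu with rfl | rfl
    · exact S.w_comm_r0
    · exact (Commute.refl _).mul_left S.w_comm_r0
  set r := n⁻¹ * S.r0 * n
  have hrK : r ∈ K := by
    have := hur.map (MulAut.conj n⁻¹).toMonoidHom
    simp only [MulEquiv.coe_toMonoidHom, MulAut.conj_apply, inv_inv, ← hn] at this
    refine mem_centralizer_singleton_iff.2 ?_
    have e : n⁻¹ * (n * C.mid * n⁻¹) * n = C.mid := by group
    rw [e] at this
    exact this.eq.symm
  have hro : orderOf (⟨r, hrK⟩ : K) = 2 := by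
    rw [Subgroup.orderOf_mk]
    show orderOf (n⁻¹ * S.r0 * n) = 2
    rw [CfsgLib.Invol.orderOf_conj_inv_eq, S.r0_order]
  obtain ⟨q, hq⟩ := CfsgLib.Invol.exists_conj_invol_mem_sylow PK hro
  have hqS : (q : G) * r * (q : G)⁻¹ ∈ C.SS := by
    rw [← hP]
    exact hq
  have hqT : IsConj S.r0 ((q : G) * r * (q : G)⁻¹) :=
    isConj_iff.2 ⟨(q : G) * n⁻¹, by simp only [r]; group⟩
  obtain ⟨v, hv, ev⟩ := C.T3_SS hqS hqT
  obtain ⟨e, he, ee⟩ := C.conj_F4 v hv
  have heK : C.Phi e ∈ K := C.SS_le_cent_mid (C.InV_mem_SS he)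
  set h' := n * (q : G)⁻¹ * C.Phi e
  have hh : Commute h' S.r0 := by
    refine mul_inv_eq_iff_eq_mul.1 ?_
    calc h' * S.r0 * h'⁻¹ = n * (q : G)⁻¹ * (C.Phi e * S.r0 * (C.Phi e)⁻¹) * ((q : G) * n⁻¹) := by
          simp only [h']; group
      _ = S.r0 := by rw [ee, ← ev]; simp only [r]; group
  have hmu : h' * C.mid * h'⁻¹ = u := by
    have hK : Commute ((q : G)⁻¹ * C.Phi e) C.mid :=
      mem_centralizer_singleton_iff.1 (mul_mem (inv_mem q.2) heK)
    calc h' * C.mid * h'⁻¹ = n * ((q : G)⁻¹ * C.Phi e * C.mid * ((q : G)⁻¹ * C.Phi e)⁻¹) * n⁻¹ := by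
          simp only [h']; group
      _ = u := by rw [hK.eq, mul_inv_cancel_right, hn]
  -- `u` then inverts `y`, but it centralises it
  have hy : h'⁻¹ * S.y * h' ∈ S.D := by
    have := C.hN h'⁻¹ hh.inv_left S.y (by rw [← S.z_mul_a]; exact mul_mem S.z_mem S.a_mem)
    rwa [inv_inv] at this
  obtain ⟨d, hd, hdy⟩ := hy
  have hinv : C.mid * S.phi d * C.mid⁻¹ = (S.phi d)⁻¹ := by
    rw [mid_eq, ← map_inv, ← map_inv, ← map_mul, ← map_mul]
    refine congrArg S.phi ?_
    obtain ⟨d1, d2⟩ := d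
    obtain ⟨rfl | rfl | rfl, rfl | rfl | rfl⟩ := hd <;> decide +kernel
  have huy : u * S.y * u⁻¹ = S.y⁻¹ := by
    calc u * S.y * u⁻¹ = h' * (C.mid * (h'⁻¹ * S.y * h') * C.mid⁻¹) * h'⁻¹ := by
          rw [← hmu]; group
      _ = S.y⁻¹ := by rw [← hdy, hinv, hdy]; group
  rw [(C.rep_comm_y (C.swap_rep hu)).eq, mul_inv_cancel_right] at huy
  rw [Setting.y, ← map_inv] at huy
  exact absurd (S.inj huy) (by decide +kernel)

end CopyX

end CfsgLib.Recog.SymEight
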