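import Cfsg.Agent.Lib.Recog.SymEight.Build
import Cfsg.Agent.S3333

/-!
The centraliser of `r₀` modulo `r₀` is symmetric of degree six or `D` is normal in it.
-/

set_option autoImplicit false
set_option linter.style.haveILetI false

namespace CfsgLib.Recog.SymEight

open Equiv Subgroup

theorem cent_D_model (x : M35) (h : x.1 = 1 ∨ x.1 = c3 ∨ x.1 = c3⁻¹)
    (ha : x * (1, a5) = (1, a5) * x) : InD x ∨ InD (x * (1, swap 3 4)) := by
  have key : ∀ x : M35, (x.1 = 1 ∨ x.1 = c3 ∨ x.1 = c3⁻¹) → x * (1, a5) = (1, a5) * x →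
      InD x ∨ InD (x * (1, swap 3 4)) := by decide +kernel
  exact key x h ha

theorem NK_iff_comm (π : Perm (Fin 5)) : NK π ↔ π * swap 3 4 = swap 3 4 * π := by
  revert π
  decide +kernel

namespace Setting

variable {G : Type*} [Group G] [Finite G] (S : Setting G)

/-- Normalising `D`. -/
def Normalizes (g : G) : Prop := ∀ d ∈ S.D, g * d * g⁻¹ ∈ S.D

theorem Normalizes.mul {g h : G} (hg : S.Normalizes g) (hh : S.Normalizes h) :
    S.Normalizes (g * h) := fun d hd => by
  have := hg _ (hh d hd)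
  simpa [mul_assoc] using this

theorem normalizes_K {k : M35} (hk : NK k.2) : S.Normalizes (S.phi k) := by
  rintro _ ⟨x, hx, rfl⟩
  exact ⟨k * x * k⁻¹, NK_D0 hk hx, by simp only [map_mul, map_inv]⟩

theorem normalizes_w : S.Normalizes S.w := fun d hd => by
  rw [S.w_inv]
  exact S.cw_D hd

theorem normalizes_form {g : G} (hg : S.Normalizes g) :
    ∃ x, NK x.2 ∧ (g = S.phi x ∨ g = S.w * S.phi x) :=
  S.nD g fun x hx => hg _ ⟨x, hx, rfl⟩

theorem normalizes_comm_r0 {g : G} (hg : S.Normalizes g) : Commute g S.r0 := by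
  obtain ⟨x, hx, hgx⟩ := S.normalizes_form hg
  have h : Commute (S.phi x) S.r0 :=
    S.phi_commute (Prod.ext (by simp) (by simpa using (NK_iff_comm _).1 hx))
  rcases hgx with rfl | rfl
  · exact h
  · exact S.w_comm_r0.mul_left h

theorem cent_D {g : G} (hz : Commute g S.z) (ha : Commute g S.a) :
    g ∈ S.D ∨ g * S.r0 ∈ S.D := by
  obtain ⟨x, hx, rfl⟩ := S.comm_z hz
  rw [r0, ← map_mul, S.phi_mem_D, S.phi_mem_D]
  exact cent_D_model x hx (S.inj (by rw [map_mul, map_mul]; exact ha))

theorem cent_le_normalizes {g d : G} (hr : Commute g S.r0) (hd : d ∈ S.D) (hd1 : d ≠ 1)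
    (hgd : Commute g d) : S.Normalizes g := by
  have hK : ∀ x : M35, Commute (S.phi x) S.r0 → NK x.2 := fun x hx =>
    (NK_iff_comm _).2 (congrArg Prod.snd
      (S.inj (by rw [map_mul, map_mul]; exact hx.eq) : x * (1, swap 3 4) = (1, swap 3 4) * x))
  obtain ⟨u, hu, rfl⟩ := hd
  rcases InD_cases u hu with e | e | e | ⟨k, hk, e⟩
  · exact absurd (by rw [e, map_one]) hd1
  · obtain ⟨x, -, rfl⟩ := S.comm_z (g := g) (by
      rcases e with rfl | rfl
      · exact hgd
      · rw [map_inv] at hgd; exact Commute.inv_right_iff.1 hgd)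
    exact S.normalizes_K (hK x hr)
  · obtain ⟨x, -, rfl⟩ := S.comm_a (g := g) (by
      rcases e with rfl | rfl
      · exact hgd
      · rw [map_inv] at hgd; exact Commute.inv_right_iff.1 hgd)
    have hx : NK x.2 := hK x (by
      have := hr.map S.cw
      rwa [S.cw_cw, S.cw_r0] at this)
    obtain ⟨x', hx', e'⟩ := S.cw_NK hx
    rw [e']
    exact S.normalizes_K hx'
  · have hkn := list_NK k hk
    have hkn' : NK k⁻¹.2 := (show ∀ π : Perm (Fin 5), NK π → NK π⁻¹ by decide +kernel) _ hkn
    have hy : Commute (S.phi k⁻¹ * g * (S.phi k⁻¹)⁻¹) (S.phi (c3, a5)) := by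
      have h := hgd.map (MulAut.conj (S.phi k⁻¹)).toMonoidHom
      rw [e, MulEquiv.coe_toMonoidHom, MulAut.conj_apply, MulAut.conj_apply] at h
      rw [show S.phi k⁻¹ * S.phi (k * (c3, a5) * k⁻¹) * (S.phi k⁻¹)⁻¹ = S.phi (c3, a5) by
        rw [← map_inv, ← map_mul, ← map_mul]; congr 1; group] at h
      exact h
    have hn : S.Normalizes (S.phi k⁻¹ * g * (S.phi k⁻¹)⁻¹) := by
      rintro _ ⟨x, hx, rfl⟩
      exact S.cy _ hy x hx
    have := ((S.normalizes_K hkn).mul S hn).mul S (S.normalizes_K hkn')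
    simpa [mul_assoc] using this

theorem mem_D_of_cube {e : G} (he : e ∈ S.D ∨ e * S.r0 ∈ S.D) (h3 : e ^ 3 = 1) : e ∈ S.D := by
  refine he.resolve_right fun h => ?_
  have hc : Commute (e * S.r0) S.r0 := by
    obtain ⟨x, hx, hxe⟩ := h
    rw [← hxe]
    exact S.normalizes_comm_r0 (S.normalizes_K ((show ∀ y : M35, InD y → NK y.2 by
      decide +kernel) x hx))
  have he' : Commute e S.r0 := by
    have := hc.mul_left (Commute.refl S.r0)
    rwa [mul_assoc, S.r0_sq, mul_one] at this
  have hd := S.D_pow h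
  rw [he'.mul_pow, h3, one_mul, pow_succ, pow_two, S.r0_sq, one_mul] at hd
  have h2 := S.r0_order
  rw [hd, orderOf_one] at h2
  norm_num at h2

/-- The conclusion of the recognition of `S₆`. -/
def Six : Prop :=
  ∃ π : centralizer ({S.r0} : Set G) →* Perm (Fin 6),
    Function.Surjective π ∧ ∀ x, π x = 1 ↔ (x : G) = 1 ∨ (x : G) = S.r0

theorem quot {D : Subgroup G} (hD : S.D = D)
    [hcn : ((centralizer (D : Set G)).subgroupOf (normalizer (D : Set G))).Normal]
    (eNC : normalizer (D : Set G) ⧸ (centralizer (D : Set G)).subgroupOf (normalizer (D : Set G)) ≃*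
      DihedralGroup 4) :
    S.Six ∨ ∀ g, Commute g S.r0 → S.Normalizes g := by
  classical
  haveI : Fact (Nat.Prime 3) := ⟨Nat.prime_three⟩
  subst hD
  set C := centralizer ({S.r0} : Set G) with hCdef
  have memC : ∀ {g : G}, g ∈ C ↔ Commute g S.r0 := fun {g} => mem_centralizer_singleton_iff
  have hr0C : S.r0 ∈ C := memC.2 (Commute.refl _)
  have hDn : ∀ d ∈ S.D, S.Normalizes d := by
    intro d hd e he
    rw [(S.D_comm hd he).eq, mul_inv_cancel_right]
    exact he
  have hDC : S.D ≤ C := fun d hd => memC.2 (S.normalizes_comm_r0 (hDn d hd))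
  set R := (zpowers S.r0).subgroupOf C
  have memR : ∀ {x : C}, x ∈ R ↔ (x : G) = 1 ∨ (x : G) = S.r0 := by
    intro x
    rw [mem_subgroupOf]
    constructor
    · intro h
      obtain ⟨k, hk⟩ := mem_zpowers_iff.1 h
      rw [← zpow_mod_orderOf, S.r0_order] at hk
      rcases Int.emod_two_eq_zero_or_one k with e | e <;> rw [Nat.cast_ofNat, e] at hk
      · left; rw [← hk, zpow_zero]
      · right; rw [← hk, zpow_one]
    · rintro (e | e) <;> rw [e]
      exacts [one_mem _, mem_zpowers _]
  haveI hRn : R.Normal := ⟨fun x hx g => memR.2 ((memR.1 hx).imp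
    (fun e => by simp [e]) (fun e => by
      simp only [coe_mul, coe_inv, e, (memC.1 g.2).eq, mul_inv_cancel_right]))⟩
  set Q := C ⧸ R
  let q : C →* Q := QuotientGroup.mk' R
  have hq : Function.Surjective q := QuotientGroup.mk'_surjective R
  have qeq : ∀ x y : C, q x = q y ↔ (y : G) = x ∨ (y : G) = (x : G) * S.r0 := by
    intro x y
    show (QuotientGroup.mk x : Q) = QuotientGroup.mk y ↔ _
    rw [QuotientGroup.eq, memR, coe_mul, coe_inv, inv_mul_eq_one, inv_mul_eq_iff_eq_mul]
    exact or_congr_left eq_comm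
  set DC := S.D.subgroupOf C
  have cardDC : Nat.card DC = 9 := by
    rw [Nat.card_congr (subgroupOfEquivOfLe hDC).toEquiv, S.card_D]
  obtain ⟨PC, hPC⟩ : ∃ PC : Sylow 3 C, (PC : Subgroup C) = DC := by
    have hp : IsPGroup 3 DC := IsPGroup.of_card (n := 2) (by rw [cardDC]; norm_num)
    obtain ⟨PC, hPC⟩ := hp.exists_le_sylow
    refine ⟨PC, (eq_of_le_of_card_ge hPC ?_).symm⟩
    obtain ⟨g, hg⟩ := S.sylow3 _ (PC.isPGroup'.map C.subtype)
    rw [cardDC, ← S.card_D, ← card_map_of_injective C.subtype_injective,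
      ← card_map_of_injective (f := (MulAut.conj g).toMonoidHom) (MulAut.conj g).injective]
    refine card_le_of_le ?_
    rintro _ ⟨x, hx, rfl⟩
    exact hg x hx
  let PQ : Sylow 3 Q := PC.mapSurjective hq
  have hPQ : (PQ : Subgroup Q) = DC.map q := by rw [← hPC]; rfl
  have memDQ : ∀ x : C, q x ∈ DC.map q ↔ ((x : G) ∈ S.D ∨ (x : G) * S.r0 ∈ S.D) := by
    intro x
    constructor
    · rintro ⟨d, hd, e⟩
      rcases (qeq d x).1 e with e' | e'
      · exact Or.inl (e' ▸ hd)
      · right
        rw [e', mul_assoc, S.r0_sq, mul_one]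
        exact hd
    · rintro (h | h)
      · exact ⟨x, h, rfl⟩
      · exact ⟨⟨_, hDC h⟩, h, (qeq _ _).2 (Or.inr (by
          show (x : G) = (x : G) * S.r0 * S.r0
          rw [mul_assoc, S.r0_sq, mul_one]))⟩
  have hinj : Set.InjOn q DC := by
    intro x hx y hy e
    refine Subtype.ext ((qeq x y).1 e |>.resolve_right fun e' => ?_).symm
    have h : S.r0 ∈ S.D := by
      have : (x : G)⁻¹ * y ∈ S.D := mul_mem (inv_mem hx) hy
      rwa [e', inv_mul_cancel_left] at this
    have := S.D_pow h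
    rw [pow_succ, pow_two, S.r0_sq, one_mul] at this
    have h2 := S.r0_order
    rw [this, orderOf_one] at h2
    norm_num at h2
  have cardDQ : Nat.card (DC.map q) = 9 := by
    rw [← cardDC]
    exact Nat.card_image_of_injOn hinj
  -- commuting modulo `r₀` with a member of `D` is commuting
  have comm_of : ∀ (x : C) (d : C), (d : G) ∈ S.D → q x * q d = q d * q x →
      Commute (x : G) d := by
    intro x d hd h
    have h' : q (x * d * x⁻¹) = q d := by rw [map_mul, map_mul, map_inv, h, mul_inv_cancel_right]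
    have hx3 : ((x * d * x⁻¹ : C) : G) ^ 3 = 1 := by
      rw [coe_mul, coe_mul, coe_inv, conj_pow, S.D_pow hd, mul_one, mul_inv_cancel]
    rcases (qeq _ _).1 h'.symm with e | e
    · rw [coe_mul, coe_mul, coe_inv] at e
      exact mul_inv_eq_iff_eq_mul.1 e
    · exfalso
      rw [e, (memC.1 d.2).mul_pow, S.D_pow hd, one_mul, pow_succ, pow_two, S.r0_sq, one_mul] at hx3
      have h2 := S.r0_order
      rw [hx3, orderOf_one] at h2
      norm_num at h2
  have hCQ : centralizer ((DC.map q : Subgroup Q) : Set Q) = DC.map q := by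
    refine le_antisymm (fun g hg => ?_) ?_
    · obtain ⟨x, rfl⟩ := hq g
      rw [mem_centralizer_iff] at hg
      rw [memDQ]
      exact S.cent_D
        (comm_of x ⟨_, hDC S.z_mem⟩ S.z_mem (hg _ ⟨_, S.z_mem, rfl⟩).symm)
        (comm_of x ⟨_, hDC S.a_mem⟩ S.a_mem (hg _ ⟨_, S.a_mem, rfl⟩).symm)
    · rintro _ ⟨x, hx, rfl⟩
      rw [mem_centralizer_iff]
      rintro _ ⟨y, hy, rfl⟩
      rw [← map_mul, ← map_mul, show y * x = x * y from Subtype.ext (S.D_comm hy hx).eq]
  have memNQ : ∀ x : C, q x ∈ normalizer ((DC.map q : Subgroup Q) : Set Q) ↔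
      S.Normalizes x := by
    intro x
    constructor
    · intro h d hd
      have hm := (mem_normalizer_iff.1 h _).1 ⟨⟨d, hDC hd⟩, hd, rfl⟩
      rw [← map_inv, ← map_mul, ← map_mul] at hm
      exact S.mem_D_of_cube ((memDQ _).1 hm) (by rw [conj_pow, S.D_pow hd, mul_one, mul_inv_cancel])
    · intro h
      rw [mem_normalizer_iff]
      have h' : ∀ d : Q, d ∈ DC.map q → q x * d * (q x)⁻¹ ∈ DC.map q := by
        rintro _ ⟨d, hd, rfl⟩
        exact ⟨x * d * x⁻¹, h _ hd, by rw [map_mul, map_mul, map_inv]⟩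
      intro d
      refine ⟨h' d, fun hd => ?_⟩
      have hbij := Finite.injective_iff_surjective.1
        (show Function.Injective (fun e : DC.map q =>
          (⟨q x * e.1 * (q x)⁻¹, h' e.1 e.2⟩ : DC.map q)) from fun a b e => by
            simpa using congrArg Subtype.val e) ⟨_, hd⟩
      obtain ⟨e, he⟩ := hbij
      have := congrArg Subtype.val he
      simp only [mul_left_inj, mul_right_inj] at this
      exact this ▸ e.2
  -- the automiser of the image of `D`
  set N := normalizer (S.D : Set G)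
  have hNn : ∀ g ∈ N, S.Normalizes g := fun g hg d hd => (mem_normalizer_iff.1 hg d).1 hd
  have hnN : ∀ g, S.Normalizes g → g ∈ N := by
    intro g hg
    rw [mem_normalizer_iff]
    intro d
    refine ⟨hg d, fun hd => ?_⟩
    obtain ⟨e, he⟩ := Finite.injective_iff_surjective.1
      (show Function.Injective (fun e : S.D => (⟨g * e.1 * g⁻¹, hg e.1 e.2⟩ : S.D)) from
        fun a b e => by simpa using congrArg Subtype.val e) ⟨_, hd⟩
    have := congrArg Subtype.val he
    simp only [mul_left_inj, mul_right_inj] at this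
    exact this ▸ e.2
  let NQ := normalizer ((DC.map q : Subgroup Q) : Set Q)
  let f : N →* NQ :=
    { toFun := fun g => ⟨q ⟨g, memC.2 (S.normalizes_comm_r0 (hNn g g.2))⟩,
        (memNQ _).2 (hNn g g.2)⟩
      map_one' := Subtype.ext (map_one q)
      map_mul' := fun g h => Subtype.ext (map_mul q ⟨g, memC.2 (S.normalizes_comm_r0 (hNn g g.2))⟩
        ⟨h, memC.2 (S.normalizes_comm_r0 (hNn h h.2))⟩) }
  haveI : ((DC.map q).subgroupOf NQ).Normal := normal_in_normalizer
  let F := (QuotientGroup.mk' ((DC.map q).subgroupOf NQ)).comp f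
  have hF : Function.Surjective F := by
    refine (QuotientGroup.mk'_surjective _).comp fun y => ?_
    obtain ⟨x, hx⟩ := hq y.1
    exact ⟨⟨x, hnN x ((memNQ x).1 (hx.symm ▸ y.2))⟩, Subtype.ext hx⟩
  have hker : F.ker = (centralizer (S.D : Set G)).subgroupOf N := by
    ext g
    rw [MonoidHom.mem_ker, MonoidHom.comp_apply, QuotientGroup.mk'_apply, QuotientGroup.eq_one_iff,
      mem_subgroupOf, mem_subgroupOf]
    refine (memDQ _).trans ⟨fun h => mem_centralizer_iff.2 fun d hd => ?_, fun h => ?_⟩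
    · rcases h with h | h
      · exact (S.D_comm h hd).eq.symm
      · have h1 := (S.D_comm h hd)
        have h2 := S.normalizes_comm_r0 (hDn d hd)
        have := h1.mul_left h2.symm
        rw [mul_assoc, S.r0_sq, mul_one] at this
        exact this.eq.symm
    · rw [mem_centralizer_iff] at h
      exact S.cent_D (h _ S.z_mem).symm (h _ S.a_mem).symm
  haveI : F.ker.Normal := inferInstance
  let e : NQ ⧸ (DC.map q).subgroupOf NQ ≃* DihedralGroup 4 :=
    ((QuotientGroup.quotientKerEquivOfSurjective F hF).symm.trans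
      (QuotientGroup.quotientMulEquivOfEq hker)).trans eNC
  rcases Cfsg.Agent.S3333.result PQ (DC.map q) hPQ.symm cardDQ hCQ e (by
      rintro _ ⟨d, hd, rfl⟩ hd1 g hg
      obtain ⟨x, rfl⟩ := hq g
      refine (memNQ x).2 (S.cent_le_normalizes (memC.1 x.2) hd (fun e1 => hd1 ?_) ?_)
      · rw [show d = 1 from Subtype.ext e1, map_one]
      · exact comm_of x d hd (mem_centralizer_singleton_iff.1 hg)) with hn | hiso
  · right
    intro g hg
    refine (memNQ ⟨g, memC.2 hg⟩).1 ?_
    haveI := hn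
    rw [normalizer_eq_top]
    trivial
  · left
    obtain ⟨iso⟩ := hiso
    refine ⟨iso.toMonoidHom.comp q, iso.surjective.comp hq, fun x => ?_⟩
    rw [MonoidHom.comp_apply, MulEquiv.coe_toMonoidHom, map_eq_one_iff iso iso.injective,
      QuotientGroup.mk'_apply, QuotientGroup.eq_one_iff, memR]

end Setting

end CfsgLib.Recog.SymEight
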