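import Mathlib.GroupTheory.Sylow
import Mathlib.GroupTheory.Perm.Fin
import Mathlib.Tactic

/-!
Setting for the `3`-local recognition of the symmetric group of degree eight.
-/

set_option autoImplicit false
set_option linter.style.haveILetI false

namespace CfsgLib.Recog.SymEight

open Equiv

/-- The model `S₃ × S₅` of the normaliser of `z`. -/
abbrev M35 : Type := Perm (Fin 3) × Perm (Fin 5)

/-- The three-cycle of `S₃`. -/
def c3 : Perm (Fin 3) := swap 0 1 * swap 1 2

/-- The three-cycle of `S₅`. -/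
def a5 : Perm (Fin 5) := swap 0 1 * swap 1 2

/-- Normalising the group of `a5`. -/
def NK (π : Perm (Fin 5)) : Prop := π * a5 * π⁻¹ = a5 ∨ π * a5 * π⁻¹ = a5⁻¹

instance : DecidablePred NK := fun _ => inferInstanceAs (Decidable (_ ∨ _))

/-- Membership in the Sylow `3`-subgroup of the model. -/
def InD (x : M35) : Prop :=
  (x.1 = 1 ∨ x.1 = c3 ∨ x.1 = c3⁻¹) ∧ (x.2 = 1 ∨ x.2 = a5 ∨ x.2 = a5⁻¹)

instance : DecidablePred InD := fun _ => inferInstanceAs (Decidable (_ ∧ _))

theorem InD.mul {x y : M35} (hx : InD x) (hy : InD y) : InD (x * y) := by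
  obtain ⟨x1, x2⟩ := x
  obtain ⟨y1, y2⟩ := y
  obtain ⟨rfl | rfl | rfl, rfl | rfl | rfl⟩ := hx <;>
    obtain ⟨rfl | rfl | rfl, rfl | rfl | rfl⟩ := hy <;> decide +kernel

theorem InD.inv {x : M35} (hx : InD x) : InD x⁻¹ := by
  obtain ⟨x1, x2⟩ := x
  obtain ⟨rfl | rfl | rfl, rfl | rfl | rfl⟩ := hx <;> decide +kernel

/-- The Sylow `3`-subgroup of the model. -/
def D0 : Subgroup M35 where
  carrier := {x | InD x}
  one_mem' := ⟨Or.inl rfl, Or.inl rfl⟩
  mul_mem' := InD.mul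
  inv_mem' := InD.inv

theorem mem_D0 {x : M35} : x ∈ D0 ↔ InD x := Iff.rfl

theorem card_D0 : Nat.card D0 = 9 := by
  have e : Nat.card {x : M35 // InD x} = 9 := by
    rw [Nat.card_eq_fintype_card]
    decide +kernel
  exact e

theorem card_NK : Nat.card {x : M35 // NK x.2} = 72 := by
  rw [Nat.card_eq_fintype_card]
  decide +kernel

theorem card_NK_za :
    Nat.card {x : M35 // NK x.2 ∧ x * (c3, a5) = (c3, a5) * x} = 18 := by
  rw [Nat.card_eq_fintype_card]
  decide +kernel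

/-- The local data around a Sylow `3`-subgroup. -/
structure Setting (G : Type*) [Group G] [Finite G] where
  /-- The normaliser of `z`. -/
  phi : M35 →* G
  inj : Function.Injective phi
  /-- The involution swapping `z` and `a`. -/
  w : G
  ww : w * w = 1
  wz : w * phi (c3, 1) * w = phi (1, a5)
  normz : ∀ g : G, g * phi (c3, 1) * g⁻¹ = phi (c3, 1) ∨ g * phi (c3, 1) * g⁻¹ = phi (c3⁻¹, 1) →
    g ∈ phi.range
  nD : ∀ g : G, (∀ x, InD x → g * phi x * g⁻¹ ∈ D0.map phi) →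
    ∃ x, NK x.2 ∧ (g = phi x ∨ g = w * phi x)
  cy : ∀ g : G, Commute g (phi (c3, a5)) → ∀ x, InD x → g * phi x * g⁻¹ ∈ D0.map phi
  sylow3 : ∀ Q : Subgroup G, IsPGroup 3 Q → ∃ g : G, ∀ x ∈ Q, g * x * g⁻¹ ∈ D0.map phi
  wpw : w * phi (swap 0 1, 1) * w = phi (1, swap 0 1) ∨
    w * phi (swap 0 1, 1) * w = phi (1, swap 0 1 * swap 3 4)

namespace Setting

variable {G : Type*} [Group G] [Finite G] (S : Setting G)

/-- The central element `z`. -/
def z : G := S.phi (c3, 1)

/-- Its partner `a`. -/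
def a : G := S.phi (1, a5)

/-- The element of type `y`. -/
def y : G := S.phi (c3, a5)

/-- The involution centralising `D`. -/
def r0 : G := S.phi (1, swap 3 4)

/-- The involution inverting `z` and centralising `a`. -/
def p : G := S.phi (swap 0 1, 1)

/-- The Sylow `3`-subgroup. -/
def D : Subgroup G := D0.map S.phi

theorem z_mem : S.z ∈ S.D := ⟨_, show InD (c3, 1) by decide +kernel, rfl⟩

theorem a_mem : S.a ∈ S.D := ⟨_, show InD (1, a5) by decide +kernel, rfl⟩

theorem z_mul_a : S.z * S.a = S.y := by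
  rw [z, a, y, ← map_mul]
  rfl

theorem a_mul_z : S.a * S.z = S.y := by
  rw [z, a, y, ← map_mul]
  rfl

theorem phi_mem_D {x : M35} : S.phi x ∈ S.D ↔ InD x := by
  rw [D, Subgroup.mem_map_iff_mem S.inj, mem_D0]

theorem card_D : Nat.card S.D = 9 := by
  rw [D, Nat.card_congr (D0.equivMapOfInjective _ S.inj).symm.toEquiv, card_D0]

theorem w_inv : S.w⁻¹ = S.w := inv_eq_of_mul_eq_one_right S.ww

theorem ww_assoc (x : G) : S.w * (S.w * x) = x := by rw [← mul_assoc, S.ww, one_mul]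

theorem wzw : S.w * S.z * S.w = S.a := S.wz

theorem waw : S.w * S.a * S.w = S.z := by
  rw [← S.wzw]
  simp only [mul_assoc, S.ww, mul_one, S.ww_assoc]

/-- Conjugation by `w`. -/
def cw : G →* G where
  toFun x := S.w * x * S.w
  map_one' := by rw [mul_one, S.ww]
  map_mul' x y := by simp only [mul_assoc, S.ww_assoc]

theorem cw_apply (x : G) : S.cw x = S.w * x * S.w := rfl

theorem cw_cw (x : G) : S.cw (S.cw x) = x := by
  simp only [cw_apply, mul_assoc, S.ww, mul_one, S.ww_assoc]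

theorem cw_inj : Function.Injective S.cw := fun x y h => by
  rw [← S.cw_cw x, ← S.cw_cw y, h]

theorem cw_D {x : G} (hx : x ∈ S.D) : S.cw x ∈ S.D := by
  have key : D0.map S.phi ≤ S.D.comap S.cw := by
    rintro _ ⟨⟨u, v⟩, ⟨hu, hv⟩, rfl⟩
    have e : S.phi (u, v) = S.phi (u, 1) * S.phi (1, v) := by rw [← map_mul]; simp
    rw [Subgroup.mem_comap, e, map_mul]
    have hz : S.cw (S.phi (c3, 1)) = S.a := S.wzw
    have ha : S.cw (S.phi (1, a5)) = S.z := S.waw
    have hzi : S.phi (c3⁻¹, 1) = (S.phi (c3, 1))⁻¹ := by rw [← map_inv]; simp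
    have hai : S.phi (1, a5⁻¹) = (S.phi (1, a5))⁻¹ := by rw [← map_inv]; simp
    have h1 : S.phi ((1 : Perm (Fin 3)), (1 : Perm (Fin 5))) = 1 := map_one S.phi
    refine mul_mem ?_ ?_
    · rcases hu with rfl | rfl | rfl
      · rw [h1, map_one]; exact one_mem _
      · rw [hz]; exact S.a_mem
      · rw [hzi, map_inv, hz]; exact inv_mem S.a_mem
    · rcases hv with rfl | rfl | rfl
      · rw [h1, map_one]; exact one_mem _
      · rw [ha]; exact S.z_mem
      · rw [hai, map_inv, ha]; exact inv_mem S.z_mem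
  exact key hx

theorem w_not_range_NK {x : M35} : S.w ≠ S.phi x := by
  intro h
  have e := S.wz
  rw [h, ← map_mul, ← map_mul] at e
  have h2 : ∀ x : M35, x * x = 1 → (x * (c3, 1) * x).1 = 1 → (x * (c3, 1) * x).2 = a5 → False := by
    decide +kernel
  have hx : x * x = 1 := S.inj (by rw [map_mul, map_one, ← h, S.ww])
  exact h2 x hx (congrArg Prod.fst (S.inj e)) (congrArg Prod.snd (S.inj e))

theorem range_of_conj_z {g : G} (h : g * S.z * g⁻¹ = S.z ∨ g * S.z * g⁻¹ = S.z⁻¹) :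
    ∃ x, g = S.phi x := by
  obtain ⟨x, hx⟩ := S.normz g (h.imp id fun e => e.trans (by rw [z, ← map_inv]; simp))
  exact ⟨x, hx.symm⟩

theorem cw_NK {x : M35} (hx : NK x.2) : ∃ x', NK x'.2 ∧ S.cw (S.phi x) = S.phi x' := by
  have ha : S.phi x * S.a * (S.phi x)⁻¹ = S.a ∨ S.phi x * S.a * (S.phi x)⁻¹ = S.a⁻¹ := by
    rw [a, ← map_inv, ← map_inv, ← map_mul, ← map_mul]
    exact hx.imp (fun e => congrArg S.phi (Prod.ext (by simp) e))
      (fun e => congrArg S.phi (Prod.ext (by simp) e))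
  have hz : S.phi x * S.z * (S.phi x)⁻¹ = S.z ∨ S.phi x * S.z * (S.phi x)⁻¹ = S.z⁻¹ := by
    have key : ∀ u : Perm (Fin 3), u * c3 * u⁻¹ = c3 ∨ u * c3 * u⁻¹ = c3⁻¹ := by decide +kernel
    rw [z, ← map_inv, ← map_inv, ← map_mul, ← map_mul]
    exact (key x.1).imp (fun e => congrArg S.phi (Prod.ext e (by simp)))
      (fun e => congrArg S.phi (Prod.ext e (by simp)))
  have e1 : S.cw (S.phi x) * S.z * (S.cw (S.phi x))⁻¹ = S.cw (S.phi x * S.a * (S.phi x)⁻¹) := by
    rw [map_mul, map_mul, map_inv, show S.cw S.a = S.z from S.waw]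
  obtain ⟨x', hx'⟩ := S.range_of_conj_z (g := S.cw (S.phi x)) <| by
    rw [e1]
    exact ha.imp (fun e => by rw [e]; exact S.waw) (fun e => by rw [e, map_inv]; exact congrArg _ S.waw)
  refine ⟨x', ?_, hx'⟩
  have e2 : S.cw (S.phi x) * S.a * (S.cw (S.phi x))⁻¹ = S.cw (S.phi x * S.z * (S.phi x)⁻¹) := by
    rw [map_mul, map_mul, map_inv, show S.cw S.z = S.a from S.wzw]
  rw [hx', a, ← map_inv, ← map_mul, ← map_mul] at e2
  rcases hz with e | e <;> rw [e] at e2
  · exact Or.inl (congrArg Prod.snd (S.inj (e2.trans S.wzw)))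
  · rw [map_inv, show S.cw S.z = S.a from S.wzw, a, ← map_inv] at e2
    exact Or.inr (congrArg Prod.snd (S.inj e2))

theorem comm_z {g : G} (h : Commute g S.z) :
    ∃ x : M35, (x.1 = 1 ∨ x.1 = c3 ∨ x.1 = c3⁻¹) ∧ g = S.phi x := by
  obtain ⟨x, rfl⟩ := S.range_of_conj_z (Or.inl (by rw [h.eq, mul_inv_cancel_right]))
  have e := h.eq
  rw [z, ← map_mul, ← map_mul] at e
  have key : ∀ u : Perm (Fin 3), u * c3 = c3 * u → u = 1 ∨ u = c3 ∨ u = c3⁻¹ := by decide +kernel
  exact ⟨x, key x.1 (congrArg Prod.fst (S.inj e)), rfl⟩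

theorem comm_a {g : G} (h : Commute g S.a) :
    ∃ x : M35, (x.1 = 1 ∨ x.1 = c3 ∨ x.1 = c3⁻¹) ∧ g = S.cw (S.phi x) := by
  obtain ⟨x, hx1, hx⟩ := S.comm_z (g := S.cw g) (by
    have := h.map S.cw
    rwa [show S.cw S.a = S.z from S.waw] at this)
  exact ⟨x, hx1, by rw [← hx, S.cw_cw]⟩

theorem eq_r0_of_invol {u : G} (hu : orderOf u = 2) (hz : Commute u S.z) (ha : Commute u S.a) :
    u = S.r0 := by
  obtain ⟨x, -, rfl⟩ := S.comm_z hz
  rw [orderOf_injective S.phi S.inj] at hu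
  have key : ∀ x : M35, x * x = 1 → x ≠ 1 → x * (c3, 1) = (c3, 1) * x →
      x * (1, a5) = (1, a5) * x → x = (1, swap 3 4) := by decide +kernel
  refine congrArg S.phi (key x ?_ ?_ (S.inj ?_) (S.inj ?_))
  · rw [← sq, ← hu, pow_orderOf_eq_one]
  · intro e
    rw [e, orderOf_one] at hu
    norm_num at hu
  · rw [map_mul, map_mul]; exact hz
  · rw [map_mul, map_mul]; exact ha

theorem r0_order : orderOf S.r0 = 2 := by
  rw [r0, orderOf_injective S.phi S.inj]
  exact orderOf_eq_prime (by decide +kernel) (by decide +kernel)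

theorem r0_sq : S.r0 * S.r0 = 1 := by
  rw [← sq, ← S.r0_order, pow_orderOf_eq_one]

theorem p_order : orderOf S.p = 2 := by
  rw [p, orderOf_injective S.phi S.inj]
  exact orderOf_eq_prime (by decide +kernel) (by decide +kernel)

theorem phi_commute {x y : M35} (h : x * y = y * x) : Commute (S.phi x) (S.phi y) := by
  rw [commute_iff_eq, ← map_mul, ← map_mul, h]

theorem r0_comm_z : Commute S.r0 S.z := S.phi_commute (by decide +kernel)

theorem r0_comm_a : Commute S.r0 S.a := S.phi_commute (by decide +kernel)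

theorem cw_r0 : S.cw S.r0 = S.r0 := by
  refine S.eq_r0_of_invol ?_ ?_ ?_
  · rw [orderOf_injective S.cw S.cw_inj, S.r0_order]
  · have := S.r0_comm_a.map S.cw
    rwa [show S.cw S.a = S.z from S.waw] at this
  · have := S.r0_comm_z.map S.cw
    rwa [show S.cw S.z = S.a from S.wzw] at this

theorem w_comm_r0 : Commute S.w S.r0 := by
  have h := S.cw_r0
  rw [cw_apply] at h
  calc S.w * S.r0 = S.w * S.r0 * (S.w * S.w) := by rw [S.ww, mul_one]
    _ = S.r0 * S.w := by rw [← mul_assoc, h]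

theorem w_comm_y : Commute S.w S.y := by
  have h : S.cw S.y = S.y := by
    rw [← S.z_mul_a, map_mul, cw_apply, cw_apply, S.wzw, S.waw, S.a_mul_z, S.z_mul_a]
  rw [cw_apply] at h
  calc S.w * S.y = S.w * S.y * (S.w * S.w) := by rw [S.ww, mul_one]
    _ = S.y * S.w := by rw [← mul_assoc, h]

theorem mem_D_of_comm_y {g : G} (h : Commute g S.y) (h3 : g ^ 3 = 1) : g ∈ S.D := by
  obtain ⟨x, hx, hg⟩ := S.nD g (S.cy g h)
  have hK : g = S.phi x := by
    refine hg.resolve_right fun e => ?_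
    obtain ⟨x', -, e'⟩ := S.cw_NK hx
    rw [cw_apply] at e'
    rw [e, pow_succ, pow_two, show S.w * S.phi x * (S.w * S.phi x) = S.phi (x' * x) by
      rw [map_mul, ← e']; group] at h3
    refine S.w_not_range_NK (x := (x' * x)⁻¹ * x⁻¹) ?_
    rw [map_mul, map_inv, map_inv]
    refine eq_mul_inv_of_mul_eq ?_
    exact eq_inv_of_mul_eq_one_right h3
  subst hK
  rw [S.phi_mem_D]
  have key : ∀ x : M35, NK x.2 → x * (c3, a5) = (c3, a5) * x → x * x * x = 1 → InD x := by
    decide +kernel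
  refine key x hx (S.inj ?_) (S.inj ?_)
  · rw [map_mul, map_mul]; exact h
  · rw [map_mul, map_mul, map_one, ← pow_two, ← pow_succ]; exact h3

theorem y_ne_one : S.y ≠ 1 := by
  rw [y, Ne, map_eq_one_iff S.phi S.inj]
  decide +kernel

theorem D_comm {x y : G} (hx : x ∈ S.D) (hy : y ∈ S.D) : Commute x y := by
  obtain ⟨u, hu, rfl⟩ := hx
  obtain ⟨v, hv, rfl⟩ := hy
  obtain ⟨u1, u2⟩ := u
  obtain ⟨v1, v2⟩ := v
  refine S.phi_commute ?_
  obtain ⟨rfl | rfl | rfl, rfl | rfl | rfl⟩ := hu <;>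
    obtain ⟨rfl | rfl | rfl, rfl | rfl | rfl⟩ := hv <;> decide +kernel

theorem y_pow : S.y ^ 3 = 1 := by
  rw [y, ← map_pow, map_eq_one_iff S.phi S.inj]
  decide +kernel

theorem D_pow {x : G} (hx : x ∈ S.D) : x ^ 3 = 1 := by
  obtain ⟨u, hu, rfl⟩ := hx
  obtain ⟨u1, u2⟩ := u
  rw [← map_pow, map_eq_one_iff S.phi S.inj]
  obtain ⟨rfl | rfl | rfl, rfl | rfl | rfl⟩ := hu <;> decide +kernel

/-- The only conjugate of `r₀` centralising an element of type `y` is `r₀`. -/
theorem eq_r0_of_comm_y {u : G} (hu : IsConj S.r0 u) (hy : Commute u S.y) : u = S.r0 := by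
  classical
  haveI : Fact (Nat.Prime 3) := ⟨Nat.prime_three⟩
  obtain ⟨g, rfl⟩ := isConj_iff.1 hu
  set C := Subgroup.centralizer ({g * S.r0 * g⁻¹} : Set G)
  have hgD : S.D.map (MulAut.conj g).toMonoidHom ≤ C := by
    rintro _ ⟨x, hx, rfl⟩
    refine Subgroup.mem_centralizer_singleton_iff.2 ?_
    simp only [MulEquiv.coe_toMonoidHom, MulAut.conj_apply]
    have hc : Commute x S.r0 := by
      obtain ⟨v, hv, rfl⟩ := hx
      obtain ⟨v1, v2⟩ := v
      refine S.phi_commute ?_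
      obtain ⟨rfl | rfl | rfl, rfl | rfl | rfl⟩ := hv <;> decide +kernel
    exact ((hc.map (MulAut.conj g).toMonoidHom).eq)
  have hD3 : IsPGroup 3 (S.D.map (MulAut.conj g).toMonoidHom) := by
    refine IsPGroup.of_card (n := 2) ?_
    rw [Subgroup.card_map_of_injective (MulAut.conj g).injective, S.card_D]
    norm_num
  have hyC : S.y ∈ C := Subgroup.mem_centralizer_singleton_iff.2 hy.eq.symm
  have hyp : IsPGroup 3 (Subgroup.zpowers (⟨S.y, hyC⟩ : C)) := by
    refine IsPGroup.of_card (n := 1) ?_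
    rw [Nat.card_zpowers, Subgroup.orderOf_mk, orderOf_eq_prime S.y_pow S.y_ne_one, pow_one]
  obtain ⟨Q, hQ⟩ := hyp.exists_le_sylow
  set Q' := (Q : Subgroup C).map C.subtype with hQ'
  have hQcard : Nat.card Q' = Nat.card Q := Subgroup.card_map_of_injective C.subtype_injective
  have h9 : 9 ≤ Nat.card Q' := by
    obtain ⟨R, hR⟩ := (hD3.comap_subtype (K := C)).exists_le_sylow
    rw [hQcard, Sylow.card_eq_multiplicity, ← Sylow.card_eq_multiplicity R]
    refine le_trans (le_of_eq ?_) (Subgroup.card_le_of_le hR)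
    rw [← Subgroup.card_map_of_injective C.subtype_injective,
      Subgroup.map_comap_eq_self (by rwa [Subgroup.range_subtype]),
      Subgroup.card_map_of_injective (MulAut.conj g).injective, S.card_D]
  obtain ⟨k, hk⟩ := S.sylow3 Q' (Q.isPGroup'.map C.subtype)
  have hyQ : S.y ∈ Q' := ⟨⟨S.y, hyC⟩, hQ (Subgroup.mem_zpowers _), rfl⟩
  have hQD : Q' ≤ S.D := by
    intro x hx
    refine S.mem_D_of_comm_y ?_ ?_
    · have := (S.D_comm (hk x hx) (hk _ hyQ)).map (MulAut.conj k⁻¹).toMonoidHom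
      simpa [mul_assoc] using this
    · have := S.D_pow (hk x hx)
      rwa [conj_pow, conj_eq_one_iff] at this
  have hQeq : Q' = S.D := Subgroup.eq_of_le_of_card_ge hQD (by rw [S.card_D]; exact h9)
  have hin : ∀ x ∈ S.D, Commute (g * S.r0 * g⁻¹) x := by
    intro x hx
    rw [← hQeq] at hx
    obtain ⟨c, -, rfl⟩ := hx
    exact (Subgroup.mem_centralizer_singleton_iff.1 c.2).symm
  exact S.eq_r0_of_invol ((orderOf_injective (MulAut.conj g).toMonoidHom
    (MulAut.conj g).injective S.r0).trans S.r0_order) (hin _ S.z_mem) (hin _ S.a_mem)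

end Setting

end CfsgLib.Recog.SymEight
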